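import Cfsg.Agent.Lib.FeitSmall.Perfect

/-!
# At least three classes in the second case
-/

namespace CfsgLib.FeitSmall

open Cfsg CfsgLib.Blocks CfsgLib.Blocks.DefectOne CfsgLib.CharTheory CfsgLib.CharTheory.SmallDegree
open CfsgLib.SmallSylow Finset
open scoped commutatorElement

set_option linter.unusedVariables false
set_option linter.style.haveILetI false
set_option linter.unusedSectionVars false

universe u

variable {p : ℕ} [Fact p.Prime]

/-- The Sylow subgroup lies in the derived subgroup. -/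
theorem Data.le_commutator {G : Type u} [Group G] [Fintype G] {P : Sylow p G} {x : G} {e t : ℕ}
    (D : Data P x e t) (he2 : 2 ≤ e) : (P : Subgroup G) ≤ commutator G := by
  haveI : NeZero e := ⟨D.A.epos⟩
  obtain ⟨a₀, ha₀⟩ := D.A.exists_root
  obtain ⟨n, -, hn⟩ := (D.exps a₀).1 (mem_rts.2 ha₀.pow_eq_one)
  have hy : xp x (a₀ - 1) ∈ commutator G := by
    have h1 : xp x (a₀ - 1) = ⁅n, x⁆ := by
      rw [commutatorElement_def, hn, eq_mul_inv_iff_mul_eq]
      nth_rw 2 [← xp_one (p := p) (x := x)]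
      rw [← xp_add D.pow, sub_add_cancel]
    rw [h1]
    exact Subgroup.commutator_mem_commutator (Subgroup.mem_top _) (Subgroup.mem_top _)
  have hy1 : xp x (a₀ - 1) ≠ 1 := fun h => ha₀.ne_one he2
    (sub_eq_zero.1 (D.xp_inj (h.trans xp_zero.symm)))
  rw [← (CfsgLib.Blocks.DefectOne.zpowers_eq D.setup D.hP (D.xp_mem _) hy1).1, Subgroup.zpowers_le]
  exact hy

/-- With at least three classes either `e = 2` or `e + 3 ≤ t` and the centre has even order. -/
theorem bigT (hp11 : 11 ≤ p) : ∀ (n : ℕ) (G : Type u) [Group G] [Fintype G], Nat.card G = n →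
    ∀ (P : Sylow p G) (x : G) (e t : ℕ), Data P x e t → ∀ ζ : IrrCharacter G,
      (∀ g : G, (ζ : G → ℂ) g = (ζ : G → ℂ) 1 → g = 1) → ¬ (P : Subgroup G).Normal →
      Compl (P : Subgroup G) (Subgroup.center G) → ∀ a : ZMod p, a ≠ 0 →
      Shape x e (ζ : G → ℂ) a 1 (-1) → 3 ≤ t → 2 ≤ e →
      e = 2 ∨ (Odd e ∧ e + 3 ≤ t ∧ ¬ Odd (Nat.card (Subgroup.center G))) := by
  intro n
  induction n using Nat.strong_induction_on with
  | _ n IH =>
  intro G _ _ hn P x e t D ζ hfaith hnn hH a ha hS ht he2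
  classical
  haveI : NeZero e := ⟨D.A.epos⟩
  by_cases hG : commutator G = ⊤
  · exact perfect_caseB D hG (by omega) he2 ht ζ hfaith hH ha hS
  have hdeg := hS.degree D.A ha
  set L := commutator G with hL
  letI : Fintype L := Fintype.ofFinite _
  have hPL : (P : Subgroup G) ≤ L := D.le_commutator he2
  obtain ⟨hirr, hnnL⟩ := restrict_irreducible D ζ hfaith hnn (by omega) (by omega) L hPL
  set P' : Sylow p L := P.subtype hPL with hP'
  have hP'c : (P' : Subgroup L) = (P : Subgroup G).subgroupOf L := rfl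
  have hcard : Nat.card P' = p := by
    show Nat.card (P' : Subgroup L) = p
    rw [hP'c, Nat.card_congr (Subgroup.subgroupOfEquivOfLe hPL).toEquiv]
    exact D.hP
  rw [← hP'c] at hnnL
  obtain ⟨x', e', t', D'⟩ := exists_data P' hcard
  let ζ' : IrrCharacter L := ⟨fun g : L => (ζ : G → ℂ) g, hirr⟩
  have hfaith' : ∀ g : L, (ζ' : L → ℂ) g = (ζ' : L → ℂ) 1 → g = 1 := fun g hg =>
    Subtype.ext (hfaith g hg)
  have hdeg' : charDegree (ζ' : L → ℂ) = charDegree (ζ : G → ℂ) := by
    apply Nat.cast_injective (R := ℂ)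
    rw [irr_charDegree_cast, irr_charDegree_cast]
    rfl
  obtain ⟨M, hM⟩ := exists_isPModular (Fact.out : p.Prime)
  letI : Fintype (P' : Subgroup L) := Fintype.ofFinite _
  letI : Fintype (cen (P' : Subgroup L)) := Fintype.ofFinite _
  letI : Fintype (Subgroup.center L) := Fintype.ofFinite _
  have hA := D.A.mul
  have h3 : 3 * e ≤ t * e := Nat.mul_le_mul_right e ht
  rcases structure_cases D' hM ζ' hfaith' (by omega) (D'.inf_center hnnL) with
    ⟨b, hb, hA'⟩ | ⟨-, hH', b, hb, hS'⟩
  · exfalso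
    have h1 := (caseA_degree D' (by omega) ζ' hfaith' (by omega) hnnL hb hA').2
    omega
  · have he' := hS'.degree D'.A hb
    have hee : e' = e := by omega
    subst hee
    have hA2 := D'.A.mul
    have htt : t' = t := Nat.eq_of_mul_eq_mul_right (Nat.pos_of_ne_zero D.A.epos) (by omega)
    subst htt
    have hlt : Nat.card L < n := by
      rw [← hn]
      rcases (Subgroup.card_le_card_group L).lt_or_eq with h | h
      · exact h
      · exact absurd (Subgroup.eq_top_of_card_eq L h) hG
    rcases IH _ hlt L rfl P' x' e' t' D' ζ' hfaith' hnnL hH' b hb hS' ht he2 with h | ⟨ho, hle, hZ⟩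
    · exact Or.inl h
    · refine Or.inr ⟨ho, hle, fun hodd => hZ (hodd.of_dvd_nat ?_)⟩
      rw [← Subgroup.card_map_of_injective (f := L.subtype) Subtype.val_injective]
      exact Subgroup.card_dvd_of_le (center_map_le ζ hfaith L hirr)

end CfsgLib.FeitSmall
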