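import Cfsg.Agent.Lib.SmallRep.Equality

/-!
# A three-dimensional orthogonal representation from a small nilpotency degree

The argument of Feit and Thompson only needs `(σ x - 1) ^ m = 0` with `2 m < p` for a modular
representation `σ` of degree less than `p`, together with a faithful complex representation of
degree less than `p - 1`.
-/

namespace CfsgLib.FeitSmall

open Matrix CfsgLib.SmallRep CfsgLib.Dickson

set_option linter.unusedSectionVars false
set_option linter.unusedVariables false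
set_option linter.style.haveILetI false

universe u

variable {p : ℕ} [hp : Fact p.Prime]

section modular

variable {k : Type*} [Field k] {f : ℕ}

variable {G : Type*} [Group G]

theorem adRep_nilpotent_gen [CharP k p] {m : ℕ} (σ : G →* Matrix (Fin f) (Fin f) k) {x : G}
    (hX : (σ x - 1) ^ m = 0) : (adRep σ x - 1) ^ (2 * m - 1) = 0 := by
  let A : Module.End k (Matrix (Fin f) (Fin f) k) := LinearMap.mulLeft k (σ x - 1)
  let B : Module.End k (Matrix (Fin f) (Fin f) k) := LinearMap.mulRight k (σ x - 1)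
  let Z : Module.End k (Matrix (Fin f) (Fin f) k) := LinearMap.mulRight k (σ x⁻¹)
  have h1 : σ x * σ x⁻¹ = 1 := by rw [← map_mul, mul_inv_cancel, map_one]
  have h2 : σ x⁻¹ * σ x = 1 := by rw [← map_mul, inv_mul_cancel, map_one]
  have hAB : Commute A B := LinearMap.ext fun β => (mul_assoc _ _ _).symm
  have hY : adRep σ x - 1 = (A - B) * Z := by
    refine LinearMap.ext fun β => ?_
    show σ x * β * σ x⁻¹ - β = (σ x - 1) * (β * σ x⁻¹) - β * σ x⁻¹ * (σ x - 1)
    rw [sub_mul, mul_sub, one_mul, mul_one, mul_assoc β, h2, mul_one, mul_assoc]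
    abel
  have haai : Commute (σ x) (σ x⁻¹) := h1.trans h2.symm
  have hcomm : Commute (A - B) Z := by
    refine LinearMap.ext fun β => ?_
    show (σ x - 1) * (β * σ x⁻¹) - β * σ x⁻¹ * (σ x - 1) =
      ((σ x - 1) * β - β * (σ x - 1)) * σ x⁻¹
    rw [sub_mul ((σ x - 1) * β), mul_assoc (σ x - 1), mul_assoc β (σ x⁻¹), mul_assoc β (σ x - 1),
      (haai.sub_left (Commute.one_left _)).eq]
  have hA : A ^ m = 0 := LinearMap.ext fun β => by
    simp only [A, LinearMap.pow_mulLeft, LinearMap.mulLeft_apply, hX, zero_mul,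
      LinearMap.zero_apply]
  have hB : B ^ m = 0 := LinearMap.ext fun β => by
    simp only [B, LinearMap.pow_mulRight, LinearMap.mulRight_apply, hX, mul_zero,
      LinearMap.zero_apply]
  rw [hY, hcomm.mul_pow, sub_eq_add_neg,
    hAB.neg_right.add_pow_eq_zero_of_add_le_succ_of_pow_eq_zero hA
      ((neg_pow B m).trans (by rw [hB, mul_zero]) : (-B) ^ m = 0) (by omega), zero_mul]

/-- Existence of the summand. -/
theorem exists_summand_gen [CharP k p] {X : (Matrix (Fin f) (Fin f) k)} {m : ℕ} (hX0 : X ≠ 0) (hXf : X ^ m = 0) (hf : 2 * m < p) (hfp : f < p)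
    {Q : Type*} [Group Q] [Finite Q] (hQ : ¬ p ∣ Nat.card Q) (ρ : Q →* (Matrix (Fin f) (Fin f) k)ˣ) (w : Q → ℕ)
    (hw : ∀ q, (ρ q).val * (1 + X) * ((ρ q)⁻¹).val = (1 + X) ^ w q) :
    Nonempty (Summand (1 + X) (Set.range ρ)) := by
  haveI := Fintype.ofFinite Q
  set l := log k p X with hl
  have hf2 : 2 ≤ m := by
    rcases Nat.lt_or_ge m 2 with h | h
    · exfalso; apply hX0
      simpa using pow_eq_zero_of_le (show m ≤ 1 by omega) hXf
    · exact h
  have hXp : X ^ p = 0 := pow_eq_zero_of_le (by omega) hXf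
  have hlf : l ^ m = 0 := log_pow_eq_zero hXf
  have hl0 : l ≠ 0 := log_ne_zero ⟨m, hXf⟩ (by omega) hX0
  classical
  obtain ⟨n, hn1, hnf, hln, hN⟩ : ∃ n, 1 ≤ n ∧ n + 1 ≤ m ∧ l ^ (n + 1) = 0 ∧ l ^ n ≠ 0 := by
    have hex : ∃ j, l ^ (j + 1) = 0 := ⟨m - 1, by rw [Nat.sub_add_cancel (by omega)]; exact hlf⟩
    refine ⟨Nat.find hex, ?_, ?_, Nat.find_spec hex, ?_⟩
    · by_contra h
      have h1 := Nat.find_spec hex
      rw [show Nat.find hex = 0 by omega, zero_add, pow_one] at h1
      exact hl0 h1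
    · have := Nat.find_le (h := hex) (n := m - 1) (by rw [Nat.sub_add_cancel (by omega)]; exact hlf)
      omega
    · intro h
      rcases Nat.eq_zero_or_pos (Nat.find hex) with h0 | h0
      · rw [h0, pow_zero] at h
        exact hl0 (by rw [← mul_one l, h, mul_zero])
      · exact Nat.find_min hex (Nat.sub_lt h0 one_pos) (by rwa [Nat.sub_add_cancel (Nat.one_le_of_lt h0)])
  have hconj : ∀ q, (ρ q).val * l * ((ρ q)⁻¹).val = (w q : k) • l := fun q => log_conj hXp (hw q)
  let c : Q → k := fun q => (w q : k)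
  have hcmul : ∀ q q', c (q * q') = c q * c q' := by
    intro q q'
    refine smul_left_injective k hl0 ?_
    show c (q * q') • l = (c q * c q') • l
    have e := hconj (q * q')
    rw [map_mul, _root_.mul_inv_rev, Units.val_mul, Units.val_mul,
      show (ρ q).val * (ρ q').val * l * (((ρ q')⁻¹).val * ((ρ q)⁻¹).val) =
        (ρ q).val * ((ρ q').val * l * ((ρ q')⁻¹).val) * ((ρ q)⁻¹).val by simp only [mul_assoc],
      hconj, mul_smul_comm, smul_mul_assoc, hconj, smul_smul] at e
    rw [← e, mul_comm]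
  have hc1 : c 1 = 1 := by
    refine smul_left_injective k hl0 ?_
    show c 1 • l = (1 : k) • l
    rw [← hconj 1, map_one, inv_one, Units.val_one, one_mul, mul_one, one_smul]
  have hc0 : ∀ q, c q ≠ 0 := fun q h => by
    have := hcmul q q⁻¹
    rw [h, zero_mul, mul_inv_cancel, hc1] at this
    exact one_ne_zero this
  obtain ⟨r₀, hr₀⟩ := exists_inner_inverse (l ^ n)
  have hcard : (Fintype.card Q : k) ≠ 0 := by
    rw [Ne, CharP.cast_eq_zero_iff k p, ← Nat.card_eq_fintype_card]; exact hQ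
  set r : (Matrix (Fin f) (Fin f) k) := (Fintype.card Q : k)⁻¹ • ∑ q : Q, c q ^ n • ((ρ q).val * r₀ * ((ρ q)⁻¹).val) with hr
  have hNq : ∀ q, (ρ q).val * l ^ n * ((ρ q)⁻¹).val = c q ^ n • l ^ n := fun q => by
    rw [← Units.conj_pow, hconj, smul_pow]
  have hrN : l ^ n * r * l ^ n = l ^ n := by
    rw [hr, mul_smul_comm, smul_mul_assoc, Finset.mul_sum, Finset.sum_mul,
      Finset.sum_congr rfl fun q _ => show l ^ n * (c q ^ n • ((ρ q).val * r₀ * ((ρ q)⁻¹).val)) * l ^ n
        = l ^ n by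
        have hs : l ^ n = (c q ^ n)⁻¹ • ((ρ q).val * l ^ n * ((ρ q)⁻¹).val) := by
          rw [hNq, smul_smul, inv_mul_cancel₀ (pow_ne_zero _ (hc0 q)), one_smul]
        nth_rewrite 1 2 [hs]
        simp only [smul_mul_assoc, mul_smul_comm, smul_smul]
        rw [show ((ρ q).val * l ^ n * ((ρ q)⁻¹).val) * ((ρ q).val * r₀ * ((ρ q)⁻¹).val) *
            ((ρ q).val * l ^ n * ((ρ q)⁻¹).val) = (ρ q).val * (l ^ n * r₀ * l ^ n) * ((ρ q)⁻¹).val by
          simp only [mul_assoc, Units.inv_mul_cancel_left], hr₀, hNq, smul_smul]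
        have := pow_ne_zero n (hc0 q)
        field_simp
        simp,
      Finset.sum_const, Finset.card_univ, ← Nat.cast_smul_eq_nsmul k, smul_smul,
      inv_mul_cancel₀ hcard, one_smul]
  have hrq : ∀ q, (ρ q).val * r * ((ρ q)⁻¹).val = (c q ^ n)⁻¹ • r := fun q => by
    rw [hr, mul_smul_comm, smul_mul_assoc, smul_comm, Finset.mul_sum, Finset.sum_mul]
    congr 1
    rw [Finset.smul_sum]
    refine Fintype.sum_equiv (Equiv.mulLeft q) _ _ fun s => ?_
    simp only [Equiv.coe_mulLeft, hcmul, mul_pow, smul_smul, mul_smul_comm, smul_mul_assoc]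
    rw [map_mul, _root_.mul_inv_rev, Units.val_mul, Units.val_mul, ← mul_assoc (c q ^ n)⁻¹,
      inv_mul_cancel₀ (pow_ne_zero _ (hc0 q)), one_mul]
    simp only [mul_assoc]
  have hcd : ∀ q, c q ^ n * (c q ^ n)⁻¹ = 1 := fun q => mul_inv_cancel₀ (pow_ne_zero _ (hc0 q))
  obtain ⟨t, ht0, htf, htr⟩ := exists_nat_trace (e := r * l ^ n)
    (by rw [mul_assoc, ← mul_assoc (l ^ n), hrN])
    (fun h => hN (by rw [← hrN, mul_assoc, h, mul_zero]))
  set A₀ := tA l r n with hA₀
  set F₀ := tF l r n with hF₀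
  have hac : (A₀ * F₀).trace ≠ 0 := fun h0 => by
    have := trace_tA_tF hln hrN
    rw [h0, mul_zero, htr, eq_comm, mul_eq_zero, mul_eq_zero, mul_eq_zero] at this
    rcases this with ((h | h) | h) | h
    · exact natCast_ne_zero_of_lt (k := k) (p := p) (i := n) (by omega) (by omega) h
    · exact natCast_ne_zero_of_lt (k := k) (p := p) (i := n + 1) (by omega) (by omega)
        (by push_cast; exact h)
    · exact natCast_ne_zero_of_lt (k := k) (p := p) (i := n + 2) (by omega) (by omega)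
        (by push_cast; exact h)
    · exact natCast_ne_zero_of_lt (k := k) (p := p) (i := t) ht0 (by omega) h
  have hlA : l * A₀ = A₀ * l := commute_tA hln
  set F : (Matrix (Fin f) (Fin f) k) := F₀ - ((2 : k)⁻¹ * (F₀ * F₀).trace / (A₀ * F₀).trace) • A₀ with hF
  have h2 : (2 : k) ≠ 0 := by
    have := natCast_ne_zero_of_lt (k := k) (p := p) (i := 2) (by omega) (by omega); simpa using this
  have hFF : l * F - F * l = l * F₀ - F₀ * l := by
    rw [hF, mul_sub, sub_mul, mul_smul_comm, smul_mul_assoc, hlA]; abel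
  have hsq := ad_sq_tF (r := r) hln
  have haa : (A₀ * A₀).trace = 0 := by
    have e : (((2 : k) • A₀) * A₀).trace = 0 := by
      rw [show (2 : k) • A₀ = -(l * (l * F₀ - F₀ * l) - (l * F₀ - F₀ * l) * l) by
        rw [hsq, neg_neg], neg_mul, trace_neg, sub_mul, trace_sub, mul_assoc l,
        trace_mul_comm l, mul_assoc, mul_assoc, ← hlA, sub_self, neg_zero]
    rw [smul_mul_assoc, trace_smul, smul_eq_mul] at e
    exact (mul_eq_zero.1 e).resolve_left h2
  refine exists_summand_aux (l := l) (a := A₀) (b := l * F - F * l) (c := F) rfl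
    (pow_eq_zero_of_le (by omega) hXf) (by omega) rfl (by rw [hFF]; exact hsq) hlA ?_ ?_ _ ?_
  · rw [hF, mul_sub, mul_smul_comm, trace_sub, trace_smul, haa, smul_zero, sub_zero]; exact hac
  · rw [hF]
    simp only [mul_sub, sub_mul, mul_smul_comm, smul_mul_assoc, trace_sub, trace_smul, smul_eq_mul,
      haa, mul_zero, sub_zero, trace_mul_comm F₀ A₀]
    field_simp
    ring
  · rintro _ ⟨q, rfl⟩
    have ea := conj_tA (hconj q) (hrq q) (hcd q)
    have ec := conj_tF (hconj q) (hrq q) (hcd q) (hc0 q)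
    have hFc : (ρ q).val * F * ((ρ q)⁻¹).val = (c q)⁻¹ • F := by
      rw [hF, mul_sub, sub_mul, mul_smul_comm, smul_mul_assoc, hA₀, ea, hF₀, ec, ← hA₀, ← hF₀,
        smul_sub, smul_smul, smul_smul]
      rcases eq_or_ne (F₀ * F₀).trace 0 with h0 | h0
      · simp [h0, c]
      · have e : ((ρ q).val * (F₀ * F₀) * ((ρ q)⁻¹).val).trace = (F₀ * F₀).trace := trace_units_conj _ _
        rw [show (ρ q).val * (F₀ * F₀) * ((ρ q)⁻¹).val =
            ((ρ q).val * F₀ * ((ρ q)⁻¹).val) * ((ρ q).val * F₀ * ((ρ q)⁻¹).val) by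
          simp only [mul_assoc, Units.inv_mul_cancel_left], hF₀, ec, ← hF₀, smul_mul_assoc,
          mul_smul_comm, smul_smul, trace_smul, smul_eq_mul] at e
        have e' : (c q)⁻¹ * (c q)⁻¹ = 1 := mul_right_cancel₀ h0 (e.trans (one_mul _).symm)
        have e'' : (c q)⁻¹ = c q := (eq_inv_of_mul_eq_one_left e').trans (inv_inv _)
        rw [e'', mul_comm (c q)]
    refine ⟨c q, hc0 q, ea, ?_, hFc⟩
    rw [mul_sub, sub_mul,
      show (ρ q).val * (l * F) * ((ρ q)⁻¹).val = ((ρ q).val * l * ((ρ q)⁻¹).val) * ((ρ q).val * F * ((ρ q)⁻¹).val) by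
        simp only [mul_assoc, Units.inv_mul_cancel_left],
      show (ρ q).val * (F * l) * ((ρ q)⁻¹).val = ((ρ q).val * F * ((ρ q)⁻¹).val) * ((ρ q).val * l * ((ρ q)⁻¹).val) by
        simp only [mul_assoc, Units.inv_mul_cancel_left], hFc, hconj]
    simp only [smul_mul_assoc, mul_smul_comm, smul_smul, c]
    rw [inv_mul_cancel₀ (hc0 q), mul_inv_cancel₀ (hc0 q), one_smul, one_smul]

end modular

/-- An orthogonal three-dimensional representation from a faithful modular one. -/
theorem exists_orth_gen {G : Type*} [Group G] [Finite G] {x : G} (hx : orderOf x = p)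
    (hidx : ¬ p ∣ (Subgroup.zpowers x).index) {k : Type*} [Field k] [CharP k p] {f : ℕ}
    {m : ℕ} (σ : G →* Matrix (Fin f) (Fin f) k) (hσx : σ x ≠ 1) (hf : 2 * m < p) (hfp : f < p)
    (hXf : (σ x - 1) ^ m = 0) :
    ∃ (τ : G →* Matrix (Fin 3) (Fin 3) k) (J : Matrix (Fin 3) (Fin 3) k),
      Jᵀ = J ∧ J.det ≠ 0 ∧ (∀ g, (τ g)ᵀ * J * τ g = J) ∧
        (τ x - 1) ^ 2 ≠ 0 ∧ (τ x - 1) ^ 3 = 0 := by
  classical
  set P := Subgroup.zpowers x with hP
  have hf1 : f ≠ 0 := fun h => by subst h; exact hσx (Matrix.ext fun i => i.elim0)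
  have hm1 : m ≠ 0 := fun h => by
    subst h
    rw [pow_zero] at hXf
    exact hσx (by rw [← mul_one (σ x), hXf, mul_zero])
  have hxp : x ^ p = 1 := by rw [← hx, pow_orderOf_eq_one]
  set N := Subgroup.normalizer (P : Set G) with hN
  have hPN : P ≤ N := Subgroup.le_normalizer
  have hcP : Nat.card (P.subgroupOf N) = p := by
    rw [Nat.card_congr (Subgroup.subgroupOfEquivOfLe hPN).toEquiv, hP, Nat.card_zpowers, hx]
  have hrel : ¬ p ∣ (P.subgroupOf N).index := fun h =>
    hidx (h.trans (Subgroup.relIndex_dvd_index_of_le hPN))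
  haveI : (P.subgroupOf N).Normal := Subgroup.normal_in_normalizer
  obtain ⟨Q, hQ⟩ := Subgroup.exists_right_complement'_of_coprime (N := P.subgroupOf N)
    (by rw [hcP]; exact hp.out.coprime_iff_not_dvd.2 hrel)
  have hQcard : ¬ p ∣ Nat.card Q := by rwa [← hQ.symm.index_eq_card]
  have hwex : ∀ q : Q, ∃ w : ℕ, ((q : N) : G) * x * ((q : N) : G)⁻¹ = x ^ w := fun q => by
    have h1 : ((q : N) : G) * x * ((q : N) : G)⁻¹ ∈ P :=
      (Subgroup.mem_normalizer_iff.1 (q : N).2 x).1 (Subgroup.mem_zpowers x)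
    obtain ⟨w, hw⟩ := mem_powers_iff_mem_zpowers.2 h1
    exact ⟨w, hw.symm⟩
  choose w hw using hwex
  set A := σ x with hA
  have hAp : A ^ p = 1 := by rw [hA, ← map_pow, hxp, map_one]
  let ρQ : Q →* (Matrix (Fin f) (Fin f) k)ˣ :=
    σ.toHomUnits.comp (N.subtype.comp Q.subtype)
  obtain ⟨S⟩ := exists_summand_gen (X := A - 1) (sub_ne_zero.2 hσx) hXf hf hfp hQcard ρQ w (fun q => by
    rw [add_sub_cancel]
    have h1 := congrArg σ (hw q)
    rw [map_mul, map_mul, map_pow] at h1
    rw [show ((ρQ q)⁻¹).val = σ ((q : N) : G)⁻¹ by rw [← map_inv]; rfl]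
    exact h1)
  obtain ⟨π, a, b, c, fa, fb, fc, hrange, hadj, hind, aA, aB, aC, hApi, hcomm⟩ := S
  rw [add_sub_cancel] at aA aB aC hApi
  let Ad := adRep σ
  have hinvσ : ∀ g, σ g * σ g⁻¹ = 1 := fun g => by rw [← map_mul, mul_inv_cancel, map_one]
  have hinvσ' : ∀ g, σ g⁻¹ * σ g = 1 := fun g => by rw [← map_mul, inv_mul_cancel, map_one]
  have hinvβ : ∀ g B D, trForm (Ad g B) (Ad g D) = trForm B D := fun g B D => by
    rw [trForm_apply, trForm_apply, adRep_apply, adRep_apply,
      show σ g * B * σ g⁻¹ * (σ g * D * σ g⁻¹) = σ g * (B * (σ g⁻¹ * σ g) * D) * σ g⁻¹ by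
        simp only [mul_assoc], hinvσ', mul_one, Matrix.trace_mul_comm, ← mul_assoc, hinvσ', one_mul]
  let π' : Module.End k (Matrix (Fin f) (Fin f) k) := π
  have hπN : ∀ g ∈ N, Commute (Ad g) π' := by
    intro g hg
    have hx' : Commute (Ad x) π' := LinearMap.ext fun B => by
      show σ x * π B * σ x⁻¹ = π (σ x * B * σ x⁻¹)
      have h := hApi B (σ x * B * σ x⁻¹) (by rw [mul_assoc _ (σ x⁻¹), hinvσ', mul_one])
      rw [← hA] at *
      rw [h, mul_assoc, hA, hinvσ, mul_one]
    obtain ⟨⟨u, q⟩, huq⟩ := hQ.2 ⟨g, hg⟩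
    have e : g = ((u : N) : G) * ((q : N) : G) := (congrArg Subtype.val huq).symm
    rw [e, map_mul]
    refine Commute.mul_left ?_ ?_
    · obtain ⟨s, hs⟩ := mem_powers_iff_mem_zpowers.2 (Subgroup.mem_subgroupOf.1 u.2)
      rw [← hs, map_pow]
      exact hx'.pow_left s
    · refine LinearMap.ext fun B => ?_
      show σ ((q : N) : G) * π B * σ ((q : N) : G)⁻¹ =
        π (σ ((q : N) : G) * B * σ ((q : N) : G)⁻¹)
      have h := hcomm (ρQ q) ⟨q, rfl⟩ B
      have e2 : ((ρQ q)⁻¹).val = σ ((q : N) : G)⁻¹ := by rw [← map_inv]; rfl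
      rw [e2] at h
      exact h.symm
  have hπ2 : π' * π' = π' := LinearMap.ext fun B => by
    show π (π B) = π B
    refine Submodule.span_induction ?_ ?_ ?_ ?_ (hrange B)
    · rintro v (rfl | rfl | rfl) <;> assumption
    · exact map_zero π
    · intro v v' _ _ h h'; rw [map_add, h, h']
    · intro r v _ h; rw [map_smul, h]
  obtain ⟨e, u, he2, hecomm, hesym, hu, huT, heu⟩ := exists_equivariant_idempotent Ad trForm hinvβ
    hx hidx (D := 2 * m - 1) (by omega) (adRep_nilpotent_gen (p := p) σ hXf) π' hπ2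
    (fun B D => hadj B D) hπN
  obtain ⟨U, rfl⟩ := hu
  let v : Fin 3 → Matrix (Fin f) (Fin f) k := fun i => U.val (![a, b, c] i)
  have hUinj : Function.Injective U.val := fun B D h => by
    have := congrArg (U⁻¹).val h
    rwa [← Module.End.mul_apply, ← Module.End.mul_apply, Units.inv_mul] at this
  have hv : LinearIndependent k v := hind.map' U.val (LinearMap.ker_eq_bot.2 hUinj)
  have hev : ∀ i, e (v i) = v i := fun i => by
    show e (U.val _) = U.val _
    rw [← Module.End.mul_apply, heu, Module.End.mul_apply]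
    congr 1
    fin_cases i <;> assumption
  have hespan : ∀ B, e B ∈ Submodule.span k (Set.range v) := by
    intro B
    have e1 : e B = U.val (π ((U⁻¹).val B)) := by
      show _ = U.val (π' _)
      rw [← Module.End.mul_apply, ← heu, Module.End.mul_apply, ← Module.End.mul_apply (f := U.val),
        Units.mul_inv, Module.End.one_apply]
    rw [e1]
    refine Submodule.span_induction ?_ ?_ ?_ ?_ (hrange ((U⁻¹).val B))
    · rintro z (rfl | rfl | rfl)
      · exact Submodule.subset_span ⟨0, rfl⟩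
      · exact Submodule.subset_span ⟨1, rfl⟩
      · exact Submodule.subset_span ⟨2, rfl⟩
    · rw [map_zero]; exact Submodule.zero_mem _
    · intro z z' _ _ h h'; rw [map_add]; exact Submodule.add_mem _ h h'
    · intro r z _ h; rw [map_smul]; exact Submodule.smul_mem _ _ h
  have hex : ∀ g j, ∃ m : Fin 3 → k, ∑ i, m i • v i = Ad g (v j) := fun g j => by
    refine (Submodule.mem_span_range_iff_exists_fun k).1 ?_
    rw [← hev j, ← Module.End.mul_apply, (hecomm g).eq, Module.End.mul_apply]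
    exact hespan _
  choose m hm using hex
  let M : G → Matrix (Fin 3) (Fin 3) k := fun g => Matrix.of fun i j => m g j i
  have huniq : ∀ (g : G) (T : Matrix (Fin 3) (Fin 3) k),
      (∀ j, Ad g (v j) = ∑ i, T i j • v i) → M g = T := by
    intro g T hT
    ext i j
    exact hv.eq_coords_of_eq (f := m g j) (g := fun i => T i j) ((hm g j).trans (hT j)) i
  let τ : G →* Matrix (Fin 3) (Fin 3) k :=
    { toFun := M
      map_one' := huniq 1 1 fun j => by
        simp [Matrix.one_apply]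
      map_mul' := fun g h => huniq (g * h) (M g * M h) fun j => by
        rw [map_mul, Module.End.mul_apply, ← hm h j, map_sum]
        simp only [map_smul, ← hm g, Finset.smul_sum, smul_smul, Matrix.mul_apply, Finset.sum_smul]
        rw [Finset.sum_comm]
        refine Finset.sum_congr rfl fun i _ => Finset.sum_congr rfl fun l _ => ?_
        rw [mul_comm]
        rfl }
  let J : Matrix (Fin 3) (Fin 3) k := Matrix.of fun i j => trForm (v i) (v j)
  refine ⟨τ, J, ?_, ?_, fun g => ?_, ?_⟩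
  · ext i j
    show (v j * v i).trace = (v i * v j).trace
    exact Matrix.trace_mul_comm _ _
  · intro h0
    obtain ⟨z, hz, hz0⟩ := Matrix.exists_mulVec_eq_zero_iff.2 h0
    set V := ∑ j, z j • v j with hV
    have h1 : ∀ i, trForm (v i) V = 0 := fun i => by
      have := congrFun hz0 i
      simp only [Matrix.mulVec, dotProduct, Pi.zero_apply, J, Matrix.of_apply] at this
      rw [hV, map_sum]
      simp only [map_smul, smul_eq_mul]
      rw [← this]
      exact Finset.sum_congr rfl fun j _ => mul_comm _ _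
    have h2 : ∀ B, trForm B V = 0 := fun B => by
      have hVe : e V = V := by rw [hV, map_sum]; simp only [map_smul, hev]
      rw [← hVe, ← hesym]
      refine Submodule.span_induction (p := fun z _ => trForm z V = 0) ?_ ?_ ?_ ?_ (hespan B)
      · rintro _ ⟨i, rfl⟩; exact h1 i
      · simp
      · intro z z' _ _ h h'; rw [map_add, LinearMap.add_apply, h, h', add_zero]
      · intro r z _ h; rw [map_smul, LinearMap.smul_apply, h, smul_zero]
    have h3 : V = 0 := Matrix.ext_iff_trace_mul_left.2 fun B => by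
      rw [mul_zero, trace_zero]; exact h2 B
    exact hz (funext fun j => Fintype.linearIndependent_iff.1 hv z (hV ▸ h3) j)
  · ext i j
    have h1 := hinvβ g (v i) (v j)
    rw [← hm g i, ← hm g j] at h1
    simp only [map_sum, map_smul, LinearMap.coe_sum, Finset.sum_apply, LinearMap.smul_apply,
      smul_eq_mul, Finset.mul_sum] at h1
    show _ = trForm (v i) (v j)
    rw [← h1]
    simp only [Matrix.mul_apply, Matrix.transpose_apply, Finset.sum_mul]
    refine Finset.sum_congr rfl fun l _ => Finset.sum_congr rfl fun l' _ => ?_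
    show m g i l' * trForm (v l') (v l) * m g j l = _
    ring
  · have hU : ∀ B, Ad x (U.val B) = U.val (Ad x B) := fun B => by
      rw [← Module.End.mul_apply, huT.eq, Module.End.mul_apply]
    have ha : Ad x a = a := by
      rw [adRep_apply, ← hA, aA, mul_assoc, hA, hinvσ, mul_one]
    have hb : Ad x b = b - (2 : k) • a := by
      rw [adRep_apply, ← hA, aB, mul_assoc, hA, hinvσ, mul_one]
    have hc : Ad x c = c + b - a := by
      rw [adRep_apply, ← hA, aC, mul_assoc, hA, hinvσ, mul_one]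
    have hτx : τ x = !![1, -2, -1; 0, 1, 1; 0, 0, 1] := by
      refine huniq x _ fun j => ?_
      show Ad x (U.val _) = _
      rw [hU]
      fin_cases j <;>
        simp [Fin.sum_univ_three, v, ha, hb, hc, map_sub, map_add, map_smul] <;> abel
    have hd : τ x - 1 = !![0, -2, -1; 0, 0, 1; 0, 0, 0] := by
      rw [hτx]
      ext i j
      fin_cases i <;> fin_cases j <;> simp
    rw [hd]
    refine ⟨fun h => ?_, ?_⟩
    · have := congrFun (congrFun h 0) 2
      simp [sq, Matrix.mul_apply, Fin.sum_univ_three] at this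
      exact natCast_ne_zero_of_lt (k := k) (p := p) (i := 2) (by omega) (by omega)
        (by simpa using this)
    · ext i j
      fin_cases i <;> fin_cases j <;> simp [pow_succ, Matrix.mul_apply, Fin.sum_univ_three]

/-- Either the Sylow subgroup is normal, or there is a three-dimensional orthogonal representation
with a non-commuting pair of regular unipotents. -/
theorem normal_or_orth_gen {G : Type u} [Group G] [Finite G] {x : G} (hx : orderOf x = p)
    (hsq : ¬ p ^ 2 ∣ Nat.card G) {k : Type*} [Field k] [CharP k p] {f m : ℕ}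
    (σ : G →* Matrix (Fin f) (Fin f) k) (hσx : σ x ≠ 1) (hm : 2 * m < p) (hfp : f < p)
    (hXm : (σ x - 1) ^ m = 0) {d : ℕ} (R : Representation ℂ G (Fin d → ℂ))
    (hR : Function.Injective R) (hd : d + 1 < p) (hnn : ¬ (Subgroup.zpowers x).Normal) :
    ∃ (τ : G →* Matrix (Fin 3) (Fin 3) k) (J : Matrix (Fin 3) (Fin 3) k),
      Jᵀ = J ∧ J.det ≠ 0 ∧ (∀ g, (τ g)ᵀ * J * τ g = J) ∧
        (τ x - 1) ^ 2 ≠ 0 ∧ (τ x - 1) ^ 3 = 0 ∧
          ∃ g₀, τ x * τ (g₀ * x * g₀⁻¹) ≠ τ (g₀ * x * g₀⁻¹) * τ x := by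
  classical
  set P := Subgroup.zpowers x with hP
  have hPc : Nat.card P = p := by rw [hP, Nat.card_zpowers, hx]
  have hidx : ¬ p ∣ P.index := fun h => hsq (by
    rw [← P.card_mul_index, hPc, sq]; exact Nat.mul_dvd_mul_left p h)
  have hxp : x ^ p = 1 := by rw [← hx, pow_orderOf_eq_one]
  obtain ⟨τ, J, hJs, hJ, hτ, h2, h3⟩ := exists_orth_gen hx hidx σ hσx hm hfp hXm
  by_cases hne : ∃ g₀, τ x * τ (g₀ * x * g₀⁻¹) ≠ τ (g₀ * x * g₀⁻¹) * τ x
  · exact ⟨τ, J, hJs, hJ, hτ, h2, h3, hne⟩
  exfalso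
  push Not at hne
  set ψ := τ.toHomUnits with hψ
  have hψx : ψ x ≠ 1 := fun h => h2 (by
    rw [show τ x = 1 from congrArg Units.val h, sub_self, zero_pow two_ne_zero])
  have hmem : ∀ g, ψ (g * x * g⁻¹) ∈ Subgroup.zpowers (ψ x) := by
    intro g
    set C := (Subgroup.centralizer {ψ x}).comap ψ with hC
    have hxC : x ∈ C := by
      rw [hC, Subgroup.mem_comap, Subgroup.mem_centralizer_singleton_iff]
    have hyC : g * x * g⁻¹ ∈ C := by
      rw [hC, Subgroup.mem_comap, Subgroup.mem_centralizer_singleton_iff]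
      exact Units.ext (hne g).symm
    have hcard : ∀ S : Subgroup G, Nat.card S = p → ∃ T : Sylow p G, (T : Subgroup G) = S := by
      intro S hS
      obtain ⟨T, hT⟩ := (IsPGroup.of_card (n := 1) (by rw [hS, pow_one]) :
        IsPGroup p S).exists_le_sylow
      refine ⟨T, (Subgroup.eq_of_le_of_card_ge hT ?_).symm⟩
      obtain ⟨l, hl⟩ := IsPGroup.iff_card.1 T.isPGroup'
      rw [hS, hl]
      rcases Nat.lt_or_ge l 2 with hl2 | hl2
      · exact le_trans (Nat.pow_le_pow_right hp.out.pos (show l ≤ 1 by omega)) (pow_one p).le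
      · exact absurd ((pow_dvd_pow p hl2).trans (hl ▸ Subgroup.card_subgroup_dvd_card _)) hsq
    obtain ⟨T, hT⟩ := hcard P hPc
    obtain ⟨T', hT'⟩ := hcard (Subgroup.zpowers (g * x * g⁻¹)) (by
      rw [Nat.card_zpowers, ← hx]
      exact orderOf_injective (MulAut.conj g).toMonoidHom (MulAut.conj g).injective x)
    have hTC : (T : Subgroup G) ≤ C := by rw [hT, hP, Subgroup.zpowers_le]; exact hxC
    have hTC' : (T' : Subgroup G) ≤ C := by rw [hT', Subgroup.zpowers_le]; exact hyC
    obtain ⟨t, ht⟩ := MulAction.exists_smul_eq C (T'.subtype hTC') (T.subtype hTC)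
    have hmem' : t * ⟨g * x * g⁻¹, hyC⟩ * t⁻¹ ∈ ((T.subtype hTC : Sylow p C) : Subgroup C) := by
      rw [← ht, Sylow.coe_subgroup_smul]
      refine ⟨⟨g * x * g⁻¹, hyC⟩, ?_, rfl⟩
      show g * x * g⁻¹ ∈ (T' : Subgroup G)
      rw [hT']; exact Subgroup.mem_zpowers _
    have hmem'' : (t : G) * (g * x * g⁻¹) * (t : G)⁻¹ ∈ P := by
      have h6 : (t : G) * (g * x * g⁻¹) * (t : G)⁻¹ ∈ (T : Subgroup G) := hmem'
      rwa [hT] at h6
    obtain ⟨i, hi⟩ := mem_powers_iff_mem_zpowers.2 hmem''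
    have ht' : ψ (t : G) ∈ Subgroup.centralizer {ψ x} := t.2
    rw [Subgroup.mem_centralizer_singleton_iff] at ht'
    have h4 := congrArg ψ hi
    simp only [map_pow, map_mul, map_inv] at h4
    have h5 : ψ (g * x * g⁻¹) = ψ x ^ i := by
      rw [map_mul, map_mul, map_inv]
      have e : (ψ (t : G))⁻¹ * ψ x ^ i * ψ (t : G) = ψ x ^ i := by
        rw [mul_assoc, ← ((show Commute (ψ (t : G)) (ψ x) from ht').pow_right i).eq,
          inv_mul_cancel_left]
      rw [← e, h4]
      group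
    rw [h5]
    exact Subgroup.npow_mem_zpowers _ _
  set K := ψ.ker with hK
  have hKp : ¬ p ∣ Nat.card K := by
    intro h
    have h1 := K.card_mul_index
    rw [hK, Subgroup.index_ker] at h1
    have h2' : p ∣ Nat.card ψ.range := by
      have := Subgroup.orderOf_dvd_natCard ψ.range (MonoidHom.mem_range.2 ⟨x, rfl⟩)
      rwa [orderOf_eq_prime (by rw [← map_pow, hxp, map_one]) hψx] at this
    exact hsq (h1 ▸ (sq p).symm ▸ Nat.mul_dvd_mul h h2')
  have hcomm := commute_of_small hR hxp (by omega) _ K rfl hKp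
    (fun z hz => (inferInstance : ψ.ker.Normal).conj_mem z hz x)
  apply hnn
  refine ⟨fun z hz g => ?_⟩
  obtain ⟨s, rfl⟩ := Subgroup.mem_zpowers_iff.1 hz
  rw [← conj_zpow]
  refine Subgroup.zpow_mem _ ?_ s
  obtain ⟨i, hi⟩ := Subgroup.mem_zpowers_iff.1 (hmem g)
  set w := (x ^ i)⁻¹ * (g * x * g⁻¹) with hw
  have hwK : w ∈ K := MonoidHom.mem_ker.2 (by
    rw [hw, map_mul ψ, map_inv, map_zpow, hi, inv_mul_cancel])
  have hwx : Commute x w := hcomm w hwK
  have e : g * x * g⁻¹ = x ^ i * w := by rw [hw, mul_inv_cancel_left]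
  have hwp : w ^ p = 1 := by
    have h1 : (g * x * g⁻¹) ^ p = 1 := by rw [conj_pow, hxp, mul_one, mul_inv_cancel]
    rw [e, (hwx.zpow_left i).mul_pow, ← zpow_natCast (x ^ i), ← _root_.zpow_mul, mul_comm, _root_.zpow_mul,
      zpow_natCast, hxp, _root_.one_zpow, one_mul] at h1
    exact h1
  have hw1 : w = 1 := by
    rw [← orderOf_eq_one_iff]
    rcases (Nat.dvd_prime hp.out).1 (orderOf_dvd_of_pow_eq_one hwp) with h | h
    · exact h
    · exact absurd (h ▸ Subgroup.orderOf_dvd_natCard K hwK) hKp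
  rw [e, hw1, mul_one]
  exact Subgroup.zpow_mem _ (Subgroup.mem_zpowers x) i



/-- The same gives an induced exponent of order at least `(p - 1) / 2`. -/
theorem exists_big_exponent {G : Type u} [Group G] [Finite G] (hp2 : p ≠ 2) {x : G} (hx : orderOf x = p)
    (hsq : ¬ p ^ 2 ∣ Nat.card G) {k : Type*} [Field k] [IsAlgClosed k] [CharP k p] {f m : ℕ}
    (σ : G →* Matrix (Fin f) (Fin f) k) (hσx : σ x ≠ 1) (hm : 2 * m < p) (hfp : f < p)
    (hXm : (σ x - 1) ^ m = 0) {d : ℕ} (R : Representation ℂ G (Fin d → ℂ))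
    (hR : Function.Injective R) (hd : d + 1 < p) (hnn : ¬ (Subgroup.zpowers x).Normal) :
    ∃ (n : G) (j : ℕ), n * x * n⁻¹ = x ^ j ∧ (p - 1) / 2 ≤ orderOf (j : ZMod p) := by
  obtain ⟨τ, J, hJs, hJ, hτ, h2, h3, g₀, hg₀⟩ :=
    normal_or_orth_gen hx hsq σ hσx hm hfp hXm R hR hd hnn
  exact exists_square_exponent hp2 hx hsq τ J hJs hJ hτ h2 h3 hg₀

/-- With all exponents squares and centralizer `⟨x⟩ × Z`, the central quotient is `PSL₂(p)`. -/
theorem central_quotient_psl_gen {G : Type u} [Group G] [Finite G] {q : ℕ} (hpq : p = 2 * q + 1)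
    (hp5 : 5 ≤ p) {x : G} (hx : orderOf x = p) (hsq : ¬ p ^ 2 ∣ Nat.card G) {k : Type*} [Field k]
    [IsAlgClosed k] [CharP k p] {f m : ℕ} (σ : G →* Matrix (Fin f) (Fin f) k) (hσx : σ x ≠ 1)
    (hm : 2 * m < p) (hfp : f < p) (hXm : (σ x - 1) ^ m = 0) {d : ℕ}
    (R : Representation ℂ G (Fin d → ℂ)) (hR : Function.Injective R) (hd : d + 1 < p)
    (hnn : ¬ (Subgroup.zpowers x).Normal)
    (hexp : ∀ (n : G) (j : ℕ), n * x * n⁻¹ = x ^ j → (j : ZMod p) ^ q = 1)
    (hcen : ∀ g : G, g * x = x * g → ¬ p ∣ orderOf g → g ∈ Subgroup.center G) :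
    Nonempty ((G ⧸ Subgroup.center G) ≃*
      Matrix.ProjectiveSpecialLinearGroup (Fin 2) (ZMod p)) := by
  classical
  have hp2 : p ≠ 2 := by omega
  have h2k : (2 : k) ≠ 0 := Ring.two_ne_zero (by rwa [ringChar.eq k p])
  obtain ⟨σ₃, J, hJs, hJ, hσ₃, h2, h3, g₀, hg₀⟩ :=
    normal_or_orth_gen hx hsq σ hσx hm hfp hXm R hR hd hnn
  obtain ⟨τ, a, b, ha, hb, hτx, hτy, hform⟩ := exists_standard hp2 hx σ₃ J hJs hJ hσ₃ h2 h3 hg₀
  have he := exists_equiv_preim hp2 hsq hx hp5 ha hb hτx hτy hpq hexp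
  obtain ⟨ε⟩ := exists_equiv_range hp2 ha hb hτx hτy hform he
  set ψ := τ.toHomUnits with hψ
  set y := g₀ * x * g₀⁻¹ with hy
  have hxp : x ^ p = 1 := by rw [← hx, pow_orderOf_eq_one]
  have hψx : ψ x ≠ 1 := fun h => by
    have h' : symSq (up a) = 1 := hτx.symm.trans (congrArg Units.val h)
    rw [symSq_up] at h'
    have := congrFun (congrFun h' 0) 1
    simp at this
    exact ha this
  set K := ψ.ker with hK
  have hKp : ¬ p ∣ Nat.card K := by
    intro h
    have h1 := K.card_mul_index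
    rw [hK, Subgroup.index_ker] at h1
    have h2' : p ∣ Nat.card ψ.range := by
      have := Subgroup.orderOf_dvd_natCard ψ.range (MonoidHom.mem_range.2 ⟨x, rfl⟩)
      rwa [orderOf_eq_prime (by rw [← map_pow, hxp, map_one]) hψx] at this
    exact hsq (h1 ▸ (sq p).symm ▸ Nat.mul_dvd_mul h h2')
  have hcomm := commute_of_small hR hxp (by omega) _ K rfl hKp
    (fun z hz => (inferInstance : ψ.ker.Normal).conj_mem z hz x)
  have hKZ : K = Subgroup.center G := by
    apply le_antisymm
    · intro z hz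
      exact hcen z (hcomm z hz).symm fun h => hKp (h.trans (K.orderOf_dvd_natCard hz))
    · intro z hz
      rw [Subgroup.mem_center_iff] at hz
      obtain ⟨g, hg⟩ := exists_symSq_eq h2k (hform z).1 (hform z).2
      have key : ∀ (u : G) (v : Matrix.SpecialLinearGroup (Fin 2) k), τ u = symSq v →
          symSq (g * v * g⁻¹) = symSq v := by
        intro u v huv
        rw [map_mul, map_mul, ← hg, ← huv, ← map_mul τ, ← hz u, map_mul τ, mul_assoc, hg,
          ← map_mul symSq, mul_inv_cancel, map_one, mul_one]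
      refine MonoidHom.mem_ker.2 (Units.ext ?_)
      show τ z = 1
      rw [hg]
      rcases eq_one_or_neg_one_of_comm (p := p) hp2 ha hb (key x _ hτx) (key y _ hτy) with e | e <;>
        rw [e]
      · exact map_one _
      · ext i j
        fin_cases i <;> fin_cases j <;> simp [symSq, symSqMat]
  exact ⟨((QuotientGroup.quotientMulEquivOfEq hKZ.symm).trans
    (QuotientGroup.quotientKerEquivRange ψ)).trans ε⟩

end CfsgLib.FeitSmall
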