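import Cfsg.Agent.Lib.FeitSmall.Family

/-!
# Coefficients of products on a family
-/

namespace CfsgLib.FeitSmall

open Cfsg CfsgLib.CharTheory CfsgLib.SmallSylow Finset
open scoped ComplexConjugate

set_option linter.unusedVariables false
set_option linter.unusedSectionVars false

universe u

variable {p : ℕ} [Fact p.Prime] {G : Type u} [Group G] [Fintype G] {P : Sylow p G} {x : G} {e t : ℕ}

/-- The multiplicities `n + ε [z ∈ a H]`. -/
def Shape (x : G) (e : ℕ) (f : G → ℂ) (a : ZMod p) (n : ℕ) (ε : ℤ) : Prop :=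
  ∀ z : ZMod p, mult x f z = (n : ℂ) + (ε : ℂ) * (if z / a ∈ rts p e then 1 else 0)

theorem Fam.shape {D : Data P x e t} {w : Subgroup.center G →* ℂ} {F : ZMod p → IrrCharacter G}
    {n : ℕ} {ε : ℤ} (hF : Fam D w F n ε) {a : ZMod p} (ha : a ≠ 0) :
    Shape x e (F a : G → ℂ) a n ε := hF.vals a ha

theorem Shape.conj {f : G → ℂ} {a : ZMod p} {n : ℕ} {ε : ℤ} (h : Shape x e f a n ε) :
    Shape x e (fun g => (starRingEnd ℂ) (f g)) (-a) n ε := fun z => by
  rw [mult_conj, h (-z), map_add, map_natCast, map_mul, map_intCast,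
    show -z / a = z / -a by rw [div_neg, neg_div]]
  split_ifs <;> simp

theorem sum_ind (A : Arith p e t) {a : ZMod p} (ha : a ≠ 0) :
    ∑ y : ZMod p, (if y / a ∈ rts p e then (1 : ℂ) else 0) = e := by
  rw [Finset.sum_boole]
  congr 1
  rw [show (univ.filter fun y => y / a ∈ rts p e) = (rts p e).image (a * ·) by
    ext z
    simp only [mem_filter, mem_univ, true_and, mem_image]
    constructor
    · intro h'; exact ⟨z / a, h', by field_simp⟩
    · rintro ⟨r, hr', rfl⟩; rwa [mul_div_cancel_left₀ _ ha],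
    card_image_of_injective _ (mul_right_injective₀ ha), A.card_rts]

theorem sum_ind_ind {a b : ZMod p} (ha : a ≠ 0) (hb : b ≠ 0) (z : ZMod p) :
    ∑ y : ZMod p, (if y / a ∈ rts p e then (1 : ℂ) else 0) *
      (if (z - y) / b ∈ rts p e then (1 : ℂ) else 0) = cc p e a b z := by
  have h : ∀ y, (if y / a ∈ rts p e then (1 : ℂ) else 0) * (if (z - y) / b ∈ rts p e then (1 : ℂ) else 0) =
      if y / a ∈ rts p e ∧ (z - y) / b ∈ rts p e then 1 else 0 := fun y => by
    split_ifs <;> simp_all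
  rw [Finset.sum_congr rfl fun y _ => h y, Finset.sum_boole, cc]
  congr 1
  refine Finset.card_nbij' (fun y => (y / a, (z - y) / b)) (fun q => a * q.1) ?_ ?_ ?_ ?_
  · intro y hy
    simp only [coe_filter, Set.mem_ofPred_eq, mem_univ, true_and, mem_product] at hy ⊢
    exact ⟨hy, by field_simp; ring⟩
  · intro q hq
    simp only [coe_filter, Set.mem_ofPred_eq, mem_univ, true_and, mem_product] at hq ⊢
    rw [← hq.2, mul_div_cancel_left₀ _ ha, add_sub_cancel_left, mul_div_cancel_left₀ _ hb]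
    exact hq.1
  · intro y _
    field_simp
  · intro q hq
    simp only [coe_filter, Set.mem_ofPred_eq, mem_product] at hq
    exact Prod.ext (mul_div_cancel_left₀ _ ha) (by
      show (z - a * q.1) / b = q.2
      rw [← hq.2, add_sub_cancel_left, mul_div_cancel_left₀ _ hb])

theorem Shape.mul (A : Arith p e t) {f f' : G → ℂ} {a b : ZMod p} (ha : a ≠ 0) (hb : b ≠ 0) {n n' : ℕ}
    {ε ε' : ℤ} (h : Shape x e f a n ε) (h' : Shape x e f' b n' ε') (z : ZMod p) :
    mult x (fun g => f g * f' g) z = (p : ℂ) * n * n' + (e : ℂ) * (n * ε' + n' * ε) +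
      (ε : ℂ) * ε' * cc p e a b z := by
  rw [mult_mul]
  simp only [h _, h' _, add_mul, mul_add, Finset.sum_add_distrib]
  have e1 : ∑ y : ZMod p, (n : ℂ) * ((ε' : ℂ) * if (z - y) / b ∈ rts p e then 1 else 0) =
      (e : ℂ) * (n * ε') := by
    rw [← Finset.mul_sum, ← Finset.mul_sum, ← sum_ind A hb,
      Fintype.sum_equiv (Equiv.subLeft z) (fun y => if (z - y) / b ∈ rts p e then (1 : ℂ) else 0)
        (fun y => if y / b ∈ rts p e then (1 : ℂ) else 0) (fun y => rfl)]
    ring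
  have e2 : ∑ y : ZMod p, ((ε : ℂ) * if y / a ∈ rts p e then 1 else 0) * (n' : ℂ) =
      (e : ℂ) * (n' * ε) := by
    rw [← Finset.sum_mul, ← Finset.mul_sum, sum_ind A ha]
    ring
  have e3 : ∑ y : ZMod p, ((ε : ℂ) * if y / a ∈ rts p e then 1 else 0) *
      ((ε' : ℂ) * if (z - y) / b ∈ rts p e then 1 else 0) = (ε : ℂ) * ε' * cc p e a b z := by
    rw [← sum_ind_ind ha hb z, Finset.mul_sum]
    exact Finset.sum_congr rfl fun y _ => by ring
  rw [e1, e2, e3, sum_const, card_univ, ZMod.card, nsmul_eq_mul]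
  ring

/-- The decomposition of the multiplicities. -/
theorem mult_decomp {f : G → ℂ} (hf : IsClassFunction G f) (z : ZMod p) :
    mult x f z = ∑ χ : IrrCharacter G, classInner f (χ : G → ℂ) * mult x (χ : G → ℂ) z := by
  have h : ∀ g, f g = ∑ χ : IrrCharacter G, classInner f (χ : G → ℂ) * (χ : G → ℂ) g := fun g => by
    conv_lhs => rw [eq_sum_irr hf]
    simp
  conv_lhs => rw [funext h]
  rw [mult_sum]
  exact Finset.sum_congr rfl fun χ _ => mult_smul _ _ _

/-- The coefficient on a family determines the variation of the multiplicities. -/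
theorem Fam.coef {D : Data P x e t} {w : Subgroup.center G →* ℂ} {F : ZMod p → IrrCharacter G}
    {n : ℕ} {ε : ℤ} (hF : Fam D w F n ε) {f : G → ℂ} (hf : IsClassFunction G f) (hw : HasCen f w)
    {z z' : ZMod p} (hz : z ≠ 0) (hz' : z' ≠ 0) :
    mult x f z - mult x f z' =
      (ε : ℂ) * (classInner f (F z : G → ℂ) - classInner f (F z' : G → ℂ)) := by
  classical
  rw [mult_decomp hf, mult_decomp hf, ← Finset.sum_sub_distrib]
  have h : ∀ χ : IrrCharacter G,
      classInner f (χ : G → ℂ) * mult x (χ : G → ℂ) z - classInner f (χ : G → ℂ) * mult x (χ : G → ℂ) z' =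
      (ε : ℂ) * ((if χ = F z then classInner f (χ : G → ℂ) else 0) -
        (if χ = F z' then classInner f (χ : G → ℂ) else 0)) := by
    intro χ
    rw [← mul_sub]
    by_cases hc : classInner f (χ : G → ℂ) = 0
    · rw [hc]; simp
    · have hχ := hw.of_inner χ hc
      by_cases hfam : ∀ a, a ≠ 0 → χ ≠ F a
      · rw [hF.others χ hχ hfam z z' hz hz', if_neg (hfam z hz), if_neg (hfam z' hz')]
        simp
      · push Not at hfam
        obtain ⟨a, ha, rfl⟩ := hfam
        rw [hF.vals a ha, hF.vals a ha]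
        simp only [hF.eq_iff a z ha hz, hF.eq_iff a z' ha hz']
        split_ifs <;> ring
  rw [Finset.sum_congr rfl fun χ _ => h χ, ← Finset.mul_sum, Finset.sum_sub_distrib,
    Finset.sum_ite_eq' univ, Finset.sum_ite_eq' univ, if_pos (mem_univ _), if_pos (mem_univ _)]

theorem hasCen_conj_mul (w : Subgroup.center G →* ℂ) :
    w * (starRingEnd ℂ).toMonoidHom.comp w = 1 := MonoidHom.ext fun z => by
  show w z * (starRingEnd ℂ) (w z) = 1
  rw [norm_cen_one, mul_inv_cancel₀]
  intro h0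
  have := congrArg w (mul_inv_cancel z)
  rw [map_mul, h0, zero_mul, map_one] at this
  exact zero_ne_one this

/-- The conjugate family. -/
theorem Fam.conj {D : Data P x e t} {w : Subgroup.center G →* ℂ} {F : ZMod p → IrrCharacter G}
    {n : ℕ} {ε : ℤ} (hF : Fam D w F n ε) :
    Fam D ((starRingEnd ℂ).toMonoidHom.comp w)
      (fun a => ⟨fun g => (starRingEnd ℂ) ((F (-a) : G → ℂ) g), isIrrCharacter_conjChar (F (-a)).2⟩)
      n ε where
  sgn := hF.sgn
  cen a ha := (hF.cen (-a) (neg_ne_zero.2 ha)).conj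
  vals a ha := by
    have h := (hF.shape (neg_ne_zero.2 ha)).conj
    rw [neg_neg] at h
    exact h
  eq_iff a b ha hb := by
    rw [show b / a = -b / -a by rw [neg_div_neg_eq],
      ← hF.eq_iff (-a) (-b) (neg_ne_zero.2 ha) (neg_ne_zero.2 hb)]
    constructor
    · intro h; exact Subtype.ext (irr_conj_inj.1 (congrArg Subtype.val h))
    · intro h; rw [h]
  agree a b ha hb g hg := congrArg (starRingEnd ℂ)
    (hF.agree (-a) (-b) (neg_ne_zero.2 ha) (neg_ne_zero.2 hb) g hg)
  others χ hχ hnot z z' hz hz' := by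
    have hχ' : HasCen (fun g => (starRingEnd ℂ) ((χ : G → ℂ) g)) w := fun g c => by
      show (starRingEnd ℂ) ((χ : G → ℂ) (g * c)) = _
      rw [hχ g c]
      show (starRingEnd ℂ) ((starRingEnd ℂ) (w c) * _) = _
      rw [map_mul, Complex.conj_conj]
    have h := hF.others ⟨_, isIrrCharacter_conjChar χ.2⟩ hχ' (fun a ha h1 => hnot (-a) (neg_ne_zero.2 ha)
      (Subtype.ext (funext fun g => by
        show (χ : G → ℂ) g = (starRingEnd ℂ) ((F (- -a) : G → ℂ) g)
        rw [neg_neg, ← congrFun (congrArg Subtype.val h1) g, Complex.conj_conj]))) (-z) (-z')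
      (neg_ne_zero.2 hz) (neg_ne_zero.2 hz')
    simp only [mult_conj, neg_neg] at h
    exact (starRingEnd ℂ).injective h

/-- Rotating the three factors. -/
theorem inner_rot {f g h : G → ℂ} (hf : IsCharacter G f) (hg : IsCharacter G g) (hh : IsCharacter G h) :
    classInner (fun a => f a * g a) h = classInner (fun a => h a * (starRingEnd ℂ) (g a)) f := by
  obtain ⟨m, hm⟩ := classInner_char_nat (isCharacter_mul hf hg) hh
  have e1 : classInner (fun a => h a * (starRingEnd ℂ) (g a)) f =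
      (starRingEnd ℂ) (classInner (fun a => f a * g a) h) := by
    simp only [classInner, map_mul, map_sum, map_inv₀, map_natCast, Complex.conj_conj]
    congr 1
    exact Finset.sum_congr rfl fun a _ => by ring
  have e2 : classInner (fun a => f a * g a) h = (m : ℂ) := hm
  rw [e1, e2, map_natCast]

variable {D : Data P x e t} {w₁ w₂ : Subgroup.center G →* ℂ}
  {F₁ F₂ F : ZMod p → IrrCharacter G} {n : ℕ} {ε : ℤ}

theorem indep_first (h₁ : Fam D w₁ F₁ 1 (-1)) (h₂ : Fam D w₂ F₂ 1 (-1))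
    (hF : Fam D (w₁ * w₂) F n ε) {a a' c z : ZMod p} (ha : a ≠ 0) (ha' : a' ≠ 0) (hc : c ≠ 0)
    (hz : z ≠ 0) :
    (ε : ℂ) * classInner (fun g => (F₁ a : G → ℂ) g * (F₂ c : G → ℂ) g) (F z : G → ℂ) - cc p e a c z =
    (ε : ℂ) * classInner (fun g => (F₁ a' : G → ℂ) g * (F₂ c : G → ℂ) g) (F z : G → ℂ) -
      cc p e a' c z := by
  set f : G → ℂ := fun g => (F z : G → ℂ) g * (starRingEnd ℂ) ((F₂ c : G → ℂ) g) with hf
  have hfc : IsClassFunction G f := isClassFunction_char
    (isCharacter_mul (isCharacter_of_irr (F z).2) (isCharacter_conj (isCharacter_of_irr (F₂ c).2)))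
  have hfw : HasCen f w₁ := by
    have h := (hF.cen z hz).mul (h₂.cen c hc).conj
    rwa [mul_assoc, hasCen_conj_mul, mul_one] at h
  have h := h₁.coef hfc hfw ha ha'
  have hm : ∀ y, mult x f y = (p : ℂ) * n * (1 : ℕ) + (e : ℂ) * (n * ((-1 : ℤ) : ℂ) + (1 : ℕ) * ε) +
      (ε : ℂ) * ((-1 : ℤ) : ℂ) * cc p e z (-c) y :=
    fun y => (hF.shape hz).mul D.A hz (neg_ne_zero.2 hc) (h₂.shape hc).conj y
  rw [hm a, hm a'] at h
  rw [inner_rot (isCharacter_of_irr (F₁ a).2) (isCharacter_of_irr (F₂ c).2) (isCharacter_of_irr (F z).2),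
    inner_rot (isCharacter_of_irr (F₁ a').2) (isCharacter_of_irr (F₂ c).2) (isCharacter_of_irr (F z).2),
    cc_comm a c z, cc_comm a' c z, cc_cycle D.A.epos c a z, cc_cycle D.A.epos c a' z]
  simp only [Int.cast_neg, Int.cast_one, Nat.cast_one] at h
  have hε : (ε : ℂ) * ε = 1 := by rcases hF.sgn with h' | h' <;> rw [h'] <;> norm_num
  show (ε : ℂ) * classInner f (F₁ a : G → ℂ) - _ = (ε : ℂ) * classInner f (F₁ a' : G → ℂ) - _
  linear_combination (ε : ℂ) * h + ((cc p e z (-c) a : ℂ) - cc p e z (-c) a') * hε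

/-- The coefficients are `K + cc` up to the sign. -/
theorem uniform (h₁ : Fam D w₁ F₁ 1 (-1)) (h₂ : Fam D w₂ F₂ 1 (-1)) (hF : Fam D (w₁ * w₂) F n ε) :
    ∃ K : ℤ, ∀ a c z : ZMod p, a ≠ 0 → c ≠ 0 → z ≠ 0 →
      (ε : ℂ) * classInner (fun g => (F₁ a : G → ℂ) g * (F₂ c : G → ℂ) g) (F z : G → ℂ) =
        (K : ℂ) + cc p e a c z := by
  let E : ZMod p → ZMod p → ZMod p → ℂ := fun a c z =>
    (ε : ℂ) * classInner (fun g => (F₁ a : G → ℂ) g * (F₂ c : G → ℂ) g) (F z : G → ℂ) - cc p e a c z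
  have h1 : ∀ a c z, a ≠ 0 → c ≠ 0 → z ≠ 0 → E a c z = E 1 c z := fun a c z ha hc hz =>
    indep_first h₁ h₂ hF ha one_ne_zero hc hz
  have h2 : ∀ a c z, a ≠ 0 → c ≠ 0 → z ≠ 0 → E a c z = E a 1 z := by
    intro a c z ha hc hz
    have h := indep_first h₂ h₁ (show Fam D (w₂ * w₁) F n ε from mul_comm w₁ w₂ ▸ hF) hc one_ne_zero ha hz
    simp only [E]
    rw [cc_comm a c z, cc_comm a 1 z]
    simpa only [mul_comm ((F₁ a : G → ℂ) _)] using h
  have h3 : ∀ z, z ≠ 0 → E 1 1 z = E 1 1 1 := by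
    intro z hz
    set f : G → ℂ := fun g => (F₁ 1 : G → ℂ) g * (F₂ 1 : G → ℂ) g with hf
    have h := hF.coef (isClassFunction_char (isCharacter_mul (isCharacter_of_irr (F₁ 1).2)
      (isCharacter_of_irr (F₂ 1).2))) ((h₁.cen 1 one_ne_zero).mul (h₂.cen 1 one_ne_zero)) hz one_ne_zero
    have hm : ∀ y, mult x f y = (p : ℂ) * (1 : ℕ) * (1 : ℕ) + (e : ℂ) * ((1 : ℕ) * ((-1 : ℤ) : ℂ) +
        (1 : ℕ) * ((-1 : ℤ) : ℂ)) + ((-1 : ℤ) : ℂ) * ((-1 : ℤ) : ℂ) * cc p e 1 1 y :=
      fun y => (h₁.shape one_ne_zero).mul D.A one_ne_zero one_ne_zero (h₂.shape one_ne_zero) y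
    change mult x f z - mult x f 1 = _ at h
    rw [hm z, hm 1] at h
    simp only [Int.cast_neg, Int.cast_one] at h
    simp only [E]
    linear_combination -h
  obtain ⟨m, hm⟩ := classInner_char_nat (isCharacter_mul (isCharacter_of_irr (F₁ 1).2)
    (isCharacter_of_irr (F₂ 1).2)) (isCharacter_of_irr (F 1).2)
  refine ⟨ε * m - cc p e 1 1 1, fun a c z ha hc hz => ?_⟩
  have e0 : E a c z = E 1 1 1 := by rw [h1 a c z ha hc hz, h2 1 c z one_ne_zero hc hz, h3 z hz]
  simp only [E] at e0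
  rw [show classInner (fun g => (F₁ 1 : G → ℂ) g * (F₂ 1 : G → ℂ) g) (F 1 : G → ℂ) = (m : ℂ) from hm] at e0
  push_cast
  linear_combination e0

end CfsgLib.FeitSmall
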