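import Cfsg.Agent.Lib.FeitSmall.Reduce
import Cfsg.Agent.Lib.FeitSmall.Coef

/-!
# A modular representation annihilated by the spectrum on the Sylow subgroup
-/

namespace CfsgLib.FeitSmall

open Cfsg CfsgLib.CharTheory CfsgLib.SmallSylow Finset

set_option linter.unusedVariables false
set_option linter.style.haveILetI false
set_option linter.unusedSectionVars false

universe u

variable {p : ℕ} [Fact p.Prime] {G : Type u} [Group G] [Fintype G] {P : Sylow p G} {x : G} {e t : ℕ}

/-- The product over the spectrum annihilates. -/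
theorem prod_spectrum_eq_zero (D : Data P x e t) {d : ℕ} (R : G →* Matrix (Fin d) (Fin d) ℂ)
    {f : G → ℂ} (hf : ∀ g, (R g).trace = f g) (l : List (ZMod p))
    (hl : ∀ z, z ∉ l → mult x f z = 0) :
    ((l.map fun z => psi p z).map fun c => R x - c • (1 : Matrix (Fin d) (Fin d) ℂ)).prod = 0 := by
  classical
  have hp0 : (p : ℂ) ≠ 0 := Nat.cast_ne_zero.2 (Fact.out : p.Prime).ne_zero
  set π : ZMod p → Matrix (Fin d) (Fin d) ℂ := fun z =>
    (p : ℂ)⁻¹ • ∑ k : ZMod p, psi p (-(z * k)) • R (xp x k) with hπ
  have hsum : ∑ z, π z = 1 := by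
    simp only [hπ, ← Finset.smul_sum]
    rw [Finset.sum_comm, Finset.sum_eq_single (0 : ZMod p)]
    · simp only [mul_zero, neg_zero, AddChar.map_zero_eq_one, one_smul, xp_zero, map_one]
      rw [sum_const, card_univ, ZMod.card, ← Nat.cast_smul_eq_nsmul ℂ, smul_smul,
        inv_mul_cancel₀ hp0, one_smul]
    · intro k _ hk
      rw [← Finset.sum_smul, Finset.sum_congr rfl fun z _ => show psi p (-(z * k)) = psi p (z * -k) by
        rw [mul_neg], sum_psi_mul, if_neg (neg_ne_zero.2 hk), zero_smul]
    · exact fun h0 => absurd (mem_univ _) h0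
  have hshift : ∀ (z a : ZMod p), R (xp x a) * π z = psi p (z * a) • π z := by
    intro z a
    simp only [hπ]
    rw [mul_smul_comm, smul_comm, Finset.mul_sum, Finset.smul_sum (r := psi p (z * a))]
    congr 1
    refine Fintype.sum_equiv (Equiv.addLeft a) _ _ fun k => ?_
    rw [Equiv.coe_addLeft, mul_smul_comm, ← map_mul, ← xp_add D.pow, smul_smul, ← AddChar.map_add_eq_mul]
    congr 2
    ring
  have hidem : ∀ z, π z * π z = π z := by
    intro z
    conv_lhs => arg 1; rw [hπ]
    simp only [smul_mul_assoc, Finset.sum_mul, hshift, smul_smul, ← AddChar.map_add_eq_mul,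
      neg_add_cancel, AddChar.map_zero_eq_one, one_smul, sum_const, card_univ, ZMod.card]
    rw [← Nat.cast_smul_eq_nsmul ℂ, smul_smul, inv_mul_cancel₀ hp0, one_smul]
  have hzero : ∀ z, z ∉ l → π z = 0 := by
    intro z hz
    have htr : (π z).trace = 0 := by
      rw [← hl z hz, mult]
      simp only [hπ, Matrix.trace_smul, Matrix.trace_sum, hf, smul_eq_mul]
      congr 1
      exact Finset.sum_congr rfl fun k _ => mul_comm _ _
    set E := Matrix.toLin' (π z) with hE
    have hEE : E * E = E := by
      rw [hE, Module.End.mul_eq_comp, ← Matrix.toLin'_mul, hidem]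
    have hproj : LinearMap.IsProj (LinearMap.range E) E :=
      ⟨fun v => LinearMap.mem_range_self _ v, by
        rintro _ ⟨y, rfl⟩; exact LinearMap.congr_fun hEE y⟩
    have h1 := hproj.trace
    rw [hE, Matrix.trace_toLin'_eq, htr, eq_comm, Nat.cast_eq_zero, Submodule.finrank_eq_zero,
      LinearMap.range_eq_bot] at h1
    exact Matrix.toLin'.injective (h1.trans (map_zero _).symm)
  have hscal : ∀ (L : List (ZMod p)) (w : ZMod p),
      ((L.map fun z => psi p z).map fun c => R x - c • (1 : Matrix (Fin d) (Fin d) ℂ)).prod * π w =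
        (L.map fun z => psi p w - psi p z).prod • π w := by
    intro L w
    induction L with
    | nil => simp
    | cons z L ih =>
      simp only [List.map_cons, List.prod_cons]
      rw [mul_assoc, ih, mul_smul_comm, sub_mul, smul_mul_assoc, one_mul]
      conv_lhs => arg 2; arg 1; rw [← xp_one (x := x) (p := p), hshift, mul_one]
      rw [← sub_smul, smul_smul, mul_comm]
  suffices h : ((l.map fun z => psi p z).map fun c => R x - c • (1 : Matrix (Fin d) (Fin d) ℂ)).prod *
      (∑ z, π z) = 0 by rwa [hsum, mul_one] at h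
  rw [Finset.mul_sum]
  refine Finset.sum_eq_zero fun w _ => ?_
  by_cases hw : w ∈ l
  · rw [hscal, List.prod_eq_zero (List.mem_map.2 ⟨w, hw, sub_self (psi p w)⟩), zero_smul]
  · rw [hzero w hw, mul_zero]

/-- A modular representation with the nilpotency degree of the spectrum. -/
theorem exists_modular (D : Data P x e t) {d : ℕ} (R : Representation ℂ G (Fin d → ℂ))
    (hR : Function.Injective R) (hnn : ¬ (P : Subgroup G).Normal) (S : Finset (ZMod p))
    (hS : ∀ z, z ∉ S → mult x R.character z = 0) :
    ∃ (k : Type) (_ : Field k) (_ : IsAlgClosed k) (_ : CharP k p)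
      (σ : G →* Matrix (Fin d) (Fin d) k), σ x ≠ 1 ∧ (σ x - 1) ^ S.card = 0 := by
  classical
  have hp : p.Prime := Fact.out
  let ρ : G →* Matrix (Fin d) (Fin d) ℂ := LinearMap.toMatrixAlgEquiv'.toMonoidHom.comp R
  have htr : ∀ g, (ρ g).trace = R.character g := fun g => by
    show (LinearMap.toMatrixAlgEquiv' (R g)).trace = LinearMap.trace ℂ _ (R g)
    rw [LinearMap.trace_eq_matrix_trace ℂ (Pi.basisFun ℂ (Fin d)), LinearMap.toMatrix_eq_toMatrix']
    rfl
  have hprod := prod_spectrum_eq_zero D ρ htr S.toList fun z hz => hS z fun h => hz (Finset.mem_toList.2 h)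
  obtain ⟨k, hk, hkc, σ, hσker, hpow⟩ := exists_reduction_prod hp ρ
    (LinearMap.toMatrixAlgEquiv'.injective.comp hR) x (S.toList.map fun z => psi p z)
    (by
      intro c hc
      obtain ⟨z, -, rfl⟩ := List.mem_map.1 hc
      rw [← AddChar.map_nsmul_eq_pow, nsmul_eq_mul, ZMod.natCast_self, zero_mul, AddChar.map_zero_eq_one])
    hprod
  rw [List.length_map, Finset.length_toList] at hpow
  have hσx : σ x ≠ 1 := by
    intro h1
    apply hnn
    set L := σ.ker with hL
    have hLg : IsPGroup p L := fun g => by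
      obtain ⟨n, hn⟩ := hσker g (MonoidHom.mem_ker.1 g.2)
      exact ⟨n, Subtype.ext hn⟩
    have hxz : Subgroup.zpowers x = (P : Subgroup G) :=
      (CfsgLib.Blocks.DefectOne.zpowers_eq D.setup D.hP D.mem D.ne).1
    have hle : (P : Subgroup G) ≤ L := by
      rw [← hxz, Subgroup.zpowers_le]; exact MonoidHom.mem_ker.2 h1
    rw [← P.is_maximal' hLg hle]
    infer_instance
  let ι : k →+* AlgebraicClosure k := algebraMap k (AlgebraicClosure k)
  haveI : CharP (AlgebraicClosure k) p := charP_of_injective_ringHom ι.injective p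
  refine ⟨AlgebraicClosure k, inferInstance, inferInstance, inferInstance,
    ι.mapMatrix.toMonoidHom.comp σ, fun h1 => hσx (Matrix.map_injective ι.injective
      (h1.trans (map_one ι.mapMatrix).symm)), ?_⟩
  show (ι.mapMatrix (σ x) - 1) ^ S.card = 0
  rw [← map_one ι.mapMatrix, ← map_sub, ← map_pow, hpow, map_zero]

end CfsgLib.FeitSmall
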