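import Cfsg.Agent.Lib.FeitSmall.Structure
import Cfsg.Agent.Lib.FeitSmall.Spectrum
import Cfsg.Agent.Lib.FeitSmall.FTGen

/-!
# A spectrum inside one coset of the induced exponents
-/

namespace CfsgLib.FeitSmall

open Cfsg CfsgLib.Blocks CfsgLib.Blocks.DefectOne CfsgLib.CharTheory CfsgLib.CharTheory.SmallDegree
open CfsgLib.SmallSylow Finset

set_option linter.unusedVariables false
set_option linter.style.haveILetI false
set_option linter.unusedSectionVars false

universe u

variable {p : ℕ} [Fact p.Prime] {G : Type u} [Group G] [Fintype G] {P : Sylow p G} {x : G} {e t : ℕ}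

/-- A representation of a faithful character. -/
theorem exists_rep (ζ : IrrCharacter G)
    (hfaith : ∀ g : G, (ζ : G → ℂ) g = (ζ : G → ℂ) 1 → g = 1) :
    ∃ R : Representation ℂ G (Fin (charDegree (ζ : G → ℂ)) → ℂ),
      Function.Injective R ∧ R.IsIrreducible ∧ R.character = (ζ : G → ℂ) := by
  obtain ⟨d, R, hR, hRχ⟩ := ζ.2
  have hd : charDegree (ζ : G → ℂ) = d := by
    apply Nat.cast_injective (R := ℂ)
    rw [irr_charDegree_cast, ← hRχ, R.char_one, Module.finrank_fin_fun]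
  subst hd
  refine ⟨R, fun a b hab => ?_, hR, hRχ⟩
  rw [← div_eq_one, div_eq_mul_inv]
  refine hfaith _ ?_
  rw [← hRχ]
  show LinearMap.trace ℂ _ (R (a * b⁻¹)) = LinearMap.trace ℂ _ (R 1)
  rw [map_mul, hab, ← map_mul, mul_inv_cancel]

theorem Data.sq_not_dvd (D : Data P x e t) : ¬ p ^ 2 ∣ Nat.card G :=
  CfsgLib.Blocks.DefectOne.sq_not_dvd D.setup D.hP

theorem Data.zpowers (D : Data P x e t) : Subgroup.zpowers x = (P : Subgroup G) :=
  (CfsgLib.Blocks.DefectOne.zpowers_eq D.setup D.hP D.mem D.ne).1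

theorem Data.inf_center (D : Data P x e t) (hnn : ¬ (P : Subgroup G).Normal) :
    (P : Subgroup G) ⊓ Subgroup.center G = ⊥ := by
  by_contra hne
  apply hnn
  obtain ⟨y, hy, hy1⟩ : ∃ y ∈ (P : Subgroup G) ⊓ Subgroup.center G, y ≠ 1 := by
    by_contra hno
    push Not at hno
    exact hne ((Subgroup.eq_bot_iff_forall _).2 hno)
  refine ⟨fun z hz g => ?_⟩
  rw [← (CfsgLib.Blocks.DefectOne.zpowers_eq D.setup D.hP hy.1 hy1).1] at hz
  obtain ⟨i, rfl⟩ := Subgroup.mem_zpowers_iff.1 hz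
  have hc := Subgroup.mem_center_iff.1 ((Subgroup.center G).zpow_mem hy.2 i) g
  rw [hc, mul_inv_cancel_right]
  exact (P : Subgroup G).zpow_mem hy.1 i

/-- The induced exponents satisfy `j ^ e = 1`. -/
theorem Data.exponent_pow (D : Data P x e t) {n : G} {j : ℕ} (h : n * x * n⁻¹ = x ^ j) :
    (j : ZMod p) ^ e = 1 := by
  have hn : n ∈ Subgroup.normalizer ((P : Subgroup G) : Set G) :=
    D.setup.norm_eq D.mem D.ne (h ▸ pow_mem D.mem j)
  exact mem_rts.1 ((D.exps _).2 ⟨n, hn, by rw [xp_natCast D.pow]; exact h⟩)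

/-- No spectrum of size `m` with `2 m < p` unless half of the exponents are induced. -/
theorem Data.spectrum_big (D : Data P x e t) (hp2 : p ≠ 2) (ζ : IrrCharacter G)
    (hfaith : ∀ g : G, (ζ : G → ℂ) g = (ζ : G → ℂ) 1 → g = 1)
    (hd : charDegree (ζ : G → ℂ) + 1 < p) (hnn : ¬ (P : Subgroup G).Normal) (S : Finset (ZMod p))
    (hS : ∀ z, z ∉ S → mult x (ζ : G → ℂ) z = 0) (hm : 2 * S.card < p) : (p - 1) / 2 ≤ e := by
  obtain ⟨R, hR, -, hRχ⟩ := exists_rep ζ hfaith
  obtain ⟨k, hk, hka, hkc, σ, hσx, hpow⟩ := exists_modular D R hR hnn S (by rw [hRχ]; exact hS)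
  obtain ⟨n, j, hn, hj⟩ := exists_big_exponent hp2 D.order D.sq_not_dvd σ hσx hm (by omega) hpow R hR hd
    (by rwa [D.zpowers])
  exact hj.trans (orderOf_le_of_pow_eq_one (Nat.pos_of_ne_zero D.A.epos) (D.exponent_pow hn))

theorem card_coset (A : Arith p e t) {a : ZMod p} (ha : a ≠ 0) :
    ((rts p e).image (a * ·)).card = e := by
  rw [card_image_of_injective _ (mul_right_injective₀ ha), A.card_rts]

theorem mem_coset {a z : ZMod p} (ha : a ≠ 0) :
    z ∈ (rts p e).image (a * ·) ↔ z / a ∈ rts p e := by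
  rw [mem_image]
  exact ⟨fun ⟨r, hr, he'⟩ => by rw [← he', mul_div_cancel_left₀ _ ha]; exact hr,
    fun h => ⟨z / a, h, mul_div_cancel₀ _ ha⟩⟩

/-- The first case is the case of equality. -/
theorem caseA_degree (D : Data P x e t) (hp5 : 5 ≤ p) (ζ : IrrCharacter G)
    (hfaith : ∀ g : G, (ζ : G → ℂ) g = (ζ : G → ℂ) 1 → g = 1)
    (hd : charDegree (ζ : G → ℂ) < p - 1) (hnn : ¬ (P : Subgroup G).Normal) {a : ZMod p} (ha : a ≠ 0)
    (hA : ∀ z : ZMod p, z / a ∉ rts p e → mult x (ζ : G → ℂ) z = 0) :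
    t = 2 ∧ 2 * charDegree (ζ : G → ℂ) + 1 = p := by
  classical
  set d := charDegree (ζ : G → ℂ) with hd'
  obtain ⟨m, hm⟩ := D.mult_nat (isCharacter_of_irr ζ.2) a
  have hsum : (d : ℂ) = ((e * m : ℕ) : ℂ) := by
    rw [hd', irr_charDegree_cast, ← sum_mult (x := x) (p := p) (ζ : G → ℂ),
      ← Finset.sum_subset (Finset.subset_univ ((rts p e).image (a * ·))) (fun z _ hz =>
        hA z fun h => hz ((mem_coset ha).2 h)),
      Finset.sum_congr rfl fun z hz => show mult x (ζ : G → ℂ) z = (m : ℂ) by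
        obtain ⟨r, hr, rfl⟩ := mem_image.1 hz
        rw [D.mult_mul_rts (isClassFunction_irr ζ.2) hr, hm],
      sum_const, card_coset D.A ha, nsmul_eq_mul, Nat.cast_mul]
  have hdm : d = e * m := by exact_mod_cast hsum
  have hm0 : m ≠ 0 := by
    rintro rfl
    rw [mul_zero] at hdm
    exact irr_one_ne_zero ζ (by rw [← irr_charDegree_cast, ← hd', hdm, Nat.cast_zero])
  have hA' := D.A.mul
  have htpos := D.A.tpos
  have hle : e * 1 ≤ e * m := Nat.mul_le_mul_left e (Nat.one_le_iff_ne_zero.2 hm0)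
  rcases Nat.lt_or_ge t 3 with ht | ht
  · rcases (show t = 1 ∨ t = 2 by omega) with rfl | rfl
    · omega
    · refine ⟨rfl, ?_⟩
      rcases Nat.lt_or_ge m 2 with hm2 | hm2
      · rw [show m = 1 by omega, mul_one] at hdm
        omega
      · have : e * 2 ≤ e * m := Nat.mul_le_mul_left e hm2
        omega
  · exfalso
    have h3 : 3 * e ≤ t * e := Nat.mul_le_mul_right e ht
    have hbig := D.spectrum_big (by omega) ζ hfaith (by omega) hnn ((rts p e).image (a * ·))
      (fun z hz => hA z fun h => hz ((mem_coset ha).2 h)) (by rw [card_coset D.A ha]; omega)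
    omega

end CfsgLib.FeitSmall
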