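import Cfsg.Agent.Lib.FeitSmall.Weights

/-!
# Sums over the group and the action of the Sylow subgroup on its cosets
-/

namespace CfsgLib.FeitSmall

open Cfsg CfsgLib.Blocks CfsgLib.Blocks.DefectOne CfsgLib.CharTheory CfsgLib.CharTheory.SmallDegree CfsgLib.SmallSylow Finset
open scoped ComplexConjugate

set_option linter.unusedVariables false
set_option linter.style.haveILetI false
set_option linter.unusedSectionVars false

universe u

variable {p : ℕ} [Fact p.Prime] {G : Type u} [Group G] [Fintype G] {P : Sylow p G} {x : G} {e t : ℕ}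
  [NeZero e] {h : G} {a₀ : ZMod p}

/-- Orbits of an element of prime order: fixed points and full orbits. -/
theorem sum_orbits {C : Type*} [Fintype C] [MulAction G C] [DecidableEq C] {y : G} (hy : y ^ p = 1)
    {A : Type*} [AddCommMonoid A] (f : C → A) :
    ∃ S : Finset C, ∑ c, f c =
      (∑ c ∈ univ.filter (fun c => y • c = c), f c) + ∑ c ∈ S, ∑ i ∈ range p, f (y ^ i • c) := by
  classical
  have hp : p.Prime := Fact.out
  suffices H : ∀ s : Finset C, (∀ c ∈ s, y • c ≠ c) → (∀ c ∈ s, y • c ∈ s) →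
      ∃ S : Finset C, S ⊆ s ∧ ∑ c ∈ s, f c = ∑ c ∈ S, ∑ i ∈ range p, f (y ^ i • c) by
    obtain ⟨S, -, hS⟩ := H (univ.filter fun c => ¬ y • c = c) (fun c hc => (mem_filter.1 hc).2)
      (fun c hc => mem_filter.2 ⟨mem_univ _, fun h' => (mem_filter.1 hc).2 (smul_left_cancel y h')⟩)
    exact ⟨S, by rw [← hS, Finset.sum_filter_add_sum_filter_not]⟩
  intro s
  induction s using Finset.strongInduction with
  | H s ih =>
    intro hmove hst
    rcases s.eq_empty_or_nonempty with rfl | ⟨c₀, hc₀⟩
    · exact ⟨∅, Finset.empty_subset _, by simp⟩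
    have hper : MulAction.period y c₀ = p := by
      rcases (Nat.dvd_prime hp).1 (show MulAction.period y c₀ ∣ p from
        MulAction.pow_smul_eq_iff_period_dvd.1 (by rw [hy, one_smul])) with h1 | h1
      · refine absurd ?_ (hmove c₀ hc₀)
        have h2 := MulAction.pow_period_smul y c₀
        rwa [h1, pow_one] at h2
      · exact h1
    set O := (range p).image fun i => y ^ i • c₀ with hO
    have hOs : O ⊆ s := by
      intro c hc
      obtain ⟨i, -, rfl⟩ := mem_image.1 hc
      induction i with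
      | zero => simpa using hc₀
      | succ i ihi =>
        rw [pow_succ', mul_smul]
        exact hst _ (ihi (mem_image.2 ⟨i % p, mem_range.2 (Nat.mod_lt _ hp.pos), by
          rw [← pow_eq_pow_mod _ hy]⟩))
    have hclosed : ∀ c ∈ s \ O, y • c ∈ s \ O := by
      intro c hc
      obtain ⟨hcs, hcO⟩ := mem_sdiff.1 hc
      refine mem_sdiff.2 ⟨hst c hcs, fun h' => hcO ?_⟩
      obtain ⟨i, -, hi⟩ := mem_image.1 h'
      refine mem_image.2 ⟨(p - 1 + i) % p, mem_range.2 (Nat.mod_lt _ hp.pos), ?_⟩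
      rw [← pow_eq_pow_mod _ hy, pow_add, mul_smul, hi, smul_smul, ← pow_succ,
        Nat.sub_add_cancel hp.one_le, hy, one_smul]
    obtain ⟨S, hSs, hS⟩ := ih (s \ O) (Finset.sdiff_ssubset hOs ⟨c₀, mem_image.2 ⟨0, mem_range.2 hp.pos,
      by rw [pow_zero, one_smul]⟩⟩) (fun c hc => hmove c (mem_sdiff.1 hc).1) hclosed
    have hinj : Set.InjOn (fun i => y ^ i • c₀) (range p : Set ℕ) := by
      intro i hi j hj hij
      rw [coe_range, Set.mem_Iio] at hi hj
      wlog hle : i ≤ j generalizing i j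
      · exact (this hj hi hij.symm (le_of_not_ge hle)).symm
      have h2 : y ^ (j - i) • c₀ = c₀ := by
        have h4 : y ^ i • y ^ (j - i) • c₀ = y ^ i • c₀ := by
          rw [smul_smul, ← pow_add, Nat.add_sub_cancel' hle]; exact hij.symm
        exact smul_left_cancel _ h4
      have h3 := (MulAction.pow_smul_eq_iff_period_dvd).1 h2
      rw [hper] at h3
      rcases Nat.eq_zero_or_pos (j - i) with h0 | h0
      · omega
      · exact absurd (Nat.le_of_dvd h0 h3) (by omega)
    have hcO : c₀ ∈ O := mem_image.2 ⟨0, mem_range.2 hp.pos, by rw [pow_zero, one_smul]⟩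
    have hcS : c₀ ∉ S := fun h' => (mem_sdiff.1 (hSs h')).2 hcO
    refine ⟨insert c₀ S, Finset.insert_subset_iff.2 ⟨hc₀, hSs.trans sdiff_subset⟩, ?_⟩
    rw [Finset.sum_insert hcS, ← hS, ← Finset.sum_image (f := f) hinj,
      add_comm, Finset.sum_sdiff hOs]

/-- The elements normalizing `P`. -/
theorem Data.mem_normalizer (D : Data P x e t) {g : G} :
    g ∈ Subgroup.normalizer ((P : Subgroup G) : Set G) ↔ g * x * g⁻¹ ∈ (P : Subgroup G) := by
  refine ⟨fun hg => (Subgroup.mem_normalizer_iff.1 hg _).1 D.mem, fun hg => ?_⟩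
  rw [Subgroup.mem_normalizer_iff_map_conj_eq]
  have hz : Subgroup.zpowers x = (P : Subgroup G) := (zpowers_eq D.setup D.hP D.mem D.ne).1
  refine Subgroup.eq_of_le_of_card_ge ?_ (Subgroup.card_map_of_injective (MulAut.conj g).injective).ge
  rw [← hz, MonoidHom.map_zpowers, Subgroup.zpowers_le, hz]
  simpa [MulAut.conj_apply] using hg

/-- The normalizer is generated by `P`, `h` and the centre. -/
theorem Data.exists_decomp (D : Data P x e t) (hh : Gen x e h a₀) [Fintype (P : Subgroup G)]
    [Fintype (cen (P : Subgroup G))] (hH : Compl (P : Subgroup G) (Subgroup.center G)) {n : G}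
    (hn : n ∈ Subgroup.normalizer ((P : Subgroup G) : Set G)) :
    ∃ (j : ZMod e) (k : ZMod p) (z : Subgroup.center G), n = FeitSmall.hq h j * xp x k * z := by
  obtain ⟨a, ha⟩ := D.exists_xp (D.mem_normalizer.1 hn)
  obtain ⟨i, hi, rfl⟩ := hh.root.eq_pow_of_pow_eq_one (mem_rts.1 ((D.exps a).2 ⟨n, hn, ha⟩))
  set j : ZMod e := (i : ZMod e) with hj
  have hv : j.val = i := ZMod.val_cast_of_lt hi
  have hc : (FeitSmall.hq h j)⁻¹ * n ∈ cen (P : Subgroup G) := by
    refine D.setup.free D.mem D.ne ?_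
    rw [FeitSmall.hq, hv, show (h ^ i)⁻¹ * n * x * ((h ^ i)⁻¹ * n)⁻¹ = (h ^ i)⁻¹ * (n * x * n⁻¹) * h ^ i by group,
      ha]
    have h1 := hh.conj_xp D i (1 : ZMod p)
    rw [mul_one, xp_one] at h1
    rw [← h1]
    group
  obtain ⟨y, hy, z, hz, hyz⟩ := hH.prod _ hc
  obtain ⟨k, rfl⟩ := D.exists_xp hy
  exact ⟨j, k, ⟨z, hz⟩, by
    show n = FeitSmall.hq h j * xp x k * z
    rw [mul_assoc, ← hyz, mul_inv_cancel_left]⟩

/-- The number of cosets fixed by `P`, and its residue. -/
theorem Data.sum_group (D : Data P x e t) :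
    ∃ n₀ : ℕ, ¬ p ∣ n₀ ∧ ∀ {A : Type} [AddCommGroup A] (f : G → A) (a : A),
      (∀ g, ∀ y ∈ (P : Subgroup G), f (g * y) = f g) →
      (∀ n ∈ Subgroup.normalizer ((P : Subgroup G) : Set G), f n = a) →
      ∃ S : Finset G, ∑ g, f g = p • (n₀ • a + ∑ g ∈ S, ∑ i ∈ range p, f (x ^ i * g)) := by
  classical
  haveI := Fintype.ofFinite (G ⧸ (P : Subgroup G))
  set F := univ.filter (fun c : G ⧸ (P : Subgroup G) => x • c = c) with hF
  have hfix : ∀ c ∈ F, c.out ∈ Subgroup.normalizer ((P : Subgroup G) : Set G) := by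
    intro c hc
    have h1 : c.out⁻¹ * x * c.out ∈ (P : Subgroup G) := by
      have := (QuotientGroup.eq (s := (P : Subgroup G))).1
        (show ((c.out : G) : G ⧸ (P : Subgroup G)) = ((x * c.out : G) : G ⧸ (P : Subgroup G)) by
          rw [← smul_eq_mul, ← MulAction.Quotient.smul_coe, QuotientGroup.out_eq', (mem_filter.1 hc).2])
      rwa [← mul_assoc] at this
    rw [← inv_inv c.out]
    exact Subgroup.inv_mem _ (D.mem_normalizer.2 (by rwa [inv_inv]))
  refine ⟨F.card, fun hd => ?_, fun {A} _ f a hP hN => ?_⟩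
  · have hidx : ¬ p ∣ Nat.card (G ⧸ (P : Subgroup G)) := P.not_dvd_index
    obtain ⟨S, hS⟩ := sum_orbits (G := G) (C := G ⧸ (P : Subgroup G)) D.pow (fun _ => (1 : ℕ))
    simp only [sum_const, smul_eq_mul, mul_one, card_univ, card_range, ← Nat.card_eq_fintype_card] at hS
    exact hidx (hS ▸ (Nat.dvd_add hd ⟨S.card, mul_comm _ _⟩))
  · let f' : G ⧸ (P : Subgroup G) → A := fun c => f c.out
    have hf' : ∀ g : G, f' (g : G ⧸ (P : Subgroup G)) = f g := by
      intro g
      obtain ⟨⟨y, hy⟩, e1⟩ := QuotientGroup.mk_out_eq_mul (P : Subgroup G) g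
      show f _ = _
      rw [e1]; exact hP g y hy
    obtain ⟨S, hS⟩ := sum_orbits (G := G) (C := G ⧸ (P : Subgroup G)) D.pow f'
    refine ⟨S.image Quotient.out, ?_⟩
    have hfib : ∑ g, f g = p • ∑ c, f' c := by
      rw [← Finset.sum_fiberwise univ (fun g : G => (g : G ⧸ (P : Subgroup G))) f, Finset.smul_sum]
      refine Finset.sum_congr rfl fun c _ => ?_
      rw [Finset.sum_congr rfl fun g hg => show f g = f' c by rw [← (mem_filter.1 hg).2, hf'],
        sum_const]
      congr 1
      rw [show univ.filter (fun g : G => (g : G ⧸ (P : Subgroup G)) = c) =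
          (Finset.univ : Finset ↥(P : Subgroup G)).image (fun y : ↥(P : Subgroup G) => c.out * (y : G)) by
        ext g
        simp only [mem_filter, mem_univ, true_and, mem_image]
        constructor
        · rintro rfl
          obtain ⟨y, e1⟩ := QuotientGroup.mk_out_eq_mul (P : Subgroup G) g
          exact ⟨y⁻¹, by rw [e1, Subgroup.coe_inv, mul_inv_cancel_right]⟩
        · rintro ⟨y, rfl⟩
          rw [QuotientGroup.mk_mul_of_mem _ y.2, QuotientGroup.out_eq'],
        card_image_of_injective _ (fun y y' e1 => Subtype.ext (mul_left_cancel e1)), card_univ,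
        ← Nat.card_eq_fintype_card, D.hP]
    rw [hfib, hS, Finset.sum_congr rfl fun c hc => show f' c = a from hN _ (hfix c hc), sum_const,
      Finset.sum_image fun c _ c' _ h' => Quotient.out_inj.1 h']
    congr 2
    refine Finset.sum_congr rfl fun c _ => Finset.sum_congr rfl fun i _ => ?_
    rw [← hf', ← smul_eq_mul, ← MulAction.Quotient.smul_coe, QuotientGroup.out_eq']

open Representation in
/-- Intertwiners between two representations whose hom space is one dimensional. -/
theorem proportional {V W : Type*} [AddCommGroup V] [Module ℂ V] [FiniteDimensional ℂ V]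
    [AddCommGroup W] [Module ℂ W] [FiniteDimensional ℂ W] (ρ : Representation ℂ G V)
    (σ : Representation ℂ G W) (hone : ∑ g, σ.character g * ρ.character g⁻¹ = Nat.card G)
    {T S : V →ₗ[ℂ] W} (hT : ∀ g v, T (ρ g v) = σ g (T v)) (hS : ∀ g v, S (ρ g v) = σ g (S v))
    (hT0 : T ≠ 0) : ∃ c : ℂ, S = c • T := by
  haveI : Invertible (Nat.card G : ℂ) := invertibleOfNonzero (Nat.cast_ne_zero.2 Nat.card_pos.ne')
  have h1 := Representation.card_inv_mul_sum_char_mul_char_eq_finrank ρ σ
  rw [hone, inv_mul_cancel₀ (Nat.cast_ne_zero.2 Nat.card_pos.ne')] at h1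
  have h2 : Module.finrank ℂ (IntertwiningMap ρ σ) = 1 := by exact_mod_cast h1.symm
  let T' := T.intertwiningMap_of_isIntertwiningMap ρ σ hT
  obtain ⟨c, hc⟩ := (finrank_eq_one_iff_of_nonzero' T' (fun h0 => hT0 (by
    have := congrArg IntertwiningMap.toLinearMap h0
    exact this))).1 h2 (S.intertwiningMap_of_isIntertwiningMap ρ σ hS)
  exact ⟨c, (congrArg IntertwiningMap.toLinearMap hc).symm⟩

end CfsgLib.FeitSmall
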