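import Mathlib

/-!
# Cyclotomic numbers modulo `p`

For a divisor `e` of `p - 1` we count the solutions of `a h + b k = z` with `h`, `k` among the
`e`-th roots of unity of `ZMod p`, and show that for odd `e` these numbers cannot all be bounded
from one side too tightly.
-/

namespace CfsgLib.FeitSmall

open Finset Polynomial

set_option linter.unusedSectionVars false

variable {p : ℕ} [Fact p.Prime] {e t : ℕ}

/-- The `e`-th roots of unity. -/
def rts (p : ℕ) [Fact p.Prime] (e : ℕ) : Finset (ZMod p) := univ.filter fun a => a ^ e = 1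

/-- The number of solutions of `a h + b k = z`. -/
def cc (p : ℕ) [Fact p.Prime] (e : ℕ) (a b z : ZMod p) : ℕ :=
  ((rts p e ×ˢ rts p e).filter fun q => a * q.1 + b * q.2 = z).card

theorem mem_rts {a : ZMod p} : a ∈ rts p e ↔ a ^ e = 1 := by simp [rts]

theorem one_mem_rts : (1 : ZMod p) ∈ rts p e := mem_rts.2 (one_pow e)

theorem mul_mem_rts {a b : ZMod p} (ha : a ∈ rts p e) (hb : b ∈ rts p e) : a * b ∈ rts p e := by
  rw [mem_rts] at *
  rw [mul_pow, ha, hb, one_mul]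

theorem inv_mem_rts {a : ZMod p} (ha : a ∈ rts p e) : a⁻¹ ∈ rts p e := by
  rw [mem_rts] at *
  rw [inv_pow, ha, inv_one]

theorem ne_zero_rts (he : e ≠ 0) {a : ZMod p} (ha : a ∈ rts p e) : a ≠ 0 := fun h0 => by
  rw [mem_rts, h0, zero_pow he] at ha
  exact zero_ne_one ha

/-- The standing arithmetic. -/
structure Arith (p e t : ℕ) : Prop where
  mul : t * e + 1 = p
  epos : e ≠ 0

theorem Arith.tpos (A : Arith p e t) : t ≠ 0 := by
  rintro rfl
  have := A.mul
  have := (Fact.out : p.Prime).two_le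
  omega

theorem Arith.lt (A : Arith p e t) : e < p := by
  have := Nat.le_mul_of_pos_left e (Nat.pos_of_ne_zero A.tpos)
  have := A.mul
  omega

theorem Arith.exists_root (A : Arith p e t) : ∃ g : ZMod p, IsPrimitiveRoot g e := by
  obtain ⟨g, hg⟩ := IsCyclic.exists_ofOrder_eq_natCard (α := (ZMod p)ˣ)
  refine ⟨(g : ZMod p) ^ t, IsPrimitiveRoot.pow (n := p - 1) (Nat.sub_pos_of_lt (Fact.out : p.Prime).one_lt) ?_
    (by have := A.mul; omega)⟩
  rw [IsPrimitiveRoot.iff_orderOf, orderOf_units, hg, Nat.card_eq_fintype_card, ZMod.card_units]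

theorem Arith.rts_eq (A : Arith p e t) : rts p e = nthRootsFinset e (1 : ZMod p) := by
  ext a
  rw [mem_rts, mem_nthRootsFinset (Nat.pos_of_ne_zero A.epos)]

theorem Arith.card_rts (A : Arith p e t) : (rts p e).card = e := by
  obtain ⟨g, hg⟩ := A.exists_root
  rw [A.rts_eq, hg.card_nthRootsFinset]

theorem neg_one_mem_rts (he : Even e) : (-1 : ZMod p) ∈ rts p e := mem_rts.2 he.neg_one_pow

theorem neg_mem_iff_even (hp : p ≠ 2) : (-1 : ZMod p) ∈ rts p e ↔ Even e := by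
  refine ⟨fun h => ?_, neg_one_mem_rts⟩
  by_contra hodd
  rw [Nat.not_even_iff_odd] at hodd
  rw [mem_rts, hodd.neg_one_pow] at h
  have h2 : ((2 : ℕ) : ZMod p) = 0 := by push_cast; linear_combination -h
  rw [ZMod.natCast_eq_zero_iff] at h2
  exact hp ((Nat.prime_dvd_prime_iff_eq Fact.out Nat.prime_two).1 h2)

theorem mul_right_mem_iff {a h : ZMod p} (hh : h ∈ rts p e) : a * h ∈ rts p e ↔ a ∈ rts p e := by
  rw [mem_rts, mem_rts, mul_pow, mem_rts.1 hh, mul_one]

/-! ### symmetries -/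

theorem cc_mul_left (he : e ≠ 0) (a b z : ZMod p) {h : ZMod p} (hh : h ∈ rts p e) :
    cc p e (a * h) b z = cc p e a b z := by
  have h0 := ne_zero_rts he hh
  refine Finset.card_nbij' (fun q => (h * q.1, q.2)) (fun q => (h⁻¹ * q.1, q.2)) ?_ ?_ ?_ ?_
  · intro q hq
    simp only [coe_filter, Set.mem_ofPred_eq, mem_product] at hq ⊢
    exact ⟨⟨mul_mem_rts hh hq.1.1, hq.1.2⟩, by rw [← hq.2, mul_assoc]⟩
  · intro q hq
    simp only [coe_filter, Set.mem_ofPred_eq, mem_product] at hq ⊢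
    exact ⟨⟨mul_mem_rts (inv_mem_rts hh) hq.1.1, hq.1.2⟩, by
      rw [← hq.2, mul_assoc, mul_inv_cancel_left₀ h0]⟩
  · intro q _
    simp [h0]
  · intro q _
    simp [h0]

theorem cc_comm (a b z : ZMod p) : cc p e a b z = cc p e b a z := by
  refine Finset.card_nbij' Prod.swap Prod.swap ?_ ?_ (fun _ _ => by simp) (fun _ _ => by simp) <;>
  · intro q hq
    simp only [coe_filter, Set.mem_ofPred_eq, mem_product, Prod.fst_swap, Prod.snd_swap] at hq ⊢
    exact ⟨hq.1.symm, by rw [← hq.2, add_comm]⟩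

theorem cc_mul_right (he : e ≠ 0) (a b z : ZMod p) {h : ZMod p} (hh : h ∈ rts p e) :
    cc p e a (b * h) z = cc p e a b z := by
  rw [cc_comm, cc_mul_left he b a z hh, cc_comm]

theorem cc_scale {r : ZMod p} (hr : r ≠ 0) (a b z : ZMod p) :
    cc p e (r * a) (r * b) (r * z) = cc p e a b z := by
  refine congrArg Finset.card (Finset.filter_congr fun q _ => ?_)
  constructor
  · intro h
    exact mul_left_cancel₀ hr (by rw [← h]; ring)
  · intro h
    rw [← h]; ring

theorem cc_mul_z (he : e ≠ 0) (a b z : ZMod p) {h : ZMod p} (hh : h ∈ rts p e) :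
    cc p e a b (z * h) = cc p e a b z := by
  have h0 := ne_zero_rts he hh
  rw [← cc_mul_left he a b (z * h) hh, ← cc_mul_right he (a * h) b (z * h) hh, mul_comm a, mul_comm b,
    mul_comm z, cc_scale h0]

theorem cc_cycle (he : e ≠ 0) (a b z : ZMod p) : cc p e a b z = cc p e z (-a) b := by
  refine Finset.card_nbij' (fun q => (q.2⁻¹, q.1 * q.2⁻¹)) (fun q => (q.2 * q.1⁻¹, q.1⁻¹)) ?_ ?_ ?_ ?_
  · intro q hq
    simp only [coe_filter, Set.mem_ofPred_eq, mem_product] at hq ⊢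
    have h2 := ne_zero_rts he hq.1.2
    exact ⟨⟨inv_mem_rts hq.1.2, mul_mem_rts hq.1.1 (inv_mem_rts hq.1.2)⟩, by
      rw [← hq.2]; field_simp; ring⟩
  · intro q hq
    simp only [coe_filter, Set.mem_ofPred_eq, mem_product] at hq ⊢
    have h1 := ne_zero_rts he hq.1.1
    exact ⟨⟨mul_mem_rts hq.1.2 (inv_mem_rts hq.1.1), inv_mem_rts hq.1.1⟩, by
      rw [← hq.2]; field_simp; ring⟩
  · intro q hq
    simp only [coe_filter, Set.mem_ofPred_eq, mem_product] at hq
    have h2 := ne_zero_rts he hq.1.2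
    exact Prod.ext (by field_simp) (inv_inv _)
  · intro q hq
    simp only [coe_filter, Set.mem_ofPred_eq, mem_product] at hq
    have h1 := ne_zero_rts he hq.1.1
    exact Prod.ext (inv_inv _) (by field_simp)

theorem cc_zero (A : Arith p e t) {a b : ZMod p} (ha : a ≠ 0) :
    cc p e a b 0 = if -b / a ∈ rts p e then e else 0 := by
  have key : ∀ q : ZMod p × ZMod p, q.2 ∈ rts p e → a * q.1 + b * q.2 = 0 →
      q.1 = -b / a * q.2 := by
    intro q _ h
    field_simp
    linear_combination h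
  split_ifs with hm
  · conv_rhs => rw [← A.card_rts]
    refine Finset.card_nbij' (fun q => q.2) (fun k => (-b / a * k, k)) ?_ ?_ ?_ (fun _ _ => rfl)
    · intro q hq
      simp only [coe_filter, Set.mem_ofPred_eq, mem_product] at hq
      exact hq.1.2
    · intro k hk
      simp only [coe_filter, Set.mem_ofPred_eq, mem_product]
      exact ⟨⟨mul_mem_rts hm hk, hk⟩, by field_simp; ring⟩
    · intro q hq
      simp only [coe_filter, Set.mem_ofPred_eq, mem_product] at hq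
      exact Prod.ext (key q hq.1.2 hq.2).symm rfl
  · rw [cc, Finset.card_eq_zero, Finset.filter_eq_empty_iff]
    intro q hq h
    rw [mem_product] at hq
    exact hm ((mul_right_mem_iff hq.2).1 (key q hq.2 h ▸ hq.1))

theorem sum_cc (A : Arith p e t) (a b : ZMod p) : ∑ z, cc p e a b z = e * e := by
  unfold cc
  rw [← Finset.card_eq_sum_card_fiberwise (fun _ _ => mem_univ _), card_product, A.card_rts]

theorem sum_cc_erase (A : Arith p e t) {a b : ZMod p} (ha : a ≠ 0) :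
    (∑ z ∈ univ.erase 0, cc p e a b z) + (if -b / a ∈ rts p e then e else 0) = e * e := by
  rw [← cc_zero A ha, Finset.sum_erase_add _ _ (mem_univ _), sum_cc A]

/-! ### the second moment -/

/-- Pairs of solutions, over all `s` and `z`. -/
theorem sum_cc_cc (A : Arith p e t) :
    ∑ s ∈ univ.erase (0 : ZMod p), ∑ z ∈ univ.erase (0 : ZMod p),
      (cc p e 1 s z : ℤ) * ((cc p e 1 s z : ℤ) - 1) =
    (e : ℤ) ^ 2 * ((e : ℤ) - 1) * ((e : ℤ) - 2) := by
  classical
  set H := rts p e with hH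
  -- the off-diagonal pairs of solutions
  let S : ZMod p → ZMod p → Finset ((ZMod p × ZMod p) × (ZMod p × ZMod p)) := fun s z =>
    ((H ×ˢ H).filter fun q => 1 * q.1 + s * q.2 = z).offDiag
  have hS : ∀ s z, ((S s z).card : ℤ) = (cc p e 1 s z : ℤ) * ((cc p e 1 s z : ℤ) - 1) := by
    intro s z
    simp only [S, offDiag_card]
    rw [Nat.cast_sub (Nat.le_mul_self _), Nat.cast_mul]
    simp only [cc, hH]
    ring
  have hpos : ∀ {x}, x ∈ H → x ≠ 0 := fun hx => ne_zero_rts A.epos hx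
  -- all quadruples with four conditions
  let U := ((H ×ˢ H) ×ˢ (H ×ˢ H)).filter fun r =>
    r.1.1 ≠ r.2.1 ∧ r.1.2 ≠ r.2.2 ∧ r.2.1 * r.1.2 ≠ r.1.1 * r.2.2
  let φ : (ZMod p × ZMod p) × (ZMod p × ZMod p) → ZMod p × ZMod p := fun r =>
    ((r.2.1 - r.1.1) / (r.1.2 - r.2.2),
      r.1.1 + (r.2.1 - r.1.1) / (r.1.2 - r.2.2) * r.1.2)
  have hfib : ∀ s ∈ univ.erase (0 : ZMod p), ∀ z ∈ univ.erase (0 : ZMod p),
      U.filter (fun r => φ r = (s, z)) = S s z := by
    intro s hs z hz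
    have hs0 : s ≠ 0 := (mem_erase.1 hs).1
    have hz0 : z ≠ 0 := (mem_erase.1 hz).1
    ext ⟨⟨a, b⟩, ⟨a', b'⟩⟩
    simp only [U, S, φ, mem_filter, mem_product, mem_offDiag, one_mul, Prod.mk.injEq, ne_eq]
    constructor
    · rintro ⟨⟨⟨⟨ha, hb⟩, ha', hb'⟩, h1, h2, h3⟩, hs', hz'⟩
      have hd : b - b' ≠ 0 := sub_ne_zero.2 h2
      rw [hs'] at hz'
      refine ⟨⟨⟨ha, hb⟩, hz'⟩, ⟨⟨ha', hb'⟩, ?_⟩, fun h => h2 h.2⟩
      rw [div_eq_iff hd] at hs'
      linear_combination hz' + hs'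
    · rintro ⟨⟨⟨ha, hb⟩, hz1⟩, ⟨⟨ha', hb'⟩, hz2⟩, hne⟩
      have h2 : b ≠ b' := fun h => hne ⟨by subst h; linear_combination hz1 - hz2, h⟩
      have h1 : a ≠ a' := fun h => h2 (mul_left_cancel₀ hs0 (by subst h; linear_combination hz1 - hz2))
      have hd : b - b' ≠ 0 := sub_ne_zero.2 h2
      have hs' : (a' - a) / (b - b') = s := by
        rw [div_eq_iff hd]; linear_combination hz2 - hz1
      refine ⟨⟨⟨⟨ha, hb⟩, ha', hb'⟩, h1, h2, fun h3 => ?_⟩, hs', by rw [hs']; exact hz1⟩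
      have : z * (b - b') = 0 := by rw [← hz1]; linear_combination (hz1 - hz2) * b + h3
      exact hz0 ((mul_eq_zero.1 this).resolve_right hd)
  have hmaps : ∀ r ∈ U, φ r ∈ (univ.erase (0 : ZMod p)) ×ˢ (univ.erase (0 : ZMod p)) := by
    rintro ⟨⟨a, b⟩, ⟨a', b'⟩⟩ hr
    simp only [U, mem_filter, mem_product, ne_eq] at hr
    obtain ⟨⟨⟨ha, hb⟩, ha', hb'⟩, h1, h2, h3⟩ := hr
    have hd : b - b' ≠ 0 := sub_ne_zero.2 h2
    simp only [φ, mem_product, mem_erase, mem_univ, and_true, ne_eq]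
    refine ⟨div_ne_zero (sub_ne_zero.2 (Ne.symm h1)) hd, fun h0 => h3 ?_⟩
    field_simp at h0
    linear_combination h0
  have hU : ∑ s ∈ univ.erase (0 : ZMod p), ∑ z ∈ univ.erase (0 : ZMod p), (S s z).card = U.card := by
    rw [← Finset.sum_product', Finset.card_eq_sum_card_fiberwise hmaps]
    exact Finset.sum_congr rfl fun q hq => by
      rw [mem_product] at hq
      rw [hfib q.1 hq.1 q.2 hq.2]
  -- count the quadruples
  let T := ((H ×ˢ H) ×ˢ (H ×ˢ H)).filter fun r => r.2.1 ≠ 1 ∧ r.2.2 ≠ 1 ∧ r.2.1 ≠ r.2.2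
  have hUT : U.card = T.card := by
    refine Finset.card_nbij' (fun r => (r.1, (r.2.1 * r.1.1⁻¹, r.2.2 * r.1.2⁻¹)))
      (fun r => (r.1, (r.2.1 * r.1.1, r.2.2 * r.1.2))) ?_ ?_ ?_ ?_
    · rintro ⟨⟨a, b⟩, ⟨a', b'⟩⟩ hr
      simp only [U, T, coe_filter, Set.mem_ofPred_eq, mem_product, ne_eq] at hr ⊢
      obtain ⟨⟨⟨ha, hb⟩, ha', hb'⟩, h1, h2, h3⟩ := hr
      have ha0 := hpos ha; have hb0 := hpos hb
      refine ⟨⟨⟨ha, hb⟩, mul_mem_rts ha' (inv_mem_rts ha), mul_mem_rts hb' (inv_mem_rts hb)⟩,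
        fun h => h1 ?_, fun h => h2 ?_, fun h => h3 ?_⟩ <;> field_simp at h
      · exact h.symm
      · exact h.symm
      · linear_combination h
    · rintro ⟨⟨a, b⟩, ⟨u, v⟩⟩ hr
      simp only [U, T, coe_filter, Set.mem_ofPred_eq, mem_product, ne_eq] at hr ⊢
      obtain ⟨⟨⟨ha, hb⟩, hu, hv⟩, h1, h2, h3⟩ := hr
      have ha0 := hpos ha; have hb0 := hpos hb
      refine ⟨⟨⟨ha, hb⟩, mul_mem_rts hu ha, mul_mem_rts hv hb⟩, fun h => h1 ?_, fun h => h2 ?_,
        fun h => h3 ?_⟩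
      · exact (mul_eq_right₀ ha0).1 h.symm
      · exact (mul_eq_right₀ hb0).1 h.symm
      · exact mul_right_cancel₀ (mul_ne_zero ha0 hb0) (by linear_combination h)
    · rintro ⟨⟨a, b⟩, ⟨a', b'⟩⟩ hr
      simp only [U, coe_filter, Set.mem_ofPred_eq, mem_product] at hr
      have ha0 := hpos hr.1.1.1; have hb0 := hpos hr.1.1.2
      simp [ha0, hb0]
    · rintro ⟨⟨a, b⟩, ⟨u, v⟩⟩ hr
      simp only [T, coe_filter, Set.mem_ofPred_eq, mem_product] at hr
      have ha0 := hpos hr.1.1.1; have hb0 := hpos hr.1.1.2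
      simp [ha0, hb0]
  have hT : T = (H ×ˢ H) ×ˢ (H.erase 1).offDiag := by
    ext r
    simp only [T, mem_filter, mem_product, mem_offDiag, mem_erase]
    tauto
  rw [← Finset.sum_congr rfl (fun s _ => Finset.sum_congr rfl fun z _ => hS s z)]
  have : ((U.card : ℕ) : ℤ) = (e : ℤ) ^ 2 * ((e : ℤ) - 1) * ((e : ℤ) - 2) := by
    rw [hUT, hT, card_product, card_product, offDiag_card, card_erase_of_mem one_mem_rts, A.card_rts]
    have he := A.epos
    rw [Nat.cast_mul, Nat.cast_mul, Nat.cast_sub (Nat.le_mul_self _), Nat.cast_mul,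
      Nat.cast_sub (Nat.one_le_iff_ne_zero.2 he)]
    push_cast
    ring
  rw [← this, ← hU]
  push_cast
  rfl

theorem sum_cc_all (A : Arith p e t) :
    ∑ s ∈ univ.erase (0 : ZMod p), ∑ z ∈ univ.erase (0 : ZMod p), (cc p e 1 s z : ℤ) =
      (e : ℤ) ^ 2 * ((p : ℤ) - 2) := by
  classical
  have hne : (univ.erase (0 : ZMod p)).filter (fun s => -s ∈ rts p e) = (rts p e).image Neg.neg := by
    ext s
    simp only [mem_filter, mem_erase, mem_univ, and_true, mem_image]
    constructor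
    · rintro ⟨-, h⟩; exact ⟨-s, h, neg_neg s⟩
    · rintro ⟨a, ha, rfl⟩; exact ⟨neg_ne_zero.2 (ne_zero_rts A.epos ha), by rwa [neg_neg]⟩
  have h : ∀ s ∈ univ.erase (0 : ZMod p), ∑ z ∈ univ.erase (0 : ZMod p), (cc p e 1 s z : ℤ) =
      (e : ℤ) * e - (if -s ∈ rts p e then (e : ℤ) else 0) := by
    intro s _
    have h1 := sum_cc_erase A (a := 1) (b := s) one_ne_zero
    rw [div_one] at h1
    rw [← Nat.cast_sum, eq_sub_iff_add_eq]
    exact_mod_cast h1
  rw [Finset.sum_congr rfl h, Finset.sum_sub_distrib, Finset.sum_const, ← Finset.sum_filter, hne,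
    Finset.sum_const, card_image_of_injective _ neg_injective, A.card_rts,
    card_erase_of_mem (mem_univ _), card_univ, ZMod.card, nsmul_eq_mul, nsmul_eq_mul,
    Nat.cast_sub (Fact.out : p.Prime).one_le]
  push_cast
  ring

end CfsgLib.FeitSmall
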