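import Mathlib

/-!
# A summand of dimension three or five in the exterior square of a full Jordan block

For the nilpotent shift `J` of size `f + 1` the derivation `B ↦ J B + B Jᵀ` of the skew matrices has
an invariant summand of dimension `2 s + 1`, stable under the diagonal matrices of geometric type.
-/

namespace CfsgLib.FeitSmall

open Matrix Finset

set_option linter.unusedVariables false
set_option linter.unusedSectionVars false

variable (k : Type*) [Field k] (f : ℕ)

/-- The shift. -/
def shiftJ : Matrix (Fin (f + 1)) (Fin (f + 1)) k :=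
  Matrix.of fun i j => if (i : ℕ) = j + 1 then 1 else 0

/-- The derivation. -/
def derJ : Module.End k (Matrix (Fin (f + 1)) (Fin (f + 1)) k) :=
  LinearMap.mulLeft k (shiftJ k f) + LinearMap.mulRight k (shiftJ k f)ᵀ

/-- The skew matrices. -/
def skew : Submodule k (Matrix (Fin (f + 1)) (Fin (f + 1)) k) where
  carrier := {B | Bᵀ = -B}
  zero_mem' := by simp
  add_mem' := fun {A B} (hA : Aᵀ = -A) (hB : Bᵀ = -B) => by
    show (A + B)ᵀ = -(A + B)
    rw [transpose_add, hA, hB, neg_add]
  smul_mem' := fun c A (hA : Aᵀ = -A) => by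
    show (c • A)ᵀ = -(c • A)
    rw [transpose_smul, hA, smul_neg]

theorem derJ_skew {B : Matrix (Fin (f + 1)) (Fin (f + 1)) k} (hB : B ∈ skew k f) :
    derJ k f B ∈ skew k f := by
  show (shiftJ k f * B + B * (shiftJ k f)ᵀ)ᵀ = -(shiftJ k f * B + B * (shiftJ k f)ᵀ)
  rw [transpose_add, transpose_mul, transpose_mul, transpose_transpose, show Bᵀ = -B from hB,
    neg_mul, mul_neg, neg_add]
  exact add_comm _ _

/-- The derivation of the skew matrices. -/
def derS : Module.End k (skew k f) :=
  (derJ k f).restrict fun B hB => derJ_skew k f hB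

theorem derS_pow_coe (n : ℕ) (B : skew k f) :
    (((derS k f) ^ n) B : Matrix (Fin (f + 1)) (Fin (f + 1)) k) =
      ((derJ k f) ^ n) (B : Matrix (Fin (f + 1)) (Fin (f + 1)) k) := by
  induction n generalizing B with
  | zero => rfl
  | succ n ih =>
    rw [pow_succ', pow_succ', Module.End.mul_apply, Module.End.mul_apply, ← ih B]
    rfl

/-- The pairing. -/
def pairR (w : Matrix (Fin (f + 1)) (Fin (f + 1)) k) :
    Matrix (Fin (f + 1)) (Fin (f + 1)) k →ₗ[k] k :=
  (Matrix.traceLinearMap (Fin (f + 1)) k k).comp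
    (LinearMap.mulRight k (w.submatrix Fin.rev Fin.rev)ᵀ)

variable {k f}

theorem pairR_apply (w B : Matrix (Fin (f + 1)) (Fin (f + 1)) k) :
    pairR k f w B = ∑ a, ∑ b, B a b * w a.rev b.rev := by
  show (B * (w.submatrix Fin.rev Fin.rev)ᵀ).trace = _
  rw [Matrix.trace]
  rfl

theorem shiftJ_rev : (shiftJ k f).submatrix Fin.rev Fin.rev = (shiftJ k f)ᵀ := by
  ext i j
  simp only [submatrix_apply, transpose_apply, shiftJ, of_apply, Fin.val_rev]
  congr 1
  have := i.isLt
  have := j.isLt
  exact propext ⟨fun h => by omega, fun h => by omega⟩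

theorem pairR_derJ (w B : Matrix (Fin (f + 1)) (Fin (f + 1)) k) :
    pairR k f w (derJ k f B) = pairR k f (derJ k f w) B := by
  have hR : ∀ A C : Matrix (Fin (f + 1)) (Fin (f + 1)) k, (A * C).submatrix Fin.rev Fin.rev =
      A.submatrix Fin.rev Fin.rev * C.submatrix Fin.rev Fin.rev := fun A C =>
    (submatrix_mul_equiv A C Fin.rev Fin.revPerm Fin.rev).symm
  show ((shiftJ k f * B + B * (shiftJ k f)ᵀ) * (w.submatrix Fin.rev Fin.rev)ᵀ).trace =
    (B * ((shiftJ k f * w + w * (shiftJ k f)ᵀ).submatrix Fin.rev Fin.rev)ᵀ).trace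
  rw [submatrix_add, Pi.add_apply, Pi.add_apply, hR, hR, shiftJ_rev,
    ← transpose_submatrix, shiftJ_rev, transpose_transpose, transpose_add, transpose_mul, transpose_mul,
    transpose_transpose, add_mul, mul_add, trace_add, trace_add,
    Matrix.mul_assoc (shiftJ k f), trace_mul_comm (shiftJ k f), Matrix.mul_assoc B,
    Matrix.mul_assoc B]

theorem pairR_derJ_pow (n : ℕ) : ∀ w B : Matrix (Fin (f + 1)) (Fin (f + 1)) k,
    pairR k f w ((derJ k f ^ n) B) = pairR k f ((derJ k f ^ n) w) B := by
  induction n with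
  | zero => intro w B; rfl
  | succ n ih =>
    intro w B
    rw [pow_succ, Module.End.mul_apply, ih, pairR_derJ, ← Module.End.mul_apply, ← pow_succ', ← pow_succ]

/-- A matrix on one antidiagonal. -/
def band (W : ℕ) (g : ℤ → k) : Matrix (Fin (f + 1)) (Fin (f + 1)) k :=
  Matrix.of fun a b => if (a : ℕ) + b = W then g (a : ℕ) else 0

theorem shiftJ_mul (B : Matrix (Fin (f + 1)) (Fin (f + 1)) k) (a b : Fin (f + 1)) :
    (shiftJ k f * B) a b = if h : 0 < (a : ℕ) then B ⟨(a : ℕ) - 1, by omega⟩ b else 0 := by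
  rw [Matrix.mul_apply]
  split_ifs with h
  · rw [Finset.sum_eq_single (⟨(a : ℕ) - 1, by omega⟩ : Fin (f + 1))]
    · simp only [shiftJ, of_apply]
      rw [if_pos (by omega), one_mul]
    · intro j _ hj
      simp only [shiftJ, of_apply]
      rw [if_neg (fun e => hj (Fin.ext (show (j : ℕ) = (a : ℕ) - 1 by omega))), zero_mul]
    · exact fun h0 => absurd (mem_univ _) h0
  · refine Finset.sum_eq_zero fun j _ => ?_
    simp only [shiftJ, of_apply]
    rw [if_neg (by omega), zero_mul]

theorem derJ_apply (B : Matrix (Fin (f + 1)) (Fin (f + 1)) k) (a b : Fin (f + 1)) :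
    derJ k f B a b = (if h : 0 < (a : ℕ) then B ⟨(a : ℕ) - 1, by omega⟩ b else 0) +
      (if h : 0 < (b : ℕ) then B a ⟨(b : ℕ) - 1, by omega⟩ else 0) := by
  show (shiftJ k f * B + B * (shiftJ k f)ᵀ) a b = _
  rw [Matrix.add_apply, shiftJ_mul]
  congr 1
  have e : (B * (shiftJ k f)ᵀ) a b = (shiftJ k f * Bᵀ) b a := by
    rw [Matrix.mul_apply, Matrix.mul_apply]
    exact Finset.sum_congr rfl fun j _ => mul_comm _ _
  rw [e, shiftJ_mul]
  rfl

theorem derJ_band (W : ℕ) (g : ℤ → k) (hb : W + 1 ≤ f → g (-1) = 0 ∧ g ((W : ℤ) + 1) = 0) :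
    derJ k f (band W g) = band (W + 1) (fun a => g (a - 1) + g a) := by
  ext a b
  have ha := a.isLt
  have hb' := b.isLt
  rw [derJ_apply]
  simp only [band, of_apply]
  by_cases hab : (a : ℕ) + b = W + 1
  · rw [if_pos hab]
    congr 1
    · split_ifs with h h'
      · congr 1; omega
      · omega
      · rw [show ((a : ℕ) : ℤ) - 1 = -1 by omega, (hb (by omega)).1]
    · split_ifs with h h'
      · rfl
      · omega
      · rw [show ((a : ℕ) : ℤ) = (W : ℤ) + 1 by omega, (hb (by omega)).2]
  · rw [if_neg hab]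
    split_ifs <;> first | omega | simp

theorem pairR_band_ne (W W' : ℕ) (g g' : ℤ → k) (h : W + W' ≠ 2 * f) :
    pairR k f (band W' g') (band W g) = 0 := by
  rw [pairR_apply]
  refine Finset.sum_eq_zero fun a _ => Finset.sum_eq_zero fun b _ => ?_
  simp only [band, of_apply, Fin.val_rev]
  split_ifs with h1 h2
  · exfalso
    have := a.isLt
    have := b.isLt
    omega
  all_goals simp

theorem pairR_band_eq (s : ℕ) (hs : s ≤ f) (g g' : ℤ → k) :
    pairR k f (band (f - s) g') (band (f + s) g) =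
      ∑ i ∈ range (f - s + 1), g ((f - i : ℕ) : ℤ) * g' (i : ℤ) := by
  rw [pairR_apply]
  have hrow : ∀ a : Fin (f + 1), ∑ b, (band (f + s) g : Matrix (Fin (f + 1)) (Fin (f + 1)) k) a b *
      (band (f - s) g' : Matrix (Fin (f + 1)) (Fin (f + 1)) k) a.rev b.rev =
      if (a.rev : ℕ) ≤ f - s then g ((f - (a.rev : ℕ) : ℕ) : ℤ) * g' ((a.rev : ℕ) : ℤ) else 0 := by
    intro a
    have ha := a.isLt
    simp only [band, of_apply, Fin.val_rev]
    split_ifs with h
    · rw [Finset.sum_eq_single (⟨f + s - (a : ℕ), by omega⟩ : Fin (f + 1))]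
      · rw [if_pos (by simp only; omega), if_pos (by simp only; omega)]
        congr 2; omega
      · intro b _ hb
        rw [if_neg fun e => hb (Fin.ext (by simp only; omega)), zero_mul]
      · exact fun h0 => absurd (mem_univ _) h0
    · refine Finset.sum_eq_zero fun b _ => ?_
      have := b.isLt
      rw [if_neg (by omega), zero_mul]
  rw [Finset.sum_congr rfl fun a _ => hrow a,
    Fintype.sum_equiv Fin.revPerm (fun a : Fin (f + 1) => if (a.rev : ℕ) ≤ f - s then
      g ((f - (a.rev : ℕ) : ℕ) : ℤ) * g' ((a.rev : ℕ) : ℤ) else 0)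
      (fun a : Fin (f + 1) => if (a : ℕ) ≤ f - s then
        g ((f - (a : ℕ) : ℕ) : ℤ) * g' ((a : ℕ) : ℤ) else 0) (fun a => rfl),
    Fin.sum_univ_eq_sum_range (fun a => if a ≤ f - s then g ((f - a : ℕ) : ℤ) * g' (a : ℤ) else 0),
    ← Finset.sum_filter]
  refine Finset.sum_congr ?_ fun _ _ => rfl
  ext i
  simp only [mem_filter, mem_range]
  omega

/-- The summand attached to an antidiagonal vector. -/
theorem exists_summand_skew (s : ℕ) (hs : s + 1 ≤ f) (hW : Odd (f - s)) (q : ℕ → ℤ → k)
    (hstep : ∀ n a, q (n + 1) a = q n a - q n (a - 1))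
    (hbd : ∀ n < s, q n (-1) = 0 ∧ q n (((f - s + n : ℕ) : ℤ) + 1) = 0)
    (hsym : ∀ a, q 0 (((f - s : ℕ) : ℤ) - a) = q 0 a) (hend : ∀ a, q (2 * s + 1) a = 0)
    (hC : ∑ i ∈ range (f - s + 1), q (2 * s) ((f - i : ℕ) : ℤ) * q 0 (i : ℤ) ≠ 0) :
    ∃ (π : Module.End k (skew k f)) (v : Fin (2 * s + 1) → skew k f) (w : skew k f),
      π * π = π ∧ Commute π (derS k f) ∧ (∀ B, π B ∈ Submodule.span k (Set.range v)) ∧ π w = w ∧
        (1 ≤ s → derS k f w ≠ 0) ∧
        ∀ (χ₀ c : k), χ₀ ≠ 0 → c ≠ 0 → ∀ B B' : skew k f,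
          (B' : Matrix (Fin (f + 1)) (Fin (f + 1)) k) =
              Matrix.diagonal (fun i : Fin (f + 1) => χ₀ * c ^ (i : ℕ)) * B *
                Matrix.diagonal (fun i : Fin (f + 1) => χ₀ * c ^ (i : ℕ)) →
          (π B' : Matrix (Fin (f + 1)) (Fin (f + 1)) k) =
              Matrix.diagonal (fun i : Fin (f + 1) => χ₀ * c ^ (i : ℕ)) * (π B) *
                Matrix.diagonal (fun i : Fin (f + 1) => χ₀ * c ^ (i : ℕ)) := by
  classical
  let g : ℕ → ℤ → k := fun n a => (-1 : k) ^ a * q n a
  have hg : ∀ n a, g n (a - 1) + g n a = g (n + 1) a := fun n a => by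
    simp only [g, hstep, zpow_sub_one₀ (neg_ne_zero.2 (one_ne_zero' k))]
    simp only [inv_neg, inv_one]
    ring
  set W := f - s with hWdef
  let w₀ : Matrix (Fin (f + 1)) (Fin (f + 1)) k := band W (g 0)
  have hpow : ∀ n, n ≤ 2 * s + 1 → (derJ k f ^ n) w₀ = band (W + n) (g n) := by
    intro n
    induction n with
    | zero => intro _; rfl
    | succ n ih =>
      intro hn
      rw [pow_succ', Module.End.mul_apply, ih (by omega), derJ_band]
      · rw [add_assoc]
        congr 1
        exact funext fun a => hg n a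
      · intro h
        obtain ⟨h1, h2⟩ := hbd n (by omega)
        simp only [g]
        exact ⟨by rw [h1, mul_zero], by
          rw [show ((W + n : ℕ) : ℤ) + 1 = ((f - s + n : ℕ) : ℤ) + 1 from rfl, h2, mul_zero]⟩
  have htop : (derJ k f ^ (2 * s + 1)) w₀ = 0 := by
    rw [hpow _ le_rfl]
    ext a b
    simp [band, g, hend]
  have hskew : w₀ ∈ skew k f := by
    show w₀ᵀ = -w₀
    ext a b
    rw [transpose_apply, neg_apply]
    simp only [w₀, band, of_apply]
    by_cases h : (b : ℕ) + a = W
    · rw [if_pos h, if_pos (by omega)]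
      simp only [g]
      rw [show ((b : ℕ) : ℤ) = ((f - s : ℕ) : ℤ) - ((a : ℕ) : ℤ) by omega, hsym,
        zpow_sub₀ (neg_ne_zero.2 (one_ne_zero' k)), zpow_natCast, zpow_natCast,
        hW.neg_one_pow, neg_div, one_div, ← inv_pow, inv_neg, inv_one]
      ring
    · rw [if_neg h, if_neg (by omega), neg_zero]
  let w : skew k f := ⟨w₀, hskew⟩
  let χ : skew k f →ₗ[k] k := (pairR k f w₀).comp (skew k f).subtype
  let D := derS k f
  set C := χ ((D ^ (2 * s)) w) with hCdef
  have hχ : ∀ n (B : skew k f), χ ((D ^ n) B) = pairR k f w₀ ((derJ k f ^ n) B) := fun n B => by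
    show pairR k f w₀ _ = _
    rw [show D = derS k f from rfl]
    congr 1
    exact derS_pow_coe k f n B
  have hC0 : C ≠ 0 := by
    rw [hCdef, hχ, hpow _ (by omega), show W + 2 * s = f + s by omega, pairR_band_eq s (by omega)]
    intro h0
    apply hC
    have h1 : ∀ i ∈ range (f - s + 1), g (2 * s) ((f - i : ℕ) : ℤ) * g 0 (i : ℤ) =
        (-1 : k) ^ f * (q (2 * s) ((f - i : ℕ) : ℤ) * q 0 (i : ℤ)) := by
      intro i hi
      have hi' := mem_range.1 hi
      simp only [g, zpow_natCast]
      rw [mul_mul_mul_comm, ← pow_add, show f - i + i = f by omega]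
    rw [Finset.sum_congr rfl h1, ← Finset.mul_sum, mul_eq_zero] at h0
    exact h0.resolve_left (pow_ne_zero _ (neg_ne_zero.2 one_ne_zero))
  have horth : ∀ n, n ≠ 2 * s → χ ((D ^ n) w) = 0 := by
    intro n hn
    rw [hχ]
    rcases Nat.lt_or_ge n (2 * s) with h | h
    · rw [hpow n (by omega)]
      exact pairR_band_ne _ _ _ _ (by omega)
    · show pairR k f w₀ ((derJ k f ^ n) w₀) = 0
      rw [show n = (n - (2 * s + 1)) + (2 * s + 1) by omega, pow_add, Module.End.mul_apply, htop,
        map_zero, map_zero]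
  have hkill : ∀ B, χ ((D ^ (2 * s + 1)) B) = 0 := fun B => by
    rw [hχ, pairR_derJ_pow, htop, pairR_apply]
    simp
  let π : Module.End k (skew k f) := C⁻¹ • ∑ i ∈ range (2 * s + 1),
    (χ.comp (D ^ (2 * s - i))).smulRight ((D ^ i) w)
  have hπ : ∀ B, π B = C⁻¹ • ∑ i ∈ range (2 * s + 1), χ ((D ^ (2 * s - i)) B) • (D ^ i) w := fun B => by
    simp only [π, LinearMap.smul_apply, LinearMap.sum_apply, LinearMap.smulRight_apply, LinearMap.comp_apply]
  have hfix : ∀ j, j ≤ 2 * s → π ((D ^ j) w) = (D ^ j) w := by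
    intro j hj
    rw [hπ, Finset.sum_eq_single j]
    · rw [← Module.End.mul_apply, ← pow_add, Nat.sub_add_cancel hj, ← hCdef, smul_smul,
        inv_mul_cancel₀ hC0, one_smul]
    · intro i hi hij
      have := mem_range.1 hi
      rw [← Module.End.mul_apply, ← pow_add, horth _ (by omega), zero_smul]
    · exact fun h0 => absurd (mem_range.2 (by omega)) h0
  refine ⟨π, fun i => (D ^ (i : ℕ)) w, w, ?_, ?_, ?_, ?_, ?_, ?_⟩
  · refine LinearMap.ext fun B => ?_
    rw [Module.End.mul_apply]
    conv_lhs => rw [hπ B]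
    rw [map_smul, map_sum, hπ B]
    congr 1
    refine Finset.sum_congr rfl fun i hi => ?_
    rw [map_smul, hfix i (Nat.lt_succ_iff.1 (mem_range.1 hi))]
  · refine LinearMap.ext fun B => ?_
    rw [Module.End.mul_apply, Module.End.mul_apply, hπ, hπ, map_smul, map_sum]
    congr 1
    simp only [map_smul]
    rw [Finset.sum_range_succ', Finset.sum_range_succ]
    have e1 : χ ((D ^ (2 * s - 0)) (derS k f B)) = 0 := by
      rw [Nat.sub_zero, show derS k f B = D B from rfl, ← Module.End.mul_apply, ← pow_succ]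
      exact hkill B
    have e2 : derS k f ((D ^ (2 * s)) w) = 0 := by
      rw [show derS k f ((D ^ (2 * s)) w) = (D ^ (2 * s + 1)) w by rw [pow_succ']; rfl]
      exact Subtype.ext ((derS_pow_coe k f _ w).trans htop)
    rw [e1, zero_smul, add_zero, e2, smul_zero, add_zero]
    refine Finset.sum_congr rfl fun i hi => ?_
    have := mem_range.1 hi
    rw [show (D ^ (i + 1)) w = derS k f ((D ^ i) w) by rw [pow_succ']; rfl,
      show derS k f B = D B from rfl, ← Module.End.mul_apply (f := D ^ (2 * s - (i + 1))), ← pow_succ,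
      show 2 * s - (i + 1) + 1 = 2 * s - i by omega]
  · intro B
    rw [hπ]
    exact Submodule.smul_mem _ _ (Submodule.sum_mem _ fun i hi => Submodule.smul_mem _ _
      (Submodule.subset_span ⟨⟨i, mem_range.1 hi⟩, rfl⟩))
  · exact hfix 0 (Nat.zero_le _)
  · intro hs1 h0
    apply hC0
    rw [hCdef, show 2 * s = (2 * s - 1) + 1 by omega, pow_succ, Module.End.mul_apply,
      show D w = 0 from h0, map_zero, map_zero]
  · intro χ₀ c hχ₀ hc B B' hBB'
    set u : Matrix (Fin (f + 1)) (Fin (f + 1)) k :=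
      Matrix.diagonal (fun i : Fin (f + 1) => χ₀ * c ^ (i : ℕ)) with hu
    have huJ : u * shiftJ k f = c • (shiftJ k f * u) := by
      ext i j
      rw [hu, Matrix.smul_apply, Matrix.diagonal_mul, Matrix.mul_diagonal, smul_eq_mul]
      simp only [shiftJ, of_apply]
      split_ifs with h
      · rw [h, pow_succ]; ring
      · simp
    have huT : (shiftJ k f)ᵀ * u = c • (u * (shiftJ k f)ᵀ) := by
      have := congrArg Matrix.transpose huJ
      rwa [transpose_mul, transpose_smul, transpose_mul, hu, diagonal_transpose, ← hu] at this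
    have hder : ∀ A, u * derJ k f A * u = c • derJ k f (u * A * u) := by
      intro A
      show u * (shiftJ k f * A + A * (shiftJ k f)ᵀ) * u =
        c • (shiftJ k f * (u * A * u) + u * A * u * (shiftJ k f)ᵀ)
      rw [mul_add, add_mul, smul_add, ← Matrix.mul_assoc u (shiftJ k f), huJ,
        Matrix.mul_assoc u (A * (shiftJ k f)ᵀ), Matrix.mul_assoc A, huT]
      simp only [Matrix.mul_assoc, mul_smul_comm, smul_mul_assoc]
    have hderp : ∀ n A, u * (derJ k f ^ n) A * u = c ^ n • (derJ k f ^ n) (u * A * u) := by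
      intro n
      induction n with
      | zero => intro A; simp
      | succ n ih =>
        intro A
        rw [pow_succ' (derJ k f), Module.End.mul_apply, hder, ih, map_smul, smul_smul, ← pow_succ',
          Module.End.mul_apply]
    set μ := χ₀ ^ 2 * c ^ W with hμ
    have hw : u * w₀ * u = μ • w₀ := by
      ext a b
      rw [hu, Matrix.smul_apply, Matrix.mul_diagonal, Matrix.diagonal_mul, smul_eq_mul]
      simp only [w₀, band, of_apply]
      split_ifs with h
      · rw [hμ, ← h, pow_add]; ring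
      · simp
    have hpair : ∀ A, pairR k f w₀ (u * A * u) = χ₀ ^ 2 * c ^ (f + s) * pairR k f w₀ A := by
      intro A
      rw [pairR_apply, pairR_apply, Finset.mul_sum]
      refine Finset.sum_congr rfl fun a _ => ?_
      rw [Finset.mul_sum]
      refine Finset.sum_congr rfl fun b _ => ?_
      rw [hu, Matrix.mul_diagonal, Matrix.diagonal_mul]
      simp only [w₀, band, of_apply, Fin.val_rev]
      split_ifs with h
      · have := a.isLt
        have := b.isLt
        rw [show f + s = (a : ℕ) + b by omega, pow_add]; ring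
      · simp
    rw [hπ, hπ]
    simp only [Submodule.coe_smul, Submodule.coe_sum, Finset.mul_sum, Finset.sum_mul, mul_smul_comm,
      smul_mul_assoc]
    congr 1
    refine Finset.sum_congr rfl fun i hi => ?_
    have hi' := mem_range.1 hi
    rw [derS_pow_coe, hderp, hw, map_smul, smul_smul, smul_smul]
    congr 1
    rw [hχ, hχ, hBB']
    have h1 := congrArg (pairR k f w₀) (hderp (2 * s - i) (B : Matrix (Fin (f + 1)) (Fin (f + 1)) k))
    rw [hpair, map_smul, smul_eq_mul] at h1
    refine mul_left_cancel₀ (pow_ne_zero (2 * s - i) hc) ?_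
    rw [← h1, hμ, show f + s = (2 * s - i) + (i + W) by omega, pow_add, pow_add]
    ring

theorem sum_three (n m : ℕ) :
    (6 : k) * ∑ i ∈ range n, ((i : k) + 1) * ((m : k) - i) =
      (n : k) * ((n : k) + 1) * (3 * (m : k) + 2 - 2 * (n : k)) := by
  induction n with
  | zero => simp
  | succ n ih => rw [Finset.sum_range_succ, mul_add, ih]; push_cast; ring

theorem sum_five (n m : ℕ) :
    (30 : k) * ∑ i ∈ range n, ((i : k) + 1) * ((i : k) + 2) * ((m : k) - i) * ((m : k) + 1 - i) =
      6 * (n : k) ^ 5 - 15 * (n : k) ^ 4 * m + 10 * (n : k) ^ 3 * (m : k) ^ 2 - 20 * (n : k) ^ 3 * m -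
        30 * (n : k) ^ 3 + 30 * (n : k) ^ 2 * (m : k) ^ 2 + 45 * (n : k) ^ 2 * m +
        20 * (n : k) * (m : k) ^ 2 + 50 * (n : k) * m + 24 * n := by
  induction n with
  | zero => simp
  | succ n ih => rw [Finset.sum_range_succ, mul_add, ih]; push_cast; ring

/-- Iterated differences. -/
def iterDiff (g : ℤ → k) : ℕ → ℤ → k
  | 0 => g
  | n + 1 => fun a => iterDiff g n a - iterDiff g n (a - 1)

/-- In characteristic `p = 2 f + 1 ≥ 11` there is a summand of dimension at most five. -/
theorem exists_summand_small (p : ℕ) [Fact p.Prime] [CharP k p] (hpf : p = 2 * f + 1) (hp : 11 ≤ p) :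
    ∃ (s : ℕ) (π : Module.End k (skew k f)) (v : Fin (2 * s + 1) → skew k f) (w : skew k f),
      s ≤ 2 ∧ π * π = π ∧ Commute π (derS k f) ∧ (∀ B, π B ∈ Submodule.span k (Set.range v)) ∧
        π w = w ∧ derS k f w ≠ 0 ∧
        ∀ (χ₀ c : k), χ₀ ≠ 0 → c ≠ 0 → ∀ B B' : skew k f,
          (B' : Matrix (Fin (f + 1)) (Fin (f + 1)) k) =
              Matrix.diagonal (fun i : Fin (f + 1) => χ₀ * c ^ (i : ℕ)) * B *
                Matrix.diagonal (fun i : Fin (f + 1) => χ₀ * c ^ (i : ℕ)) →
          (π B' : Matrix (Fin (f + 1)) (Fin (f + 1)) k) =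
              Matrix.diagonal (fun i : Fin (f + 1) => χ₀ * c ^ (i : ℕ)) * (π B) *
                Matrix.diagonal (fun i : Fin (f + 1) => χ₀ * c ^ (i : ℕ)) := by
  have hne : ∀ i : ℕ, i ≠ 0 → i < p → (i : k) ≠ 0 := fun i hi hip => by
    rw [Ne, CharP.cast_eq_zero_iff k p]
    exact fun h => absurd (Nat.le_of_dvd (Nat.pos_of_ne_zero hi) h) (by omega)
  rcases Nat.even_or_odd f with hf | hf
  · obtain ⟨π, v, w, h1, h2, h3, h4, h5, h6⟩ := exists_summand_skew (k := k) (f := f) 1 (by omega)
      (Nat.Even.sub_odd (by omega) hf odd_one) (iterDiff fun a => ((a : k) + 1) * ((f : k) - (a : k)))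
      (fun _ _ => rfl)
      (fun n hn => by
        obtain rfl : n = 0 := by omega
        refine ⟨?_, ?_⟩
        · simp [iterDiff]
        · rw [show ((f - 1 + 0 : ℕ) : ℤ) + 1 = (f : ℤ) by omega]; simp [iterDiff])
      (fun a => by
        rw [show ((f - 1 : ℕ) : ℤ) = (f : ℤ) - 1 by omega]
        simp only [iterDiff]; push_cast; ring)
      (fun a => by simp only [iterDiff]; push_cast; ring)
      (by
        intro h0
        rw [show f - 1 + 1 = f by omega] at h0
        have e : ∀ i : ℕ, iterDiff (fun a : ℤ => ((a : k) + 1) * ((f : k) - (a : k))) (2 * 1) ((f - i : ℕ) : ℤ) *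
            iterDiff (fun a : ℤ => ((a : k) + 1) * ((f : k) - (a : k))) 0 (i : ℤ) =
              -2 * (((i : k) + 1) * ((f : k) - i)) := fun i => by
          simp only [Nat.mul_one, iterDiff]; push_cast; ring
        rw [Finset.sum_congr rfl fun i _ => e i, ← Finset.mul_sum, mul_eq_zero] at h0
        have h7 := h0.resolve_left (neg_ne_zero.2 (by exact_mod_cast hne 2 (by omega) (by omega)))
        have h8 := sum_three (k := k) f f
        rw [h7, mul_zero] at h8
        have h9 : ((f : k) * ((f + 1 : ℕ) : k) * ((f + 2 : ℕ) : k)) = 0 := by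
          rw [h8]; push_cast; ring
        simp only [mul_eq_zero, hne f (by omega) (by omega), hne (f + 1) (by omega) (by omega),
          hne (f + 2) (by omega) (by omega), or_self] at h9)
    exact ⟨1, π, v, w, by omega, h1, h2, h3, h4, h5 le_rfl, h6⟩
  · obtain ⟨π, v, w, h1, h2, h3, h4, h5, h6⟩ := exists_summand_skew (k := k) (f := f) 2 (by omega)
      (Nat.Odd.sub_even (by omega) hf even_two)
      (iterDiff fun a => ((a : k) + 1) * ((a : k) + 2) * ((f : k) - 1 - (a : k)) * ((f : k) - (a : k)))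
      (fun _ _ => rfl)
      (fun n hn => by
        rcases (show n = 0 ∨ n = 1 by omega) with rfl | rfl
        · refine ⟨?_, ?_⟩
          · simp [iterDiff]
          · rw [show ((f - 2 + 0 : ℕ) : ℤ) + 1 = (f : ℤ) - 1 by omega]; simp [iterDiff]
        · refine ⟨?_, ?_⟩
          · simp only [iterDiff]; push_cast; ring
          · rw [show ((f - 2 + 1 : ℕ) : ℤ) + 1 = (f : ℤ) by omega]
            simp only [iterDiff]; push_cast; ring)
      (fun a => by
        rw [show ((f - 2 : ℕ) : ℤ) = (f : ℤ) - 2 by omega]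
        simp only [iterDiff]; push_cast; ring)
      (fun a => by simp only [iterDiff]; push_cast; ring)
      (by
        intro h0
        rw [show f - 2 + 1 = f - 1 by omega] at h0
        obtain ⟨m, rfl⟩ : ∃ m, f = m + 1 := ⟨f - 1, by omega⟩
        rw [Nat.add_sub_cancel] at h0
        have e : ∀ i : ℕ, iterDiff (fun a : ℤ => ((a : k) + 1) * ((a : k) + 2) *
              (((m + 1 : ℕ) : k) - 1 - (a : k)) * (((m + 1 : ℕ) : k) - (a : k))) (2 * 2) ((m + 1 - i : ℕ) : ℤ) *
            iterDiff (fun a : ℤ => ((a : k) + 1) * ((a : k) + 2) *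
              (((m + 1 : ℕ) : k) - 1 - (a : k)) * (((m + 1 : ℕ) : k) - (a : k))) 0 (i : ℤ) =
              24 * (((i : k) + 1) * ((i : k) + 2) * ((m : k) - i) * ((m : k) + 1 - i)) := fun i => by
          rw [show 2 * 2 = 4 from rfl]
          simp only [iterDiff]; push_cast; ring
        rw [Finset.sum_congr rfl fun i _ => e i, ← Finset.mul_sum, mul_eq_zero] at h0
        have h24 : (24 : k) ≠ 0 := by
          have h2 : (2 : k) ≠ 0 := by exact_mod_cast hne 2 (by omega) (by omega)
          have h3 : (3 : k) ≠ 0 := by exact_mod_cast hne 3 (by omega) (by omega)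
          rw [show (24 : k) = 2 * 2 * 2 * 3 by norm_num]
          exact mul_ne_zero (mul_ne_zero (mul_ne_zero h2 h2) h2) h3
        have h7 := h0.resolve_left h24
        have h8 := sum_five (k := k) m m
        rw [h7, mul_zero] at h8
        have h9 : ((m : k) * ((m + 1 : ℕ) : k) * ((m + 2 : ℕ) : k) * ((m + 3 : ℕ) : k) *
            ((m + 4 : ℕ) : k)) = 0 := by
          rw [h8]; push_cast; ring
        simp only [mul_eq_zero, hne m (by omega) (by omega), hne (m + 1) (by omega) (by omega),
          hne (m + 2) (by omega) (by omega), hne (m + 3) (by omega) (by omega),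
          hne (m + 4) (by omega) (by omega), or_self] at h9)
    exact ⟨2, π, v, w, le_rfl, h1, h2, h3, h4, h5 (by omega), h6⟩

end CfsgLib.FeitSmall
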