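import Cfsg.Agent.Lib.FeitSmall.Loc
import Cfsg.Agent.Lib.SmallSylow.PredTwo.Local

/-!
# Characters over one central character: one family and constant rows
-/

namespace CfsgLib.FeitSmall

open Cfsg CfsgLib.Blocks CfsgLib.Blocks.DefectOne CfsgLib.CharTheory CfsgLib.CharTheory.SmallDegree
open CfsgLib.SmallSylow Finset
open scoped ComplexConjugate

set_option linter.unusedVariables false
set_option linter.style.haveILetI false
set_option linter.unusedSectionVars false

universe u

variable {p : ℕ} [Fact p.Prime] {G : Type u} [Group G] [Fintype G] {P : Sylow p G} {x : G} {e t : ℕ}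

/-- A linear character of `C(P) = P × Z(G)` trivial on `P`. -/
theorem exists_theta (D : Data P x e t) [Fintype (P : Subgroup G)] [Fintype (cen (P : Subgroup G))]
    [Fintype (Subgroup.center G)] (hH : Compl (P : Subgroup G) (Subgroup.center G))
    (w : Subgroup.center G →* ℂ) :
    ∃ θ : IrrCharacter (cen (P : Subgroup G)), SmallDegree.lam D.setup θ = (fun _ => 1) ∧
      resH hH θ = w ∧ stab θ = Subgroup.normalizer ((P : Subgroup G) : Set G) := by
  classical
  set h := D.setup
  let q : cen (P : Subgroup G) → Subgroup.center G := fun c =>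
    ((Equiv.ofBijective _ (pr_bijective h hH)).symm c).2
  have hq : ∀ (y : (P : Subgroup G)) (z : Subgroup.center G), q (pr h hH (y, z)) = z := fun y z =>
    congrArg Prod.snd (Equiv.ofBijective_symm_apply_apply _ (pr_bijective h hH) (y, z))
  let φ : cen (P : Subgroup G) →* ℂ :=
    { toFun := fun c => w (q c)
      map_one' := by
        show w (q 1) = 1
        have h1 : q 1 = 1 := by
          conv_rhs => rw [← hq 1 1]
          exact congrArg q (Subtype.ext (show (1 : G) = 1 * 1 by rw [one_mul]))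
        rw [h1, map_one]
      map_mul' := fun a b => by
        obtain ⟨⟨y, z⟩, rfl⟩ := (pr_bijective h hH).2 a
        obtain ⟨⟨y', z'⟩, rfl⟩ := (pr_bijective h hH).2 b
        have e0 : pr h hH (y, z) * pr h hH (y', z') = pr h hH (y * y', z * z') := Subtype.ext (by
          show (y : G) * z * ((y' : G) * z') = (y : G) * y' * ((z : G) * z')
          rw [mul_assoc, ← mul_assoc (z : G), ← Subgroup.mem_center_iff.1 z.2 (y' : G)]
          simp only [mul_assoc])
        show w (q _) = w (q _) * w (q _)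
        rw [e0, hq, hq, hq, map_mul] }
  refine ⟨⟨fun c => w (q c), isIrrCharacter_linear φ.toHomUnits⟩, ?_, ?_, ?_⟩
  · funext y
    show w (q _) / w (q _) = 1
    have h1 : q ⟨y, h.le_cent y.2⟩ = 1 := by
      conv_rhs => rw [← hq y 1]
      exact congrArg q (Subtype.ext (mul_one _).symm)
    have h2 : q 1 = 1 := by
      conv_rhs => rw [← hq 1 1]
      exact congrArg q (Subtype.ext (show (1 : G) = 1 * 1 by rw [one_mul]))
    rw [h1, h2, map_one, div_one]
  · funext z
    show w (q _) = w z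
    congr 1
    conv_rhs => rw [← hq 1 z]
    exact congrArg q (Subtype.ext (one_mul _).symm)
  · refine le_antisymm (stab_le _) fun g hg => ⟨hg, Subtype.ext (funext fun c => ?_)⟩
    obtain ⟨⟨y, z⟩, rfl⟩ := (pr_bijective h hH).2 c
    have hy : g * (y : G) * g⁻¹ ∈ (P : Subgroup G) := (Subgroup.mem_normalizer_iff.1 hg _).1 y.2
    show w (q _) = w (q _)
    rw [hq]
    congr 1
    conv_rhs => rw [← hq ⟨_, hy⟩ z]
    refine congrArg q (Subtype.ext ?_)
    show g * ((y : G) * z) * g⁻¹ = g * y * g⁻¹ * z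
    rw [← mul_assoc g, mul_assoc (g * (y : G)), ← Subgroup.mem_center_iff.1 z.2 g⁻¹, ← mul_assoc]

/-- The multiplicity as a coefficient on the centralizer. -/
theorem co_mk_eq (D : Data P x e t) [Fintype (P : Subgroup G)] [Fintype (cen (P : Subgroup G))]
    [Fintype (Subgroup.center G)] (hH : Compl (P : Subgroup G) (Subgroup.center G))
    {θ : IrrCharacter (cen (P : Subgroup G))} (hθ : SmallDegree.lam D.setup θ = fun _ => 1)
    {w : Subgroup.center G →* ℂ} {f : G → ℂ} (hf : HasCen f w) {w' : Subgroup.center G →* ℂ}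
    (hw : resH hH θ = w') (z : ZMod p) [Decidable (w = w')] :
    co f (mk D.setup hH θ (D.nu z)) = if w = w' then mult x f z else 0 := by
  classical
  have hcard := hH.card
  have horth : ∑ y : Subgroup.center G, w y * conj (w' y) =
      if w = w' then (Nat.card (Subgroup.center G) : ℂ) else 0 := by
    have hi : ∀ v : Subgroup.center G →* ℂ, IsIrrCharacter (Subgroup.center G) v := fun v =>
      isIrrCharacter_linear v.toHomUnits
    have h0 : (Nat.card (Subgroup.center G) : ℂ) ≠ 0 := Nat.cast_ne_zero.2 Nat.card_pos.ne'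
    have e1 : ∑ y : Subgroup.center G, w y * conj (w' y) =
        (Nat.card (Subgroup.center G) : ℂ) * classInner (w : Subgroup.center G → ℂ) w' := by
      rw [classInner, mul_inv_cancel_left₀ h0]
    rw [e1]
    split_ifs with hl
    · rw [hl, classInner_irr_self (hi w'), mul_one]
    · rw [classInner_irr_ne (hi w) (hi w') fun e2 => hl (DFunLike.coe_injective e2), mul_zero]
  rw [co, classInner, sum_cen D.setup hH, ← hcard, Nat.cast_mul, mul_inv,
    show (Nat.card (P : Subgroup G)) = p from D.hP]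
  have hterm : ∀ (y : (P : Subgroup G)) (c : Subgroup.center G),
      f (pr D.setup hH (y, c) : G) * conj ((mk D.setup hH θ (D.nu z) : cen (P : Subgroup G) → ℂ)
        (pr D.setup hH (y, c))) =
      (f y * conj ((D.nu z : ↥(P : Subgroup G) → ℂ) y)) * (w c * conj (w' c)) := by
    intro y c
    rw [mk_apply D.setup hH hθ, hw, map_mul]
    show f ((y : G) * c) * _ = _
    rw [hf]
    ring
  rw [Finset.sum_congr rfl fun y _ => Finset.sum_congr rfl fun c _ => hterm y c, ← Finset.sum_mul_sum,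
    horth, mult]
  split_ifs
  · rw [mul_mul_mul_comm,
      inv_mul_cancel₀ (Nat.cast_ne_zero.2 Nat.card_pos.ne' : (Nat.card (Subgroup.center G) : ℂ) ≠ 0),
      mul_one]
    congr 1
    refine (Fintype.sum_equiv D.dlog _ _ fun k => ?_).symm
    rw [D.nu_apply, psi_conj]
    rfl
  · rw [mul_zero, mul_zero]

theorem inner_irr (χ ψ : IrrCharacter G) [Decidable (χ = ψ)] :
    classInner (χ : G → ℂ) (ψ : G → ℂ) = if χ = ψ then 1 else 0 := by
  split_ifs with h
  · rw [h, classInner_irr_self ψ.2]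
  · exact classInner_irr_ne χ.2 ψ.2 fun e => h (Subtype.ext e)

/-- The family over a central character. -/
structure Fam (D : Data P x e t) (w : Subgroup.center G →* ℂ) (F : ZMod p → IrrCharacter G)
    (n : ℕ) (ε : ℤ) : Prop where
  sgn : ε = 1 ∨ ε = -1
  cen : ∀ a, a ≠ 0 → HasCen (F a : G → ℂ) w
  vals : ∀ a, a ≠ 0 → ∀ z : ZMod p,
    mult x (F a : G → ℂ) z = (n : ℂ) + (ε : ℂ) * (if z / a ∈ rts p e then 1 else 0)
  eq_iff : ∀ a b, a ≠ 0 → b ≠ 0 → (F a = F b ↔ b / a ∈ rts p e)
  agree : ∀ a b, a ≠ 0 → b ≠ 0 → ∀ g : G, ¬ p ∣ orderOf g → (F a : G → ℂ) g = (F b : G → ℂ) g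
  others : ∀ χ : IrrCharacter G, HasCen (χ : G → ℂ) w → (∀ a, a ≠ 0 → χ ≠ F a) →
    ∀ z z' : ZMod p, z ≠ 0 → z' ≠ 0 →
      CfsgLib.FeitSmall.mult x (χ : G → ℂ) z = CfsgLib.FeitSmall.mult x (χ : G → ℂ) z'

/-- The family exists. -/
theorem exists_fam (D : Data P x e t) [Fintype (P : Subgroup G)] [Fintype (cen (P : Subgroup G))]
    [Fintype (Subgroup.center G)] {M : Ideal AlgInt} (hM : IsPModular p M)
    (hH : Compl (P : Subgroup G) (Subgroup.center G)) (w : Subgroup.center G →* ℂ) :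
    ∃ F n ε, Fam D w F n ε := by
  classical
  obtain ⟨θ, hθ, hw, hst⟩ := exists_theta D hH w
  have h := D.setup
  have hr : ∃ B, Root hM h hH B θ := by
    obtain ⟨χ₀, hχ₀⟩ := exists_induced_centr hM (isCentr_cen h D.mem D.ne) (ppow_of_mem h D.mem) θ
    exact ⟨blockOf M (χ₀ : G → ℂ), D.hP, hθ, isInducedBlock_of_congr (cen (P : Subgroup G)) hM
      (blockOf_isPBlock θ) (blockOf_isPBlock χ₀) (mem_blockOf_self hM θ) (mem_blockOf_self hM χ₀) hχ₀⟩
  obtain ⟨B, hr⟩ := hr
  obtain ⟨X, Y, ε, a, τ, S⟩ := exists_shape hM h hH hr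
  have he : (cen (P : Subgroup G)).relIndex (stab θ) = e := by rw [hst]; exact D.hq
  have hdd : ∀ (χ : IrrCharacter G) (z : ZMod p) (w' : Subgroup.center G →* ℂ),
      HasCen (χ : G → ℂ) w' → (w' = w → ((ddz h hH θ χ (D.nu z) : ℤ) : ℂ) =
        mult x (χ : G → ℂ) z - mult x (χ : G → ℂ) (0 : ZMod p)) ∧ (w' ≠ w → ddz h hH θ χ (D.nu z) = 0) := by
    intro χ z w' hw'
    have hb : co (χ : G → ℂ) θ = co (χ : G → ℂ) (mk h hH θ (D.nu 0)) := by
      rw [D.nu_zero]
      exact congrArg _ (mk_one h hH hθ).symm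
    have e1 : dd h hH θ χ (D.nu z) =
        (if w' = w then mult x (χ : G → ℂ) z else 0) - (if w' = w then mult x (χ : G → ℂ) (0 : ZMod p) else 0) := by
      rw [dd, hb, co_mk_eq D hH hθ hw' hw z, co_mk_eq D hH hθ hw' hw 0]
    rw [dd_eq_cast] at e1
    refine ⟨fun e2 => by rw [e1, if_pos e2, if_pos e2], fun e2 => ?_⟩
    rw [if_neg e2, if_neg e2, sub_self] at e1
    exact_mod_cast e1
  have hsim : ∀ z z' : ZMod p, z' ≠ 0 → (Sim θ (D.nu z) (D.nu z') ↔ z / z' ∈ rts p e) := by
    intro z z' hz'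
    constructor
    · rintro ⟨g, hg, hge⟩
      obtain ⟨k, hk⟩ := D.exists_xp ((Subgroup.mem_normalizer_iff.1 hg.1 x).1 D.mem)
      rw [D.nConj_nu hg.1 hk] at hge
      rw [← D.nu_inj hge, mul_div_cancel_left₀ _ hz']
      exact (D.exps k).2 ⟨g, hg.1, hk⟩
    · intro hr'
      obtain ⟨g, hg, hge⟩ := (D.exps _).1 hr'
      refine ⟨g, by rw [hst]; exact hg, ?_⟩
      rw [D.nConj_nu _ hge, mul_div_cancel₀ _ hz']
  have hne : ∀ z : ZMod p, z ≠ 0 → D.nu z ≠ oneP (P : Subgroup G) := fun z hz hh =>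
    hz (D.nu_inj (hh.trans D.nu_zero.symm))
  have hex : ∀ z : ZMod p, ∃ χ : IrrCharacter G, z ≠ 0 →
      χ ∈ Y ∧ Sim θ (D.nu z) (τ χ) := by
    intro z
    by_cases hz : z = 0
    · obtain ⟨χ, -⟩ := S.nonempty_Y D.hP
      exact ⟨χ, fun h' => absurd hz h'⟩
    · obtain ⟨χ, hχ, -⟩ := S.hit _ (hne z hz)
      exact ⟨χ, fun _ => hχ⟩
  choose F hF using hex
  have hrow : ∀ b, b ≠ 0 → ∀ z, z ≠ 0 → ddz h hH θ (F b) (D.nu z) =
      if z / b ∈ rts p e then ε else 0 := by
    intro b hb z hz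
    obtain ⟨hY, hs⟩ := hF b hb
    by_cases hzb : z / b ∈ rts p e
    · rw [if_pos hzb]
      exact (S.rowY _ hY _ (hne z hz)).1 (sim_trans ((hsim z b hb).2 hzb) hs)
    · rw [if_neg hzb]
      exact (S.rowY _ hY _ (hne z hz)).2 fun h' => hzb ((hsim z b hb).1 (sim_trans h' (sim_symm hs)))
  have hε0 : ε ≠ 0 := by rcases S.hε with h' | h' <;> rw [h'] <;> norm_num
  have hcenF : ∀ b, b ≠ 0 → HasCen (F b : G → ℂ) w := by
    intro b hb
    obtain ⟨w', hw'⟩ := exists_hasCen (F b)
    by_cases hww : w' = w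
    · exact hww ▸ hw'
    · exfalso
      have h1 := (hdd (F b) b w' hw').2 hww
      rw [hrow b hb b hb, div_self hb, if_pos one_mem_rts] at h1
      exact hε0 h1
  have hmult : ∀ b, b ≠ 0 → ∀ z : ZMod p, mult x (F b : G → ℂ) z =
      mult x (F b : G → ℂ) (0 : ZMod p) + (ε : ℂ) * (if z / b ∈ rts p e then 1 else 0) := by
    intro b hb z
    by_cases hz : z = 0
    · subst hz
      rw [zero_div, if_neg fun h0 => ne_zero_rts D.A.epos h0 rfl, mul_zero, add_zero]
    · have h1 := (hdd (F b) z w (hcenF b hb)).1 rfl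
      rw [hrow b hb z hz] at h1
      rw [eq_add_of_sub_eq' h1.symm]
      split_ifs <;> simp
  have hreg : ∀ a b, a ≠ 0 → b ≠ 0 → ∀ g : G, ¬ p ∣ orderOf g →
      (F a : G → ℂ) g = (F b : G → ℂ) g := fun a b ha hb g hg =>
    S.agree hM hr (hF a ha).1 (hF b hb).1 hg
  obtain ⟨n, hn⟩ := D.mult_nat (isCharacter_of_irr (F 1).2) (0 : ZMod p)
  have hn' : ∀ b, b ≠ 0 → mult x (F b : G → ℂ) (0 : ZMod p) = n := by
    intro b hb
    -- both have the same degree
    have key : ∀ c, c ≠ 0 → (F c : G → ℂ) 1 = (p : ℂ) * mult x (F c : G → ℂ) (0 : ZMod p) + (ε : ℂ) * e := by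
      intro c hc
      rw [← sum_mult (x := x) (p := p) (F c : G → ℂ), Finset.sum_congr rfl fun z _ => hmult c hc z, Finset.sum_add_distrib,
        sum_const, card_univ, ZMod.card, nsmul_eq_mul, ← Finset.mul_sum, Finset.sum_boole]
      congr 2
      have : (univ.filter fun z => z / c ∈ rts p e) = (rts p e).image (c * ·) := by
        ext z
        simp only [mem_filter, mem_univ, true_and, mem_image]
        constructor
        · intro h'; exact ⟨z / c, h', by field_simp⟩
        · rintro ⟨r, hr', rfl⟩; rwa [mul_div_cancel_left₀ _ hc]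
      rw [this, card_image_of_injective _ (mul_right_injective₀ hc), D.A.card_rts]
    have h1 := hreg b 1 hb one_ne_zero 1 (by rw [orderOf_one]; exact (Fact.out : p.Prime).not_dvd_one)
    rw [key b hb, key 1 one_ne_zero, add_left_inj, hn] at h1
    exact mul_left_cancel₀ (Nat.cast_ne_zero.2 (Fact.out : p.Prime).ne_zero) h1
  refine ⟨F, n, ε, S.hε, hcenF, fun b hb z => by rw [hmult b hb z, hn' b hb], ?_, hreg, ?_⟩
  · intro a' b ha hb
    constructor
    · intro hab
      have h1 := hrow a' ha b hb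
      rw [hab, hrow b hb b hb, div_self hb, if_pos one_mem_rts] at h1
      by_contra hno
      rw [if_neg hno] at h1
      exact hε0 h1
    · intro hr'
      refine (S.hit _ (hne a' ha)).unique (hF a' ha) ⟨(hF b hb).1, ?_⟩
      exact sim_trans (sim_symm ((hsim b a' ha).2 hr')) (hF b hb).2
  · intro χ hχ hnot z z' hz hz'
    suffices ∃ c : ℤ, ∀ z : ZMod p, z ≠ 0 → ddz h hH θ χ (D.nu z) = c by
      obtain ⟨c, hc⟩ := this
      have h1 := (hdd χ z w hχ).1 rfl
      have h2 := (hdd χ z' w hχ).1 rfl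
      rw [hc z hz, sub_eq_neg_add] at h1
      rw [hc z' hz', sub_eq_neg_add] at h2
      exact add_left_cancel (h1.symm.trans h2)
    by_cases hB : χ ∈ B
    · rcases Finset.mem_union.1 (show χ ∈ X ∪ Y by rw [← S.bset_eq, mem_bset]; exact hB) with hX | hY
      · exact ⟨a χ, fun z hz => S.rowX χ hX _ (hne z hz)⟩
      · exfalso
        obtain ⟨b, hb⟩ := D.nu_surj (τ χ)
        have hb0 : b ≠ 0 := fun h0 => S.neY χ hY (by rw [← hb, h0, D.nu_zero])
        refine hnot b hb0 ((S.hit _ (hne b hb0)).unique ⟨hY, ?_⟩ (hF b hb0))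
        rw [hb]; exact sim_refl θ _
    · refine ⟨0, fun z _ => ?_⟩
      have := dd_outside hM h hH hr hB (D.nu z)
      rw [dd_eq_cast] at this
      exact_mod_cast this

end CfsgLib.FeitSmall
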