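import Cfsg.Agent.Lib.FeitSmall.XLattice
import Cfsg.Agent.Lib.SmallRep.Transfer

/-!
# A pairing between fixed vectors of opposite weights
-/

namespace CfsgLib.FeitSmall

open Cfsg CfsgLib.Blocks CfsgLib.Blocks.DefectOne CfsgLib.CharTheory CfsgLib.CharTheory.SmallDegree
open CfsgLib.SmallSylow Finset Matrix
open scoped ComplexConjugate

set_option linter.unusedVariables false
set_option linter.style.haveILetI false
set_option linter.unusedSectionVars false
set_option synthInstance.maxHeartbeats 200000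
set_option maxHeartbeats 800000

universe u

/-- An endomorphism killed by `p`-th power has `p` times the rank of its `(p-1)`-st power at most
the dimension. -/
theorem mul_finrank_range_pow_le {k V : Type*} [Field k] [AddCommGroup V] [Module k V]
    [FiniteDimensional k V] (T : Module.End k V) {m : ℕ} (hT : T ^ (m + 1) = 0) :
    (m + 1) * Module.finrank k (LinearMap.range (T ^ m)) ≤ Module.finrank k V := by
  set r := Module.finrank k (LinearMap.range (T ^ m)) with hr
  suffices H : ∀ i ≤ m + 1,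
      (m + 1 - i) * r ≤ Module.finrank k (LinearMap.range (T ^ i)) by
    refine (H 0 (Nat.zero_le _)).trans ?_
    exact Submodule.finrank_le _
  intro i hi
  induction hd : m + 1 - i generalizing i with
  | zero => simp
  | succ d ih =>
    have h1 := ih (i + 1) (by omega) (by omega)
    let f : LinearMap.range (T ^ i) →ₗ[k] V := T.domRestrict _
    have h2 := LinearMap.finrank_range_add_finrank_ker f
    have h3 : LinearMap.range f = LinearMap.range (T ^ (i + 1)) := by
      rw [LinearMap.range_domRestrict, pow_succ', Module.End.mul_eq_comp, LinearMap.range_comp]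
    rw [h3] at h2
    have hle : LinearMap.range (T ^ m) ≤ LinearMap.range (T ^ i) := by
      rintro _ ⟨y, rfl⟩
      exact ⟨(T ^ (m - i)) y, by
        rw [← Module.End.mul_apply, ← pow_add, Nat.add_sub_cancel' (by omega)]⟩
    let ι : LinearMap.range (T ^ m) →ₗ[k] LinearMap.ker f :=
      { toFun := fun y => ⟨⟨(y : V), hle y.2⟩, by
          obtain ⟨z, hz⟩ := y.2
          rw [LinearMap.mem_ker]
          show T (y : V) = 0
          rw [← hz, ← Module.End.mul_apply, ← pow_succ', hT, LinearMap.zero_apply]⟩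
        map_add' := fun a b => rfl
        map_smul' := fun a b => rfl }
    have h4 : r ≤ Module.finrank k (LinearMap.ker f) :=
      LinearMap.finrank_le_finrank_of_injective (f := ι) fun a b hab =>
        Subtype.ext (congrArg (fun z : LinearMap.ker f => ((z : LinearMap.range (T ^ i)) : V)) hab)
    rw [Nat.succ_mul]
    omega

variable {p : ℕ} [Fact p.Prime] {G : Type u} [Group G] [Fintype G] {P : Sylow p G} {x : G} {e t : ℕ}
  [NeZero e] {h : G} {a₀ : ZMod p} {M : Ideal AlgInt}

/-- The complex form of a representation over the unramified ring. -/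
noncomputable def cMat {hM : IsPModular p M} {d : ℕ} (R : G →* Matrix (Fin d) (Fin d) (Wr hM)) :
    G →* Matrix (Fin d) (Fin d) ℂ :=
  ((Wr hM).subtype.mapMatrix).toMonoidHom.comp R

/-- The representation of a matrix representation. -/
noncomputable def matRep {k : Type*} [CommRing k] {d : ℕ} (R : G →* Matrix (Fin d) (Fin d) k) :
    Representation k G (Fin d → k) :=
  (Matrix.toLinAlgEquiv' (R := k) (n := Fin d)).toMonoidHom.comp R

theorem matRep_apply {k : Type*} [CommRing k] {d : ℕ} (R : G →* Matrix (Fin d) (Fin d) k) (g : G)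
    (v : Fin d → k) : matRep R g v = R g *ᵥ v := rfl

theorem matRep_character {k : Type*} [Field k] {d : ℕ} (R : G →* Matrix (Fin d) (Fin d) k) (g : G) :
    (matRep R).character g = (R g).trace :=
  Matrix.trace_toLin'_eq (R g)

theorem cMat_trace {hM : IsPModular p M} {d : ℕ} (R : G →* Matrix (Fin d) (Fin d) (Wr hM)) (g : G) :
    (cMat R g).trace = ((R g).trace : Wr hM) := by
  show ((R g).map (Wr hM).subtype).trace = _
  rw [← AddMonoidHom.map_trace]
  rfl

/-- A matrix commuting with an irreducible representation is scalar. -/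
theorem scalar_of_commute {d : ℕ} (hd : 0 < d) (R : G →* Matrix (Fin d) (Fin d) ℂ) (X : IrrCharacter G)
    (hX : ∀ g, (R g).trace = (X : G → ℂ) g) {S : Matrix (Fin d) (Fin d) ℂ}
    (hS : ∀ g, S * R g = R g * S) : S = (S.trace / d) • (1 : Matrix (Fin d) (Fin d) ℂ) := by
  have hone : ∑ g, (matRep R).character g * (matRep R).character g⁻¹ = Nat.card G := by
    simp only [matRep_character, hX, ← irr_conjInv]
    have h1 := classInner_irr_self X.2
    rwa [classInner, inv_mul_eq_iff_eq_mul₀ (Nat.cast_ne_zero.2 Nat.card_pos.ne'), mul_one] at h1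
  obtain ⟨c, hc⟩ := proportional (matRep R) (matRep R) hone (T := LinearMap.id) (S := Matrix.toLin' S)
    (fun g v => rfl) (fun g v => by
      rw [matRep_apply, matRep_apply, Matrix.toLin'_apply, Matrix.toLin'_apply, Matrix.mulVec_mulVec,
        Matrix.mulVec_mulVec, hS])
    (fun h0 => by
      have h1 := congrFun (LinearMap.congr_fun h0 (Pi.single ⟨0, hd⟩ 1)) ⟨0, hd⟩
      simp at h1)
  have hSc : S = c • (1 : Matrix (Fin d) (Fin d) ℂ) := by
    apply Matrix.toLin'.injective
    rw [hc, map_smul, Matrix.toLin'_one]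
  have htr : S.trace = c * d := by rw [hSc, Matrix.trace_smul, Matrix.trace_one, Fintype.card_fin, smul_eq_mul]
  rw [htr, mul_div_cancel_right₀ _ (Nat.cast_ne_zero.2 hd.ne')]
  exact hSc

theorem cMat_apply {hM : IsPModular p M} {d : ℕ} (R : G →* Matrix (Fin d) (Fin d) (Wr hM)) (g : G) :
    cMat R g = (R g).map (Subtype.val : Wr hM → ℂ) := rfl

/-- The sum over `⟨x⟩`. -/
noncomputable def nrm (x : G) (p : ℕ) [Fact p.Prime] {hM : IsPModular p M} {d : ℕ}
    (R : G →* Matrix (Fin d) (Fin d) (Wr hM)) : Matrix (Fin d) (Fin d) (Wr hM) :=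
  ∑ k : ZMod p, R (xp x k)

variable {hM : IsPModular p M} {d : ℕ}

theorem xp_mul_nrm (D : Data P x e t) (R : G →* Matrix (Fin d) (Fin d) (Wr hM)) (k : ZMod p) :
    R (xp x k) * nrm x p R = nrm x p R := by
  rw [nrm, Finset.mul_sum]
  exact Fintype.sum_equiv (Equiv.addLeft k) _ _ fun l => by rw [Equiv.coe_addLeft, xp_add D.pow, map_mul]

theorem nrm_mul_xp (D : Data P x e t) (R : G →* Matrix (Fin d) (Fin d) (Wr hM)) (k : ZMod p) :
    nrm x p R * R (xp x k) = nrm x p R := by
  rw [nrm, Finset.sum_mul]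
  exact Fintype.sum_equiv (Equiv.addRight k) _ _ fun l => by rw [Equiv.coe_addRight, xp_add D.pow, map_mul]

theorem nrm_mulVec_fixed (R : G →* Matrix (Fin d) (Fin d) (Wr hM)) {v : Fin d → Wr hM}
    (hv : ∀ k : ZMod p, R (xp x k) *ᵥ v = v) : nrm x p R *ᵥ v = (p : Wr hM) • v := by
  rw [nrm, Matrix.sum_mulVec, Finset.sum_congr rfl fun k _ => hv k, sum_const, card_univ, ZMod.card,
    Nat.cast_smul_eq_nsmul]

theorem red_mulVec (N : Matrix (Fin d) (Fin d) (Wr hM)) (y : Fin d → Wr hM) :
    (fun i => redW hM ((N *ᵥ y) i)) = N.map (redW hM) *ᵥ fun i => redW hM (y i) :=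
  funext fun i => RingHom.map_mulVec (redW hM) N y i

/-- The reduced norm has small rank. -/
theorem finrank_nrm_le (D : Data P x e t) {b : ℕ} (hd : d = p * b + 1)
    (R : G →* Matrix (Fin d) (Fin d) (Wr hM)) :
    haveI := hM.2.1
    letI := Ideal.Quotient.field M
    Module.finrank (AlgInt ⧸ M)
      (LinearMap.range (Matrix.toLinAlgEquiv' ((nrm x p R).map (redW hM)))) ≤ b := by
  classical
  haveI := hM.2.1
  letI := Ideal.Quotient.field M
  haveI := res_isDomain hM
  haveI := res_charP hM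
  have hp : p.Prime := Fact.out
  let red := redW hM
  set N := nrm x p R with hN
  set Nb : Module.End (AlgInt ⧸ M) (Fin d → AlgInt ⧸ M) := Matrix.toLinAlgEquiv' (N.map red) with hNb
  set T : Module.End (AlgInt ⧸ M) (Fin d → AlgInt ⧸ M) :=
    Matrix.toLinAlgEquiv' ((R x).map red) - 1 with hT
  have hA : (T + 1) ^ p = 1 := by
    rw [hT, sub_add_cancel, ← map_pow,
      show ((R x).map red) ^ p = ((R x) ^ p).map red from (map_pow red.mapMatrix (R x) p).symm,
      ← map_pow, D.pow, map_one, Matrix.map_one _ (map_zero _) (map_one _), map_one]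
  have hTp : T ^ (p - 1 + 1) = 0 := by
    rw [Nat.sub_add_cancel hp.one_le]
    have h0 := congrArg (Polynomial.aeval (T + 1))
      (sub_pow_char (Polynomial.X : Polynomial (AlgInt ⧸ M)) 1 (p := p))
    simp only [map_sub, map_pow, Polynomial.aeval_X, map_one, one_pow, add_sub_cancel_right] at h0
    rw [h0, hA, sub_self]
  have hNT : Nb = T ^ (p - 1) := by
    have h1 := congrArg (Polynomial.aeval (T + 1)) (SmallRep.geom_eq_pow (k := AlgInt ⧸ M) (p := p))
    simp only [map_sum, map_pow, Polynomial.aeval_X, map_sub, map_one, add_sub_cancel_right] at h1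
    rw [← h1]
    show Matrix.toLinAlgEquiv' (N.map red) = _
    rw [show N.map red = ∑ k : ZMod p, ((R x).map red) ^ k.val by
      rw [hN, nrm, show (∑ k : ZMod p, R (xp x k)).map red = ∑ k : ZMod p, (R (xp x k)).map red from
        map_sum red.mapMatrix _ _]
      exact Finset.sum_congr rfl fun k _ => by
        rw [xp, map_pow]; exact map_pow red.mapMatrix (R x) k.val, map_sum]
    simp only [map_pow, hT, sub_add_cancel]
    refine Finset.sum_nbij' (fun k => k.val) (fun i => (i : ZMod p)) (fun k _ => mem_range.2 k.val_lt)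
      (fun _ _ => mem_univ _) (fun k _ => ZMod.natCast_rightInverse k)
      (fun i hi => ZMod.val_cast_of_lt (mem_range.1 hi)) fun _ _ => rfl
  have h2 := mul_finrank_range_pow_le T hTp
  rw [← hNT, Nat.sub_add_cancel hp.one_le, Module.finrank_fintype_fun_eq_card, Fintype.card_fin] at h2
  by_contra hlt
  have := Nat.mul_le_mul_left p (show b + 1 ≤ Module.finrank (AlgInt ⧸ M) (LinearMap.range Nb) by omega)
  rw [Nat.mul_add, mul_one] at this
  have := hp.two_le
  omega

/-- Some fixed vector is not a norm modulo `p`. -/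
theorem exists_not_norm (D : Data P x e t) (X : IrrCharacter G) {b : ℕ} (hd : d = p * b + 1)
    (R : G →* Matrix (Fin d) (Fin d) (Wr hM))
    (hR : ∀ g, ((Matrix.trace (R g) : Wr hM) : ℂ) = (X : G → ℂ) g)
    (hm : mult x (X : G → ℂ) (0 : ZMod p) = (b : ℂ) + 1) :
    ∃ v₀ : Fin d → Wr hM, (∀ k : ZMod p, R (xp x k) *ᵥ v₀ = v₀) ∧
      ∀ y, (fun i => redW hM (v₀ i)) ≠ (nrm x p R).map (redW hM) *ᵥ y := by
  classical
  haveI := hM.2.1
  letI := Ideal.Quotient.field M
  haveI := res_isDomain hM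
  haveI := res_charP hM
  have hp : p.Prime := Fact.out
  haveI := Wr_dvr hM
  let W := Wr hM
  let red := redW hM
  have hsmall := finrank_nrm_le (x := x) D hd R
  set N := nrm x p R with hN
  set Nb : Module.End (AlgInt ⧸ M) (Fin d → AlgInt ⧸ M) := Matrix.toLinAlgEquiv' (N.map red) with hNb
  let Mf : Submodule W (Fin d → W) :=
    { carrier := {v | ∀ k : ZMod p, R (xp x k) *ᵥ v = v}
      zero_mem' := fun k => Matrix.mulVec_zero _
      add_mem' := fun ha hb k => by rw [Matrix.mulVec_add, ha k, hb k]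
      smul_mem' := fun c a ha k => by rw [Matrix.mulVec_smul, ha k] }
  have hNfix : ∀ y, N *ᵥ y ∈ Mf := fun y k => by rw [Matrix.mulVec_mulVec, hN, xp_mul_nrm D]
  suffices H : ∃ v₀ ∈ Mf, (fun i => red (v₀ i)) ∉ LinearMap.range Nb by
    obtain ⟨v₀, h1, h2⟩ := H
    exact ⟨v₀, h1, fun y hy => h2 ⟨y, hy.symm⟩⟩
  by_contra hall
  push Not at hall
  haveI : Module.Finite W Mf := Module.Finite.of_injective Mf.subtype Subtype.val_injective
  let bM := Module.finBasis W Mf
  set n := Module.finrank W Mf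
  have hind : LinearIndependent (AlgInt ⧸ M) fun i : Fin n =>
      (⟨fun l => red ((bM i : Fin d → W) l), hall _ (bM i).2⟩ : LinearMap.range Nb) := by
    rw [Fintype.linearIndependent_iff]
    intro c hc i
    choose c' hc' using fun i => redW_surjective hM (c i)
    have hz : ∀ l, red ((∑ i, c' i • (bM i : Fin d → W)) l) = 0 := fun l => by
      have h1 := congrFun (congrArg Subtype.val hc) l
      simp only [Submodule.coe_sum, Submodule.coe_smul, Finset.sum_apply, Pi.smul_apply, smul_eq_mul,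
        Submodule.coe_zero, Pi.zero_apply] at h1
      simp only [Finset.sum_apply, Pi.smul_apply, smul_eq_mul, map_sum, map_mul]
      rw [← h1]
      exact Finset.sum_congr rfl fun i _ => by rw [hc']
    choose y hy using fun l => (redW_eq_zero_iff hM).1 (hz l)
    have hyM : y ∈ Mf := fun k => by
      have h1 : ((p : W) • y) ∈ Mf := by
        rw [show (p : W) • y = ∑ i, c' i • (bM i : Fin d → W) from funext fun l => (hy l).symm]
        exact Submodule.sum_mem _ fun i _ => Submodule.smul_mem _ _ (bM i).2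
      have h2 := h1 k
      rw [Matrix.mulVec_smul] at h2
      exact smul_right_injective _ (Wr_p_ne_zero hM) h2
    have h2 : ∑ i, c' i • bM i = (p : W) • (⟨y, hyM⟩ : Mf) := Subtype.ext (funext fun l => by
      simp only [Submodule.coe_sum, Submodule.coe_smul]
      exact hy l)
    have h3 := congrArg (fun z : Mf => bM.repr z i) h2
    simp only [map_sum, map_smul, Finsupp.finsetSum_apply, Finsupp.smul_apply, Module.Basis.repr_self,
      smul_eq_mul] at h3
    rw [Finset.sum_eq_single i (fun j _ hj => by rw [Finsupp.single_eq_of_ne hj.symm, mul_zero])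
      (fun h' => absurd (mem_univ _) h'), Finsupp.single_eq_same, mul_one] at h3
    rw [← hc', h3, map_mul, map_natCast, CharP.cast_eq_zero, zero_mul]
  have hn : n ≤ b := by
    have := hind.fintype_card_le_finrank
    rw [Fintype.card_fin] at this
    omega
  -- over the complex numbers
  let E : Module.End ℂ (Fin d → ℂ) := (p : ℂ)⁻¹ • Matrix.toLinAlgEquiv' (N.map (Wr hM).subtype)
  have hp0 : (p : ℂ) ≠ 0 := Nat.cast_ne_zero.2 hp.ne_zero
  have hNN : N * N = (p : W) • N := by
    conv_lhs => enter [2]; rw [hN, nrm]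
    rw [Finset.mul_sum, Finset.sum_congr rfl fun k _ => show N * R (xp x k) = N from nrm_mul_xp D R k]
    rw [sum_const, card_univ, ZMod.card, Nat.cast_smul_eq_nsmul]
  have hEE : E * E = E := by
    rw [smul_mul_smul_comm, ← map_mul,
      show N.map (Wr hM).subtype * N.map (Wr hM).subtype = (N * N).map (Wr hM).subtype from
        (map_mul (Wr hM).subtype.mapMatrix N N).symm, hNN,
      show ((p : W) • N).map (Wr hM).subtype = (p : ℂ) • N.map (Wr hM).subtype by
        ext i j; simp, map_smul, smul_smul]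
    congr 1
    field_simp
  have hproj : LinearMap.IsProj (LinearMap.range E) E :=
    ⟨fun v => LinearMap.mem_range_self _ v, by
      rintro _ ⟨y, rfl⟩; exact LinearMap.congr_fun hEE y⟩
  have htr : LinearMap.trace ℂ _ E = ((b + 1 : ℕ) : ℂ) := by
    rw [map_smul, show LinearMap.trace ℂ _ (Matrix.toLinAlgEquiv' (N.map (Wr hM).subtype)) =
        (N.map (Wr hM).subtype).trace from Matrix.trace_toLin'_eq _,
      ← AddMonoidHom.map_trace (Wr hM).subtype, hN, nrm, Matrix.trace_sum, map_sum, Nat.cast_add, Nat.cast_one,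
      ← hm, mult, smul_eq_mul]
    congr 1
    refine Finset.sum_congr rfl fun k _ => ?_
    rw [zero_mul, neg_zero, AddChar.map_zero_eq_one, mul_one, ← hR]
    rfl
  rw [hproj.trace, Nat.cast_inj] at htr
  let u : Fin n → (Fin d → ℂ) := fun i l => (((bM i : Fin d → W) l : W) : ℂ)
  have hsub : LinearMap.range E ≤ Submodule.span ℂ (Set.range u) := by
    rw [LinearMap.range_smul _ _ (inv_ne_zero hp0)]
    rintro _ ⟨y, rfl⟩
    rw [pi_eq_sum_univ' y, map_sum]
    refine Submodule.sum_mem _ fun i _ => ?_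
    rw [map_smul]
    refine Submodule.smul_mem _ _ ?_
    have h1 := bM.sum_repr ⟨N *ᵥ Pi.single i 1, hNfix _⟩
    have h2 : Matrix.toLinAlgEquiv' (N.map (Wr hM).subtype) (Pi.single i 1) =
        ∑ l, ((bM.repr ⟨N *ᵥ Pi.single i 1, hNfix _⟩ l : W) : ℂ) • u l := by
      funext m
      have h3 := congrArg (fun z : Mf => (((z : Fin d → W) m : W) : ℂ)) h1
      simp only [Submodule.coe_sum, Submodule.coe_smul, Finset.sum_apply, Pi.smul_apply, smul_eq_mul,
        AddSubmonoidClass.coe_finsetSum, Subring.coe_mul] at h3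
      simp only [Finset.sum_apply, Pi.smul_apply, smul_eq_mul, u, h3, Matrix.toLinAlgEquiv'_apply]
      rw [Matrix.mulVec_single_one, Matrix.mulVec_single_one]
      rfl
    rw [h2]
    exact Submodule.sum_mem _ fun l _ => Submodule.smul_mem _ _ (Submodule.subset_span ⟨l, rfl⟩)
  have h4 : Module.finrank ℂ (Submodule.span ℂ (Set.range u)) ≤ n :=
    (finrank_range_le_card (R := ℂ) u).trans (by rw [Fintype.card_fin])
  have := Submodule.finrank_mono hsub
  omega

/-- Weight vectors. -/
theorem exists_weight_vec (hh : Gen x e h a₀) (D : Data P x e t) (R : G →* Matrix (Fin d) (Fin d) (Wr hM))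
    {v₀ : Fin d → Wr hM} (hv₀ : ∀ k : ZMod p, R (xp x k) *ᵥ v₀ = v₀)
    (hv₀r : ∀ y, (fun i => redW hM (v₀ i)) ≠ (nrm x p R).map (redW hM) *ᵥ y) :
    ∃ (ei : Wr hM) (ψ : ZMod e → Wr hM), (e : Wr hM) * ei = 1 ∧ (∀ i, (ψ i : ℂ) = psiE e i) ∧
      ∃ (s : ZMod e) (w : Fin d → Wr hM), (∀ k : ZMod p, R (xp x k) *ᵥ w = w) ∧
        (∀ i, R (hq h i) *ᵥ w = ψ (s * i) • w) ∧
        ∀ y, (fun i => redW hM (w i)) ≠ (nrm x p R).map (redW hM) *ᵥ y := by
  classical
  haveI := hM.2.1
  letI := Ideal.Quotient.field M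
  haveI := res_isDomain hM
  haveI := res_charP hM
  have hp : p.Prime := Fact.out
  let W := Wr hM
  let red := redW hM
  obtain ⟨ei, hei⟩ : ∃ ei : W, (ei : ℂ) = (e : ℂ)⁻¹ := ⟨⟨_, natCast_inv_mem_Wr hM (n := e) (fun hd' => by
    have := Nat.le_of_dvd (Nat.pos_of_ne_zero (NeZero.ne e)) hd'
    have := D.A.lt
    omega)⟩, rfl⟩
  have hei' : (e : W) * ei = 1 := Subtype.ext (by
    push_cast; rw [hei, mul_inv_cancel₀ (Nat.cast_ne_zero.2 (NeZero.ne e))])
  let ψ : ZMod e → W := fun j => ⟨psiE e j, root_mem_Wr hM (n := e) (fun hd' => by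
    have := Nat.le_of_dvd (Nat.pos_of_ne_zero (NeZero.ne e)) hd'
    have := D.A.lt
    omega) (by
    rw [← AddChar.map_nsmul_eq_pow, nsmul_eq_mul, ZMod.natCast_self, zero_mul, AddChar.map_zero_eq_one])⟩
  have hψ : ∀ i j, ψ i * ψ j = ψ (i + j) := fun i j => Subtype.ext (by
    push_cast; exact (AddChar.map_add_eq_mul _ _ _).symm)
  have hψ0 : ψ 0 = 1 := Subtype.ext (AddChar.map_zero_eq_one _)
  let wv : ZMod e → Fin d → W := fun s => ei • ∑ j : ZMod e, ψ (-(s * j)) • (R (hq h j) *ᵥ v₀)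
  have hwfix : ∀ s, ∀ k : ZMod p, R (xp x k) *ᵥ wv s = wv s := fun s k => by
      simp only [wv, Matrix.mulVec_smul, Matrix.mulVec_sum]
      congr 1
      refine Finset.sum_congr rfl fun j _ => ?_
      congr 1
      have hconj : xp x k * hq h j = hq h j * xp x ((a₀ ^ j.val)⁻¹ * k) := by
        have h1 := hh.conj_xp D j.val ((a₀ ^ j.val)⁻¹ * k)
        rw [mul_inv_cancel_left₀ (pow_ne_zero _ (hh.root.ne_zero (NeZero.ne e)))] at h1
        rw [← h1, FeitSmall.hq, inv_mul_cancel_right]
      rw [Matrix.mulVec_mulVec, ← map_mul, hconj, map_mul, ← Matrix.mulVec_mulVec, hv₀]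
  have hwact : ∀ s i, R (hq h i) *ᵥ wv s = ψ (s * i) • wv s := fun s i => by
    simp only [wv, Matrix.mulVec_smul, Matrix.mulVec_sum, Finset.smul_sum, smul_smul, Matrix.mulVec_mulVec,
      ← map_mul, ← hq_add hh]
    refine Fintype.sum_equiv (Equiv.addLeft i) _ _ fun j => ?_
    rw [Equiv.coe_addLeft, mul_left_comm, hψ, mul_add, neg_add, add_neg_cancel_left]
  have hwsum : ∑ s, wv s = v₀ := by
    simp only [wv]
    rw [← Finset.smul_sum, Finset.sum_comm, Finset.sum_eq_single (0 : ZMod e)]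
    · simp only [mul_zero, neg_zero, hψ0, one_smul, hq_zero, map_one, Matrix.one_mulVec, sum_const, card_univ,
        ZMod.card]
      rw [← Nat.cast_smul_eq_nsmul W, smul_smul, mul_comm, hei', one_smul]
    · intro j _ hj
      rw [← Finset.sum_smul, show ∑ s : ZMod e, ψ (-(s * j)) = 0 from Subtype.ext (by
        rw [AddSubmonoidClass.coe_finsetSum]
        show ∑ s : ZMod e, psiE e (-(s * j)) = 0
        rw [Finset.sum_congr rfl fun s _ => show psiE e (-(s * j)) = psiE e (s * -j) by rw [mul_neg],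
          sum_psiE, if_neg (neg_ne_zero.2 hj)]), zero_smul]
    · exact fun h' => absurd (mem_univ _) h'
  obtain ⟨s, hs⟩ : ∃ s, (fun i => red (wv s i)) ∉ LinearMap.range (Matrix.toLinAlgEquiv' ((nrm x p R).map red)) := by
    by_contra hall
    push Not at hall
    have h1 : ∑ s, (fun i => red (wv s i)) ∈ LinearMap.range (Matrix.toLinAlgEquiv' ((nrm x p R).map red)) :=
      Submodule.sum_mem _ fun s _ => hall s
    obtain ⟨y, hy⟩ := h1
    refine hv₀r y ?_
    rw [← hwsum]
    refine Eq.trans (funext fun i => ?_) hy.symm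
    simp only [Finset.sum_apply, map_sum, red]
  exact ⟨ei, ψ, hei', fun i => rfl, s, wv s, fun k => hwfix s k, hwact s, fun y hy => hs ⟨y, hy.symm⟩⟩

/-- The weight is not zero. -/
theorem weight_ne_zero (hh : Gen x e h a₀) (D : Data P x e t) [Fintype (P : Subgroup G)]
    [Fintype (cen (P : Subgroup G))] (hH : Compl (P : Subgroup G) (Subgroup.center G)) (X : IrrCharacter G)
    (hX1 : classInner (X : G → ℂ) (fun _ => 1) = 0) (hd : 0 < d)
    (R : G →* Matrix (Fin d) (Fin d) (Wr hM))
    (hR : ∀ g, ((Matrix.trace (R g) : Wr hM) : ℂ) = (X : G → ℂ) g) (hZ : ∀ z : Subgroup.center G, R z = 1)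
    {w : Fin d → Wr hM} (hwfix : ∀ k : ZMod p, R (xp x k) *ᵥ w = w)
    (hwact : ∀ i : ZMod e, R (hq h i) *ᵥ w = w) :
    ∃ y, (fun i => redW hM (w i)) = (nrm x p R).map (redW hM) *ᵥ y := by
  classical
  haveI := hM.2.1
  letI := Ideal.Quotient.field M
  haveI := res_isDomain hM
  haveI := res_charP hM
  have hp : p.Prime := Fact.out
  let W := Wr hM
  let red := redW hM
  have hXc : ∀ g, (cMat R g).trace = (X : G → ℂ) g := fun g => by rw [cMat_trace, hR]
  have hsum0 : ∑ g : G, R g = 0 := by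
    have h1 := scalar_of_commute hd (cMat R) X hXc (S := ∑ g : G, cMat R g) fun g => by
      rw [Finset.sum_mul, Finset.mul_sum,
        Fintype.sum_equiv (Equiv.mulRight g) (fun a => cMat R a * cMat R g) (fun a => cMat R a)
          (fun a => (map_mul _ _ _).symm),
        Fintype.sum_equiv (Equiv.mulLeft g) (fun a => cMat R g * cMat R a) (fun a => cMat R a)
          (fun a => (map_mul _ _ _).symm)]
    have h2 : (∑ g : G, cMat R g).trace = 0 := by
      rw [Matrix.trace_sum]
      simp only [hXc]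
      have h3 := hX1
      simp only [classInner, map_one, mul_one] at h3
      exact (mul_eq_zero.1 h3).resolve_left (inv_ne_zero (Nat.cast_ne_zero.2 Nat.card_pos.ne'))
    rw [h2, zero_div, zero_smul] at h1
    refine Matrix.map_injective (f := (Subtype.val : W → ℂ)) Subtype.val_injective ?_
    beta_reduce
    rw [show (∑ g : G, R g).map (Subtype.val : W → ℂ) = ∑ g : G, cMat R g from
      map_sum (Wr hM).subtype.mapMatrix _ _, h1, Matrix.map_zero _ rfl]
  obtain ⟨n₀, hn₀, hsg⟩ := D.sum_group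
  obtain ⟨S, hS⟩ := hsg (fun g => R g *ᵥ w) w (fun g y hy => by
      obtain ⟨k, rfl⟩ := D.exists_xp hy
      rw [map_mul, ← Matrix.mulVec_mulVec, hwfix k])
    (fun n hn => by
      obtain ⟨j, k, z, rfl⟩ := D.exists_decomp hh hH hn
      rw [map_mul, map_mul, hZ, mul_one, ← Matrix.mulVec_mulVec, hwfix k, hwact])
  rw [← Matrix.sum_mulVec, hsum0, Matrix.zero_mulVec] at hS
  have h5 : n₀ • w + ∑ g ∈ S, ∑ i ∈ range p, R (x ^ i * g) *ᵥ w = 0 := by
    rw [← Nat.cast_smul_eq_nsmul W p] at hS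
    exact smul_right_injective _ (Wr_p_ne_zero hM) (hS.symm.trans (smul_zero _).symm)
  have h6 : ∀ g, ∑ i ∈ range p, R (x ^ i * g) *ᵥ w = nrm x p R *ᵥ (R g *ᵥ w) := fun g => by
    rw [nrm, Matrix.sum_mulVec]
    refine Finset.sum_nbij' (fun i => (i : ZMod p)) (fun k => k.val) (fun _ _ => mem_univ _)
      (fun k _ => mem_range.2 k.val_lt) (fun i hi => ZMod.val_cast_of_lt (mem_range.1 hi))
      (fun k _ => ZMod.natCast_rightInverse k) fun i _ => ?_
    rw [Matrix.mulVec_mulVec, xp_natCast D.pow, ← map_mul]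
  rw [Finset.sum_congr rfl fun g _ => h6 g, ← Matrix.mulVec_sum] at h5
  set Y := ∑ g ∈ S, R g *ᵥ w
  have h7 : (n₀ : AlgInt ⧸ M) • (fun i => red (w i)) + (nrm x p R).map red *ᵥ (fun i => red (Y i)) = 0 := by
    rw [← red_mulVec]
    funext i
    have h8 := congrArg red (congrFun h5 i)
    simpa using h8
  have hn0 : (n₀ : AlgInt ⧸ M) ≠ 0 := by rw [Ne, CharP.cast_eq_zero_iff _ p]; exact hn₀
  refine ⟨-((n₀ : AlgInt ⧸ M)⁻¹ • fun i => red (Y i)), ?_⟩
  rw [Matrix.mulVec_neg, Matrix.mulVec_smul, ← smul_neg, ← eq_neg_of_add_eq_zero_left h7, smul_smul,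
    inv_mul_cancel₀ hn0, one_smul]

/-- The weight vectors with unit pairing. -/
theorem exists_pair (hh : Gen x e h a₀) (D : Data P x e t) (hM : IsPModular p M)
    [Fintype (P : Subgroup G)] [Fintype (cen (P : Subgroup G))]
    (hH : Compl (P : Subgroup G) (Subgroup.center G)) (X : IrrCharacter G)
    (hcen : HasCen (X : G → ℂ) (1 : Subgroup.center G →* ℂ))
    (hX1 : classInner (X : G → ℂ) (fun _ => 1) = 0) {b d : ℕ} (hd : d = p * b + 1)
    (R : G →* Matrix (Fin d) (Fin d) (Wr hM))
    (hR : ∀ g, ((Matrix.trace (R g) : Wr hM) : ℂ) = (X : G → ℂ) g)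
    (hm : mult x (X : G → ℂ) (0 : ZMod p) = (b : ℂ) + 1) :
    (∀ z : Subgroup.center G, R z = 1) ∧
    ∃ (s : ZMod e) (v φ : Fin d → Wr hM), s ≠ 0 ∧
      (∀ k : ZMod p, R (xp x k) *ᵥ v = v) ∧ (∀ k : ZMod p, φ ᵥ* R (xp x k) = φ) ∧
      (∀ j : ZMod e, ∀ i, ((R (hq h j) *ᵥ v) i : ℂ) = psiE e (s * j) * (v i : ℂ)) ∧
      (∀ j : ZMod e, ∀ i, ((φ ᵥ* R (hq h j)) i : ℂ) = psiE e (s * j) * (φ i : ℂ)) ∧
      redW hM (φ ⬝ᵥ v) ≠ 0 := by
  classical
  haveI := hM.2.1
  letI := Ideal.Quotient.field M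
  haveI := res_isDomain hM
  haveI := res_charP hM
  have hdpos : 0 < d := by omega
  have hp : p.Prime := Fact.out
  have hXc : ∀ g, (cMat R g).trace = (X : G → ℂ) g := fun g => by rw [cMat_trace, hR]
  have hZ : ∀ z : Subgroup.center G, R z = 1 := by
    intro z
    have h1 := scalar_of_commute hdpos (cMat R) X hXc (S := cMat R z) fun g => by
      rw [← map_mul, ← map_mul, Subgroup.mem_center_iff.1 z.2 g]
    have h2 : (cMat R z).trace = (d : ℂ) := by
      rw [hXc, ← one_mul ((z : G)), hcen 1 z, MonoidHom.one_apply, one_mul, ← hXc, map_one,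
        Matrix.trace_one, Fintype.card_fin]
    rw [h2, div_self (Nat.cast_ne_zero.2 hdpos.ne'), one_smul] at h1
    exact Matrix.map_injective Subtype.val_injective (by
      beta_reduce
      rw [← cMat_apply, h1, Matrix.map_one _ rfl rfl])
  refine ⟨hZ, ?_⟩
  obtain ⟨v₀, hv₀, hv₀r⟩ := exists_not_norm D X hd R hR hm
  obtain ⟨ei, ψ, hei', hψc, s, w, hwfix, hwact, hs⟩ := exists_weight_vec hh D R hv₀ hv₀r
  let W := Wr hM
  let red := redW hM
  have hψ : ∀ i j, ψ i * ψ j = ψ (i + j) := fun i j => Subtype.ext (by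
    push_cast; rw [hψc, hψc, hψc]; exact (AddChar.map_add_eq_mul _ _ _).symm)
  have hψ0 : ψ 0 = 1 := Subtype.ext (by rw [hψc]; exact AddChar.map_zero_eq_one _)
  have hs0 : s ≠ 0 := by
    rintro rfl
    obtain ⟨y, hy⟩ := weight_ne_zero hh D hH X hX1 hdpos R hR hZ hwfix fun i => by
      rw [hwact, zero_mul, hψ0, one_smul]
    exact hs y hy
  set N := nrm x p R with hN
  set Nb : Module.End (AlgInt ⧸ M) (Fin d → AlgInt ⧸ M) := Matrix.toLinAlgEquiv' (N.map red) with hNb
  obtain ⟨f, hf, hfN⟩ := Submodule.exists_dual_map_eq_bot_of_notMem (p := LinearMap.range Nb) (fun ⟨y, hy⟩ => hs y hy.symm) inferInstance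
  choose lam hlam using fun i => redW_surjective hM ((f (fun i => red (w i)))⁻¹ * f (Pi.single i 1))
  have hflam : ∀ y : Fin d → W, red (lam ⬝ᵥ y) = (f (fun i => red (w i)))⁻¹ * f (fun i => red (y i)) := by
    intro y
    rw [dotProduct, map_sum]
    conv_rhs => rw [pi_eq_sum_univ' (fun i => red (y i)), map_sum, Finset.mul_sum]
    refine Finset.sum_congr rfl fun i _ => ?_
    rw [map_mul, show red (lam i) = _ from hlam i, map_smul, smul_eq_mul]
    ring
  have hzero : ∀ i, red ((lam ᵥ* N) i) = 0 := fun i => by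
    rw [show (lam ᵥ* N) i = lam ⬝ᵥ (N *ᵥ Pi.single i 1) by
      rw [Matrix.mulVec_single_one]; rfl, hflam, red_mulVec]
    have h1 : f (N.map red *ᵥ fun l => red ((Pi.single i 1 : Fin d → W) l)) ∈ (LinearMap.range Nb).map f :=
      Submodule.mem_map_of_mem (LinearMap.mem_range_self _ _)
    rw [hfN, Submodule.mem_bot] at h1
    rw [h1, mul_zero]
  choose φ₀ hφ₀ using fun i => (redW_eq_zero_iff hM).1 (hzero i)
  have hφeq : lam ᵥ* N = (p : W) • φ₀ := funext hφ₀
  have hφfix : ∀ k, φ₀ ᵥ* R (xp x k) = φ₀ := fun k => smul_right_injective _ (Wr_p_ne_zero hM) (by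
    show (p : W) • (φ₀ ᵥ* R (xp x k)) = (p : W) • φ₀
    rw [← Matrix.smul_vecMul, ← hφeq, Matrix.vecMul_vecMul, nrm_mul_xp D])
  have hφv : ∀ v, (∀ k : ZMod p, R (xp x k) *ᵥ v = v) → φ₀ ⬝ᵥ v = lam ⬝ᵥ v := fun v hv => mul_left_cancel₀ (Wr_p_ne_zero hM) (by
    rw [← smul_eq_mul, ← smul_eq_mul, ← smul_dotProduct, ← hφeq, ← Matrix.dotProduct_mulVec, nrm_mulVec_fixed R hv,
      dotProduct_smul])
  refine ⟨s, w, ei • ∑ j : ZMod e, ψ (-(s * j)) • (φ₀ ᵥ* R (hq h j)), hs0, fun k => hwfix k, fun k => ?_,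
    fun j i => ?_, fun j i => ?_, ?_⟩
  · rw [Matrix.smul_vecMul, Matrix.sum_vecMul]
    congr 1
    refine Finset.sum_congr rfl fun j _ => ?_
    rw [Matrix.smul_vecMul, Matrix.vecMul_vecMul, ← map_mul, show hq h j * xp x k = xp x (a₀ ^ j.val * k) * hq h j by
      rw [← hh.conj_xp D, FeitSmall.hq, inv_mul_cancel_right], map_mul, ← Matrix.vecMul_vecMul, hφfix]
  · rw [hwact, Pi.smul_apply, smul_eq_mul, Subring.coe_mul, hψc]
  · have h1 : (ei • ∑ l : ZMod e, ψ (-(s * l)) • (φ₀ ᵥ* R (hq h l))) ᵥ* R (hq h j) =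
        ψ (s * j) • (ei • ∑ l : ZMod e, ψ (-(s * l)) • (φ₀ ᵥ* R (hq h l))) := by
      simp only [Matrix.smul_vecMul, Matrix.sum_vecMul, Matrix.vecMul_vecMul, ← map_mul, ← hq_add hh,
        Finset.smul_sum, smul_smul]
      refine Fintype.sum_equiv (Equiv.addRight j) _ _ fun l => ?_
      rw [Equiv.coe_addRight, mul_left_comm, hψ]
      congr 3
      ring
    rw [h1, Pi.smul_apply, smul_eq_mul, Subring.coe_mul, hψc]
  · rw [smul_dotProduct, sum_dotProduct]
    have h1 : ∀ j : ZMod e, (ψ (-(s * j)) • (φ₀ ᵥ* R (hq h j))) ⬝ᵥ w = φ₀ ⬝ᵥ w := fun j => by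
      rw [smul_dotProduct, ← Matrix.dotProduct_mulVec, hwact, dotProduct_smul, smul_smul, hψ,
        neg_add_cancel, hψ0, one_smul]
    rw [Finset.sum_congr rfl fun j _ => h1 j, sum_const, card_univ, ZMod.card, ← Nat.cast_smul_eq_nsmul W,
      smul_smul, mul_comm, hei', one_smul, hφv _ hwfix, show redW hM _ = red _ from rfl, hflam,
      inv_mul_cancel₀ hf]
    exact one_ne_zero

end CfsgLib.FeitSmall
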