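import Cfsg.Agent.Lib.FeitSmall.Cyclo
import Cfsg.Agent.Lib.SmallSylow.Block
import Cfsg.Agent.Lib.Blocks.DefectOneBlocks

/-!
# Multiplicities on a Sylow subgroup of prime order
-/

namespace CfsgLib.FeitSmall

open Cfsg CfsgLib.Blocks CfsgLib.Blocks.DefectOne CfsgLib.CharTheory CfsgLib.CharTheory.SmallDegree
open CfsgLib.SmallSylow Finset
open scoped ComplexConjugate

set_option linter.unusedVariables false
set_option linter.style.haveILetI false
set_option linter.unusedSectionVars false

universe u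

variable {p : ℕ} [Fact p.Prime]

/-- The standard character of `ZMod p`. -/
noncomputable abbrev psi (p : ℕ) [Fact p.Prime] : AddChar (ZMod p) ℂ := ZMod.stdAddChar

theorem psi_conj (a : ZMod p) : conj (psi p a) = psi p (-a) := by
  rw [AddChar.map_neg_eq_inv, ZMod.stdAddChar_apply, ← Circle.coe_inv, Circle.coe_inv_eq_conj]

theorem sum_psi_mul (b : ZMod p) : ∑ k, psi p (k * b) = if b = 0 then (p : ℂ) else 0 := by
  rw [AddChar.sum_mulShift b (ZMod.isPrimitive_stdAddChar p), ZMod.card]; split_ifs <;> simp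

variable {G : Type u} [Group G] [Fintype G]

/-- The powers of `x`. -/
def xp (x : G) (k : ZMod p) : G := x ^ k.val

/-- The multiplicity of the eigenvalue of index `z`. -/
noncomputable def mult (x : G) (f : G → ℂ) (z : ZMod p) : ℂ :=
  (p : ℂ)⁻¹ * ∑ k : ZMod p, f (xp x k) * psi p (-(z * k))

variable {x : G}

theorem xp_zero : xp x (0 : ZMod p) = 1 := by rw [xp, ZMod.val_zero, pow_zero]

theorem xp_one : xp x (1 : ZMod p) = x := by
  haveI : Fact (1 < p) := ⟨(Fact.out : p.Prime).one_lt⟩
  rw [xp, ZMod.val_one, pow_one]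

theorem xp_natCast (hx : x ^ p = 1) (n : ℕ) : xp x (n : ZMod p) = x ^ n := by
  rw [xp, ZMod.val_natCast, ← pow_eq_pow_mod n hx]

theorem xp_add (hx : x ^ p = 1) (a b : ZMod p) : xp x (a + b) = xp x a * xp x b := by
  rw [xp, xp, xp, ← pow_add, ZMod.val_add, ← pow_eq_pow_mod _ hx]

theorem xp_mul (hx : x ^ p = 1) (a b : ZMod p) : xp x (a * b) = xp x a ^ b.val := by
  rw [xp, xp, ← pow_mul, ZMod.val_mul, ← pow_eq_pow_mod _ hx]

theorem mult_expand (f : G → ℂ) (k : ZMod p) :
    f (xp x k) = ∑ z, mult x f z * psi p (z * k) := by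
  simp only [mult, Finset.mul_sum, Finset.sum_mul]
  rw [Finset.sum_comm]
  have h : ∀ k' : ZMod p, ∑ z : ZMod p, (p : ℂ)⁻¹ * (f (xp x k') * psi p (-(z * k'))) * psi p (z * k) =
      if k' = k then f (xp x k') else 0 := by
    intro k'
    rw [Finset.sum_congr rfl fun z _ => show
      (p : ℂ)⁻¹ * (f (xp x k') * psi p (-(z * k'))) * psi p (z * k) =
        ((p : ℂ)⁻¹ * f (xp x k')) * psi p (z * (k - k')) by
      rw [mul_sub, sub_eq_neg_add, AddChar.map_add_eq_mul]; ring, ← Finset.mul_sum, sum_psi_mul]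
    rcases eq_or_ne k' k with rfl | hne
    · rw [if_pos (sub_self _), if_pos rfl, mul_comm (p : ℂ)⁻¹, mul_assoc,
        inv_mul_cancel₀ (Nat.cast_ne_zero.2 (Fact.out : p.Prime).ne_zero), mul_one]
    · rw [if_neg (sub_ne_zero.2 hne.symm), if_neg hne, mul_zero]
  rw [Finset.sum_congr rfl fun k' _ => h k', Finset.sum_ite_eq' univ k, if_pos (mem_univ _)]

theorem mult_eq {f : G → ℂ} {c : ZMod p → ℂ} (h : ∀ k, f (xp x k) = ∑ z, c z * psi p (z * k))
    (z : ZMod p) : mult x f z = c z := by
  simp only [mult, h, Finset.sum_mul]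
  rw [Finset.sum_comm]
  have h1 : ∀ w : ZMod p, ∑ k : ZMod p, c w * psi p (w * k) * psi p (-(z * k)) =
      if w = z then (p : ℂ) * c w else 0 := by
    intro w
    rw [Finset.sum_congr rfl fun k _ => show c w * psi p (w * k) * psi p (-(z * k)) =
      c w * psi p (k * (w - z)) by
      rw [mul_sub, sub_eq_add_neg, AddChar.map_add_eq_mul]; ring_nf, ← Finset.mul_sum, sum_psi_mul]
    rcases eq_or_ne w z with rfl | hne
    · rw [if_pos (sub_self _), if_pos rfl, mul_comm]
    · rw [if_neg (sub_ne_zero.2 hne), if_neg hne, mul_zero]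
  rw [Finset.sum_congr rfl fun w _ => h1 w, Finset.sum_ite_eq' univ z, if_pos (mem_univ _),
    inv_mul_cancel_left₀ (Nat.cast_ne_zero.2 (Fact.out : p.Prime).ne_zero)]

theorem sum_mult (f : G → ℂ) : ∑ z : ZMod p, mult x f z = f 1 := by
  have h := mult_expand (x := x) f (0 : ZMod p)
  rw [xp_zero] at h
  rw [h]
  exact Finset.sum_congr rfl fun z _ => by rw [mul_zero, AddChar.map_zero_eq_one, mul_one]

theorem mult_mul (f g : G → ℂ) (z : ZMod p) :
    mult x (fun a => f a * g a) z = ∑ a : ZMod p, mult x f a * mult x g (z - a) := by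
  refine mult_eq (c := fun z => ∑ a : ZMod p, mult x f a * mult x g (z - a)) (fun k => ?_) z
  simp only [Finset.sum_mul]
  rw [mult_expand f k, mult_expand g k, Finset.sum_mul_sum, Finset.sum_comm (s := univ)
    (f := fun z a => mult x f a * mult x g (z - a) * psi p (z * k))]
  refine Finset.sum_congr rfl fun a _ => Fintype.sum_equiv (Equiv.addLeft a) _ _ fun b => ?_
  rw [Equiv.coe_addLeft, add_sub_cancel_left, add_mul, AddChar.map_add_eq_mul]
  ring

theorem mult_conj (f : G → ℂ) (z : ZMod p) :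
    mult x (fun a => conj (f a)) z = conj (mult x f (-z)) := by
  rw [mult, mult, map_mul, map_inv₀, Complex.conj_natCast, map_sum]
  congr 1
  refine Finset.sum_congr rfl fun k _ => ?_
  rw [map_mul, psi_conj, neg_mul, neg_neg]

theorem mult_add (f g : G → ℂ) (z : ZMod p) :
    mult x (fun a => f a + g a) z = mult x f z + mult x g z := by
  simp only [mult, add_mul, Finset.sum_add_distrib, mul_add]

theorem mult_smul (c : ℂ) (f : G → ℂ) (z : ZMod p) :
    mult x (fun a => c * f a) z = c * mult x f z := by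
  simp only [mult, mul_assoc, ← Finset.mul_sum]
  ring

theorem mult_sum {ι : Type*} (s : Finset ι) (f : ι → G → ℂ) (z : ZMod p) :
    mult x (fun a => ∑ i ∈ s, f i a) z = ∑ i ∈ s, mult x (f i) z := by
  simp only [mult, Finset.sum_mul, Finset.mul_sum]
  rw [Finset.sum_comm]

/-- The standing data at the prime. -/
structure Data (P : Sylow p G) (x : G) (e t : ℕ) : Prop where
  hP : Nat.card P = p
  mem : x ∈ (P : Subgroup G)
  ne : x ≠ 1
  A : Arith p e t
  hq : inIdx P = e
  exps : ∀ a : ZMod p, a ∈ rts p e ↔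
    ∃ n ∈ Subgroup.normalizer ((P : Subgroup G) : Set G), n * x * n⁻¹ = xp x a

variable {P : Sylow p G} {e t : ℕ}

theorem Data.pow (D : Data P x e t) : x ^ p = 1 := pow_card_of_mem D.hP D.mem

theorem Data.order (D : Data P x e t) : orderOf x = p := orderOf_eq_prime D.pow D.ne

theorem Data.setup (D : Data P x e t) : Setup p (P : Subgroup G) := setup_sylow P D.hP

theorem Data.exists_xp (D : Data P x e t) {y : G} (hy : y ∈ (P : Subgroup G)) :
    ∃ k : ZMod p, y = xp x k := by
  obtain ⟨hz, -⟩ := zpowers_eq D.setup D.hP D.mem D.ne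
  rw [← hz] at hy
  obtain ⟨i, rfl⟩ := mem_powers_iff_mem_zpowers.2 hy
  exact ⟨(i : ZMod p), (xp_natCast D.pow i).symm⟩

theorem Data.xp_mem (D : Data P x e t) (k : ZMod p) : xp x k ∈ (P : Subgroup G) :=
  pow_mem D.mem _

theorem Data.xp_inj (D : Data P x e t) : Function.Injective (xp x : ZMod p → G) := fun a b h => by
  have ha := ZMod.val_lt a
  have hb := ZMod.val_lt b
  exact ZMod.val_injective p (pow_injOn_Iio_orderOf (Set.mem_Iio.2 (by rw [D.order]; exact ha))
    (Set.mem_Iio.2 (by rw [D.order]; exact hb)) h)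

/-- Data exist. -/
theorem exists_data (P : Sylow p G) (hP : Nat.card P = p) :
    ∃ x e t, Data P x e t := by
  classical
  have hp : p.Prime := Fact.out
  obtain ⟨x, hx, hx1⟩ := SmallSylow.exists_mem_ne P hP
  have h := setup_sylow P hP
  have hxp : x ^ p = 1 := pow_card_of_mem hP hx
  have ho : orderOf x = p := orderOf_eq_prime hxp hx1
  set N := Subgroup.normalizer ((P : Subgroup G) : Set G) with hN
  have hex : ∀ n : N, ∃ a : ZMod p, (n : G) * x * (n : G)⁻¹ = xp x a := by
    intro n
    have h1 := (Subgroup.mem_normalizer_iff.1 n.2 x).1 hx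
    rw [← (zpowers_eq h hP hx hx1).1] at h1
    obtain ⟨i, hi⟩ := mem_powers_iff_mem_zpowers.2 h1
    exact ⟨(i : ZMod p), by rw [xp_natCast hxp]; exact hi.symm⟩
  choose a ha using hex
  have hinj : ∀ k l : ZMod p, xp x k = xp x l → k = l := fun k l he => by
    have hk := ZMod.val_lt k
    have hl := ZMod.val_lt l
    exact ZMod.val_injective p (pow_injOn_Iio_orderOf (Set.mem_Iio.2 (by rw [ho]; exact hk))
      (Set.mem_Iio.2 (by rw [ho]; exact hl)) he)
  let φ : N →* ZMod p :=
    { toFun := a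
      map_one' := hinj _ _ (by rw [← ha 1, xp_one, Subgroup.coe_one, one_mul, inv_one, mul_one])
      map_mul' := fun m n => hinj _ _ (by
        rw [← ha (m * n), mul_comm (a m) (a n), mul_comm (a n) (a m), xp_mul hxp, ← ha m, conj_pow,
          ← show xp x (a n) = x ^ (a n).val from rfl, ← ha n, Subgroup.coe_mul]
        group) }
  have hker : φ.toHomUnits.ker =
      (Subgroup.centralizer ((P : Subgroup G) : Set G)).subgroupOf N := by
    ext n
    rw [MonoidHom.mem_ker, Subgroup.mem_subgroupOf]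
    constructor
    · intro hn
      have h1 : a n = 1 := congrArg Units.val hn
      have h2 := ha n
      rw [h1, xp_one] at h2
      exact h.free hx hx1 h2
    · intro hn
      refine Units.ext (hinj _ _ ?_)
      show xp x (a n) = xp x (1 : ZMod p)
      rw [← ha n, xp_one, ← Subgroup.mem_centralizer_iff.1 hn x hx, mul_inv_cancel_right]
  have hcard : Nat.card φ.toHomUnits.range = inIdx P := by
    rw [← Subgroup.index_ker, hker]
    rfl
  have hdvd : inIdx P ∣ p - 1 := by
    rw [← hcard, ← ZMod.card_units p, ← Nat.card_eq_fintype_card]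
    exact Subgroup.card_subgroup_dvd_card _
  obtain ⟨t, ht⟩ := hdvd
  have he0 : inIdx P ≠ 0 := fun h0 => by rw [h0, zero_mul] at ht; have := hp.two_le; omega
  have A : Arith p (inIdx P) t := ⟨by rw [mul_comm, ← ht]; have := hp.two_le; omega, he0⟩
  have hsub : ∀ n, a n ∈ rts p (inIdx P) := by
    intro n
    rw [mem_rts, ← hcard]
    have := congrArg (fun u : φ.toHomUnits.range => ((u : (ZMod p)ˣ) : ZMod p))
      (pow_card_eq_one' (x := (⟨φ.toHomUnits n, n, rfl⟩ : φ.toHomUnits.range)))
    simp only [SubmonoidClass.coe_pow, Units.val_pow_eq_pow_val, Subgroup.coe_one, Units.val_one] at this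
    exact this
  have himage : Finset.univ.image a = rts p (inIdx P) := by
    refine Finset.eq_of_subset_of_card_le
      (fun z hz => by obtain ⟨n, -, rfl⟩ := mem_image.1 hz; exact hsub n) ?_
    rw [A.card_rts, ← hcard, Nat.card_eq_fintype_card, ← Finset.card_univ]
    refine Finset.card_le_card_of_injOn (fun u => ((u : (ZMod p)ˣ) : ZMod p)) (fun u _ => ?_)
      (fun u _ v _ huv => Subtype.ext (Units.ext huv))
    obtain ⟨u, n, rfl⟩ := u
    exact mem_image.2 ⟨n, mem_univ _, rfl⟩
  refine ⟨x, inIdx P, t, hP, hx, hx1, A, rfl, fun z => ⟨fun hz => ?_, ?_⟩⟩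
  · rw [← himage] at hz
    obtain ⟨n, -, rfl⟩ := mem_image.1 hz
    exact ⟨n, n.2, ha n⟩
  · rintro ⟨n, hn, hnz⟩
    rw [← hinj _ _ ((ha ⟨n, hn⟩).symm.trans hnz)]
    exact hsub _

theorem Data.mult_mul_rts (D : Data P x e t) {f : G → ℂ} (hf : IsClassFunction G f) {a : ZMod p}
    (ha : a ∈ rts p e) (z : ZMod p) : mult x f (z * a) = mult x f z := by
  obtain ⟨n, -, hn⟩ := (D.exps a).1 ha
  have ha0 := ne_zero_rts D.A.epos ha
  rw [mult, mult]
  congr 1
  refine Fintype.sum_equiv (Equiv.mulLeft₀ a ha0) _ _ fun k => ?_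
  rw [Equiv.mulLeft₀_apply, xp_mul D.pow, ← hn, conj_pow, hf, mul_assoc, xp]

/-- The isomorphism with the Sylow subgroup. -/
noncomputable def Data.dlog (D : Data P x e t) : ZMod p ≃ (P : Subgroup G) :=
  Equiv.ofBijective (fun k => ⟨xp x k, D.xp_mem k⟩)
    ⟨fun a b h => D.xp_inj (congrArg Subtype.val h), fun y => by
      obtain ⟨k, hk⟩ := D.exists_xp y.2
      exact ⟨k, Subtype.ext hk.symm⟩⟩

theorem Data.dlog_mul (D : Data P x e t) (y y' : (P : Subgroup G)) :
    D.dlog.symm (y * y') = D.dlog.symm y + D.dlog.symm y' := by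
  apply D.dlog.injective
  rw [Equiv.apply_symm_apply]
  refine Subtype.ext ?_
  show _ = xp x _
  rw [xp_add D.pow, Subgroup.coe_mul]
  congr 1
  · exact congrArg Subtype.val (D.dlog.apply_symm_apply y).symm
  · exact congrArg Subtype.val (D.dlog.apply_symm_apply y').symm

theorem Data.dlog_one (D : Data P x e t) : D.dlog.symm 1 = 0 := by
  apply D.dlog.injective
  rw [Equiv.apply_symm_apply]
  exact Subtype.ext xp_zero.symm

/-- The character of index `z`. -/
noncomputable def Data.nu (D : Data P x e t) (z : ZMod p) : IrrCharacter (P : Subgroup G) :=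
  let φ : (P : Subgroup G) →* ℂ :=
    { toFun := fun y => psi p (z * D.dlog.symm y)
      map_one' := by rw [D.dlog_one, mul_zero, AddChar.map_zero_eq_one]
      map_mul' := fun y y' => by rw [D.dlog_mul, mul_add, AddChar.map_add_eq_mul] }
  ⟨fun y => psi p (z * D.dlog.symm y), isIrrCharacter_linear φ.toHomUnits⟩

theorem Data.nu_apply (D : Data P x e t) (z k : ZMod p) :
    (D.nu z : ↥(P : Subgroup G) → ℂ) (D.dlog k) = psi p (z * k) := by
  show psi p (z * D.dlog.symm (D.dlog k)) = _
  rw [Equiv.symm_apply_apply]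

theorem Data.nu_zero (D : Data P x e t) : D.nu 0 = oneP (P : Subgroup G) :=
  Subtype.ext (funext fun y => by
    show psi p (0 * D.dlog.symm y) = 1
    rw [zero_mul, AddChar.map_zero_eq_one])

theorem Data.nu_inj (D : Data P x e t) : Function.Injective D.nu := by
  intro a b h
  by_contra hne
  have h0 : ∀ k, psi p (k * (a - b)) = 1 := fun k => by
    have h1 := congrFun (congrArg Subtype.val h) (D.dlog k)
    rw [D.nu_apply, D.nu_apply] at h1
    rw [mul_sub, sub_eq_add_neg, AddChar.map_add_eq_mul, mul_comm k a, mul_comm k b, h1,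
      ← AddChar.map_add_eq_mul, add_neg_cancel, AddChar.map_zero_eq_one]
  have h2 := sum_psi_mul (a - b)
  rw [Finset.sum_congr rfl (fun k _ => h0 k), if_neg (sub_ne_zero.2 hne), sum_const, card_univ,
    ZMod.card, nsmul_one] at h2
  exact (Nat.cast_ne_zero.2 (Fact.out : p.Prime).ne_zero) h2

theorem Data.nu_surj (D : Data P x e t) [Fintype (P : Subgroup G)] (ν : IrrCharacter (P : Subgroup G)) :
    ∃ z, D.nu z = ν := by
  classical
  exact ((Fintype.bijective_iff_injective_and_card D.nu).2
    ⟨D.nu_inj, by rw [ZMod.card, card_irr_P D.setup D.hP]⟩).2 ν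

theorem Data.classInner_nu (D : Data P x e t) [Fintype (P : Subgroup G)] (f : G → ℂ) (z : ZMod p) :
    classInner (fun y : (P : Subgroup G) => f y) (D.nu z : ↥(P : Subgroup G) → ℂ) = mult x f z := by
  rw [classInner, mult, show (Nat.card (P : Subgroup G)) = p from D.hP]
  congr 1
  refine (Fintype.sum_equiv D.dlog _ _ fun k => ?_).symm
  rw [D.nu_apply, psi_conj]
  rfl

theorem Data.mult_nat (D : Data P x e t) {f : G → ℂ} (hf : IsCharacter G f) (z : ZMod p) :
    ∃ n : ℕ, mult x f z = n := by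
  classical
  obtain ⟨n, hn⟩ := classInner_char_nat (isCharacter_restrict hf (P : Subgroup G))
    (isCharacter_of_irr (D.nu z).2)
  exact ⟨n, by rw [← D.classInner_nu, hn]⟩

theorem Data.nConj_nu (D : Data P x e t) {g : G}
    (hg : g ∈ Subgroup.normalizer ((P : Subgroup G) : Set G)) {a : ZMod p}
    (ha : g * x * g⁻¹ = xp x a) (z : ZMod p) : nConj hg (D.nu z) = D.nu (z * a) := by
  refine Subtype.ext (funext fun y => ?_)
  obtain ⟨k, rfl⟩ := D.dlog.surjective y
  rw [D.nu_apply, mul_assoc, ← D.nu_apply z (a * k)]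
  show (D.nu z : ↥(P : Subgroup G) → ℂ) _ = _
  refine congrArg _ (Subtype.ext ?_)
  show g * xp x k * g⁻¹ = xp x (a * k)
  rw [xp_mul D.pow, ← ha, conj_pow]
  rfl

/-! ### central characters -/

/-- The class function `f` has central character `w`. -/
def HasCen (f : G → ℂ) (w : Subgroup.center G →* ℂ) : Prop :=
  ∀ (g : G) (z : Subgroup.center G), f (g * z) = w z * f g

theorem HasCen.mul {f f' : G → ℂ} {w w' : Subgroup.center G →* ℂ} (h : HasCen f w)
    (h' : HasCen f' w') : HasCen (fun g => f g * f' g) (w * w') := fun g z => by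
  simp only [h g z, h' g z, MonoidHom.mul_apply]
  ring

theorem exists_hasCen (χ : IrrCharacter G) :
    ∃ w : Subgroup.center G →* ℂ, HasCen (χ : G → ℂ) w := by
  obtain ⟨n, R, hR, hRχ⟩ := χ.2
  choose c hc using fun z : Subgroup.center G => exists_scalar_of_mem_center R z.2
  have h : ∀ (g : G) (z : Subgroup.center G), (χ : G → ℂ) (g * z) = c z * (χ : G → ℂ) g := fun g z => by
    rw [← hRχ, Representation.character, Representation.character, map_mul, hc]
    show LinearMap.trace ℂ _ ((R g).comp (c z • LinearMap.id)) = _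
    rw [LinearMap.comp_smul, LinearMap.comp_id, map_smul, smul_eq_mul]
  refine ⟨{ toFun := c, map_one' := ?_, map_mul' := fun a b => ?_ }, h⟩
  · have := h 1 1
    rw [OneMemClass.coe_one, mul_one] at this
    exact mul_right_cancel₀ (irr_one_ne_zero χ) (this.symm.trans (one_mul _).symm)
  · refine mul_right_cancel₀ (irr_one_ne_zero χ) ?_
    rw [← h, mul_comm (c a), mul_assoc, ← h, ← h, Subgroup.coe_mul, one_mul, one_mul]

theorem HasCen.unique {χ : IrrCharacter G} {w w' : Subgroup.center G →* ℂ}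
    (h : HasCen (χ : G → ℂ) w) (h' : HasCen (χ : G → ℂ) w') : w = w' :=
  MonoidHom.ext fun z => mul_right_cancel₀ (irr_one_ne_zero χ) ((h 1 z).symm.trans (h' 1 z))

theorem norm_cen_one (w : Subgroup.center G →* ℂ) (z : Subgroup.center G) : conj (w z) = (w z)⁻¹ := by
  have h : w z ^ Nat.card (Subgroup.center G) = 1 := by rw [← map_pow, pow_card_eq_one', map_one]
  rw [Complex.inv_def, Complex.normSq_eq_norm_sq,
    Complex.norm_eq_one_of_pow_eq_one h Nat.card_pos.ne']
  simp

theorem HasCen.conj {f : G → ℂ} {w : Subgroup.center G →* ℂ} (h : HasCen f w) :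
    HasCen (fun g => (starRingEnd ℂ) (f g)) ((starRingEnd ℂ).toMonoidHom.comp w) :=
  fun g z => by
    show (starRingEnd ℂ) (f (g * z)) = (starRingEnd ℂ) (w z) * (starRingEnd ℂ) (f g)
    rw [h g z, map_mul]

/-- Only characters with the same central character occur. -/
theorem HasCen.of_inner {f : G → ℂ} {w : Subgroup.center G →* ℂ} (h : HasCen f w) (χ : IrrCharacter G)
    (hne : classInner f (χ : G → ℂ) ≠ 0) : HasCen (χ : G → ℂ) w := by
  obtain ⟨w', h'⟩ := exists_hasCen χ
  suffices w = w' by rw [this]; exact h'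
  refine MonoidHom.ext fun z => ?_
  have e : ∑ g : G, f g * starRingEnd ℂ ((χ : G → ℂ) g) =
      (w z * starRingEnd ℂ (w' z)) * ∑ g : G, f g * starRingEnd ℂ ((χ : G → ℂ) g) := by
    rw [Finset.mul_sum]
    refine (Fintype.sum_equiv (Equiv.mulRight (z : G)) _ _ fun g => ?_).symm
    rw [Equiv.coe_mulRight, h g z, h' g z, map_mul]
    ring
  have hS : ∑ g : G, f g * starRingEnd ℂ ((χ : G → ℂ) g) ≠ 0 := fun h0 => hne (by
    rw [classInner, h0, mul_zero])
  have e1 := mul_right_cancel₀ hS ((one_mul _).trans e)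
  rw [norm_cen_one, eq_mul_inv_iff_mul_eq₀ (fun h0 => by
    have := congrArg w' (mul_inv_cancel z)
    rw [map_mul, h0, zero_mul, map_one] at this
    exact zero_ne_one this), one_mul] at e1
  exact e1.symm

end CfsgLib.FeitSmall
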