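import Cfsg.Agent.Lib.FeitSmall.BigT

/-!
# Faithful characters of small degree when the Sylow subgroup has prime order
-/

namespace CfsgLib.FeitSmall

open Cfsg CfsgLib.Blocks CfsgLib.Blocks.DefectOne CfsgLib.CharTheory CfsgLib.CharTheory.SmallDegree
open CfsgLib.SmallSylow Finset
open scoped Pointwise

set_option linter.unusedVariables false
set_option linter.style.haveILetI false
set_option linter.unusedSectionVars false

universe u

variable {p : ℕ} [Fact p.Prime] {G : Type u} [Group G] [Fintype G] {P : Sylow p G} {x : G} {e t : ℕ}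

/-- The three possibilities. -/
theorem feit_small (D : Data P x e t) (hp11 : 11 ≤ p) (hnn : ¬ (P : Subgroup G).Normal) (ζ : IrrCharacter G)
    (hfaith : ∀ g : G, (ζ : G → ℂ) g = (ζ : G → ℂ) 1 → g = 1) :
    (Nonempty ((G ⧸ Subgroup.center G) ≃* Matrix.ProjectiveSpecialLinearGroup (Fin 2) (ZMod p)) ∧
      (2 * charDegree (ζ : G → ℂ) = p + 1 ∨ 2 * charDegree (ζ : G → ℂ) = p - 1) ∧ t = 2) ∨
    p - 1 ≤ charDegree (ζ : G → ℂ) ∨
    (charDegree (ζ : G → ℂ) + e = p ∧ 3 ≤ t ∧
      (e = 2 ∨ (e + 3 ≤ t ∧ ¬ Odd (Nat.card (Subgroup.center G))))) := by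
  classical
  rcases Nat.lt_or_ge (charDegree (ζ : G → ℂ)) (p - 1) with hd | hd
  swap; · exact Or.inr (Or.inl hd)
  letI : Fintype (P : Subgroup G) := Fintype.ofFinite _
  letI : Fintype (cen (P : Subgroup G)) := Fintype.ofFinite _
  letI : Fintype (Subgroup.center G) := Fintype.ofFinite _
  obtain ⟨M, hM⟩ := exists_isPModular (Fact.out : p.Prime)
  rcases structure_cases D hM ζ hfaith hd (D.inf_center hnn) with
    ⟨a, ha, hA⟩ | ⟨ht, hH, a, ha, hS⟩
  · obtain ⟨ht2, hdeg⟩ := caseA_degree D (by omega) ζ hfaith hd hnn ha hA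
    refine Or.inl ⟨?_, Or.inr (by omega), ht2⟩
    obtain ⟨R, hR, -, -⟩ := exists_rep ζ hfaith
    exact CfsgLib.SmallRep.central_quotient_psl (f := charDegree (ζ : G → ℂ)) (by omega) D.order
      D.sq_not_dvd R hR (by rwa [D.zpowers])
  · have hdeg := hS.degree D.A ha
    rcases Nat.lt_or_ge t 3 with ht3 | ht3
    · obtain rfl : t = 2 := by omega
      obtain ⟨h1, h2⟩ := caseB_two D hp11 ζ hfaith hnn hH ha hS
      exact Or.inl ⟨h2, Or.inl h1, rfl⟩
    · refine Or.inr (Or.inr ⟨hdeg, ht3, ?_⟩)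
      rcases bigT hp11 _ G rfl P x e t D ζ hfaith hnn hH a ha hS ht3 (by omega) with h | ⟨-, h1, h2⟩
      · exact Or.inl h
      · exact Or.inr ⟨h1, h2⟩

theorem conj_xp_iff (D : Data P x e t) {a b : ZMod p} (ha : a ≠ 0) :
    (∃ g : G, g * xp x a * g⁻¹ = xp x b) ↔ b / a ∈ rts p e := by
  constructor
  · rintro ⟨g, hg⟩
    have hne : xp x a ≠ 1 := fun h => ha (D.xp_inj (h.trans xp_zero.symm))
    have hn := D.setup.norm_eq (D.xp_mem a) hne (g := g) (by rw [hg]; exact D.xp_mem b)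
    obtain ⟨c, hc⟩ := D.exists_xp ((Subgroup.mem_normalizer_iff.1 hn x).1 D.mem)
    have h1 : g * xp x a * g⁻¹ = xp x (c * a) := by rw [xp_mul D.pow, ← hc, conj_pow]; rfl
    rw [← D.xp_inj (h1.symm.trans hg), mul_div_cancel_right₀ _ ha]
    exact (D.exps c).2 ⟨g, hn, hc⟩
  · intro h
    obtain ⟨g, -, hg⟩ := (D.exps _).1 h
    refine ⟨g, ?_⟩
    conv_rhs => rw [← div_mul_cancel₀ b ha, xp_mul D.pow, ← hg, conj_pow]
    rfl

/-- The number of classes of elements of order `p`. -/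
theorem card_classes (D : Data P x e t) :
    Nat.card {c : ConjClasses G // ∃ g : G, ConjClasses.mk g = c ∧ orderOf g = p} = t := by
  classical
  set T := (univ.erase (0 : ZMod p)).image fun a => ConjClasses.mk (xp x a) with hT
  have hmem : ∀ c : ConjClasses G, (∃ g : G, ConjClasses.mk g = c ∧ orderOf g = p) ↔ c ∈ T := by
    intro c
    constructor
    · rintro ⟨g, rfl, hg⟩
      obtain ⟨Q, hQ⟩ := (IsPGroup.of_card (n := 1) (by rw [Nat.card_zpowers, hg, pow_one]) :
        IsPGroup p (Subgroup.zpowers g)).exists_le_sylow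
      obtain ⟨h, hh⟩ := MulAction.exists_smul_eq G Q P
      have h1 : h * g * h⁻¹ ∈ (P : Subgroup G) := by
        rw [← hh, Sylow.coe_subgroup_smul]
        exact Subgroup.smul_mem_pointwise_smul g (MulAut.conj h) _ (hQ (Subgroup.mem_zpowers g))
      obtain ⟨a, ha⟩ := D.exists_xp h1
      refine mem_image.2 ⟨a, mem_erase.2 ⟨fun h0 => ?_, mem_univ _⟩, ?_⟩
      · rw [h0, xp_zero, conj_eq_one_iff] at ha
        rw [ha, orderOf_one] at hg
        exact (Fact.out : p.Prime).one_lt.ne hg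
      · exact (ConjClasses.mk_eq_mk_iff_isConj.2 (isConj_iff.2 ⟨h, ha⟩)).symm
    · intro hc
      obtain ⟨a, ha, rfl⟩ := mem_image.1 hc
      refine ⟨_, rfl, orderOf_eq_prime ?_ fun h => (mem_erase.1 ha).1 (D.xp_inj (h.trans xp_zero.symm))⟩
      rw [xp, ← pow_mul, mul_comm, pow_mul, D.pow, one_pow]
  rw [Nat.card_congr (Equiv.subtypeEquivRight hmem), Nat.card_eq_fintype_card, Fintype.card_coe]
  have h1 := Finset.card_eq_sum_card_image (fun a => ConjClasses.mk (xp x a)) (univ.erase (0 : ZMod p))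
  rw [← hT, Finset.sum_congr rfl fun c hc => show _ = e by
    obtain ⟨a, ha, rfl⟩ := mem_image.1 hc
    have ha0 := (mem_erase.1 ha).1
    rw [show ((univ.erase (0 : ZMod p)).filter fun b => ConjClasses.mk (xp x b) = ConjClasses.mk (xp x a)) =
        (rts p e).image (a * ·) by
      ext b
      rw [mem_filter, mem_coset ha0, mem_erase, eq_comm (a := ConjClasses.mk (xp x b)),
        ConjClasses.mk_eq_mk_iff_isConj, isConj_iff, conj_xp_iff D ha0]
      refine ⟨fun h => h.2, fun h => ⟨⟨fun h0 => ?_, mem_univ _⟩, h⟩⟩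
      rw [h0, zero_div] at h
      exact ne_zero_rts D.A.epos h rfl]
    exact card_coset D.A ha0, sum_const, smul_eq_mul, card_erase_of_mem (mem_univ _), card_univ,
    ZMod.card] at h1
  have := D.A.mul
  exact Nat.eq_of_mul_eq_mul_right (Nat.pos_of_ne_zero D.A.epos) (by omega)

end CfsgLib.FeitSmall
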