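import Cfsg.Agent.Lib.FeitSmall.Slots

/-!
# The principal family for odd `e`
-/

namespace CfsgLib.FeitSmall

open Cfsg CfsgLib.CharTheory CfsgLib.SmallSylow Finset
open scoped ComplexConjugate

set_option linter.unusedVariables false
set_option linter.unusedSectionVars false

universe u

variable {p : ℕ} [Fact p.Prime] {G : Type u} [Group G] [Fintype G] {P : Sylow p G} {x : G} {e t : ℕ}
  [NeZero e] {D : Data P x e t} {h : G} {a₀ : ZMod p}

/-- The trivial character. -/
noncomputable def oneC (G : Type u) [Group G] : IrrCharacter G := ⟨fun _ => 1, isIrrCharacter_one⟩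

theorem mult_oneC (z : ZMod p) : mult x (oneC G : G → ℂ) z = if z = 0 then 1 else 0 := by
  refine mult_eq (c := fun z => if z = 0 then (1 : ℂ) else 0) (fun k => ?_) z
  show (1 : ℂ) = _
  simp [AddChar.map_zero_eq_one]

theorem wt_oneC (u : ZMod e) : wt x h p (oneC G : G → ℂ) u = if u = 0 then 1 else 0 := by
  rw [wt_of_values _ 0 (fun j _ => by rw [zero_mul, AddChar.map_zero_eq_one]; rfl), mult_oneC, if_pos rfl,
    sub_self, mul_zero, zero_add]

theorem hasCen_oneC : HasCen (oneC G : G → ℂ) (1 : Subgroup.center G →* ℂ) := fun g z => (one_mul _).symm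

theorem exists_notMem_rts (A : Arith p e t) (ht : 2 ≤ t) : ∃ s : ZMod p, s ≠ 0 ∧ s ∉ rts p e := by
  by_contra hno
  push Not at hno
  have h1 : univ.erase (0 : ZMod p) ⊆ rts p e := fun s hs => hno s (mem_erase.1 hs).1
  have h2 := card_le_card h1
  rw [card_erase_of_mem (mem_univ _), card_univ, ZMod.card, A.card_rts] at h2
  have := A.mul
  have := Nat.mul_le_mul_right e ht
  have := Nat.pos_of_ne_zero A.epos
  omega

/-- A member of a family is not constant away from `0`. -/
theorem Fam.ne_of_const {w : Subgroup.center G →* ℂ} {F : ZMod p → IrrCharacter G} {n : ℕ} {ε : ℤ}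
    (hF : Fam D w F n ε) (ht : 2 ≤ t) {χ : IrrCharacter G}
    (hc : ∀ z z' : ZMod p, z ≠ 0 → z' ≠ 0 → mult x (χ : G → ℂ) z = mult x (χ : G → ℂ) z')
    {a : ZMod p} (ha : a ≠ 0) : χ ≠ F a := by
  rintro rfl
  obtain ⟨s, hs, hsH⟩ := exists_notMem_rts D.A ht
  have h1 := hc a (a * s) ha (mul_ne_zero ha hs)
  rw [hF.vals a ha, hF.vals a ha, div_self ha, if_pos one_mem_rts, mul_div_cancel_left₀ _ ha,
    if_neg hsH] at h1
  rcases hF.sgn with h' | h' <;> rw [h'] at h1 <;> norm_num at h1

/-- The residual configuration. -/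
def Residual (x h : G) (p : ℕ) [Fact p.Prime] (e : ℕ) [NeZero e] (ζ : IrrCharacter G)
    (X : IrrCharacter G) (b : ℕ) : Prop :=
  HasCen (X : G → ℂ) (1 : Subgroup.center G →* ℂ) ∧ X ≠ oneC G ∧
    (∀ g, (starRingEnd ℂ) ((X : G → ℂ) g) = (X : G → ℂ) g) ∧
    classInner (fun g => (ζ : G → ℂ) g * (starRingEnd ℂ) ((ζ : G → ℂ) g)) (X : G → ℂ) = 1 ∧
    wt x h p (X : G → ℂ) (0 : ZMod e) = 1 ∧
    ∀ z : ZMod p, mult x (X : G → ℂ) z = (b : ℂ) + (if z = 0 then 1 else 0)

/-- For odd `e`: either `e ≤ t - 3` or the residual configuration. -/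
theorem odd_cases (hh : Gen x e h a₀) (he : Odd e) (ht : 3 ≤ t) (hte : Even t)
    {w : Subgroup.center G →* ℂ} {F : ZMod p → IrrCharacter G} (h₁ : Fam D w F 1 (-1))
    (hwv : ∀ a : ZMod p, a ≠ 0 → (∀ u : ZMod e, wt x h p (F a : G → ℂ) u = if u = 0 then 1 else 0) ∧
      ∀ j : ZMod e, j ≠ 0 → (F a : G → ℂ) (hq h j) = psiE e ((0 : ZMod e) * j))
    {F0 : ZMod p → IrrCharacter G} {n : ℕ} {ε : ℤ}
    (h₀ : Fam D (1 : Subgroup.center G →* ℂ) F0 n ε) (hn : 1 ≤ n) :
    e + 3 ≤ t ∨ ∃ X b, Residual x h p e (F 1) X b := by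
  classical
  have A := D.A
  have h₂ := h₁.conj
  set Fc : ZMod p → IrrCharacter G := fun a =>
    ⟨fun g => (starRingEnd ℂ) ((F (-a) : G → ℂ) g), isIrrCharacter_conjChar (F (-a)).2⟩ with hFc
  have hc : Fam D (w * (starRingEnd ℂ).toMonoidHom.comp w) F0 n ε := by rw [hasCen_conj_mul]; exact h₀
  obtain ⟨K, hK⟩ := uniform h₁ h₂ hc
  have hvc : ∀ a : ZMod p, a ≠ 0 → ∀ j : ZMod e, j ≠ 0 →
      (Fc a : G → ℂ) (hq h j) = psiE e ((0 : ZMod e) * j) := fun a ha j hj => by
    show (starRingEnd ℂ) ((F (-a) : G → ℂ) (hq h j)) = _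
    rw [(hwv (-a) (neg_ne_zero.2 ha)).2 j hj, zero_mul, AddChar.map_zero_eq_one, map_one]
  let f : ZMod p → ZMod p → G → ℂ := fun a c g => (F a : G → ℂ) g * (Fc c : G → ℂ) g
  have hfc : ∀ a c, IsCharacter G (f a c) := fun a c =>
    isCharacter_mul (isCharacter_of_irr (F a).2) (isCharacter_of_irr (Fc c).2)
  have hfw : ∀ a c : ZMod p, a ≠ 0 → c ≠ 0 → HasCen (f a c) (1 : Subgroup.center G →* ℂ) :=
    fun a c ha hc' => by
      have := (h₁.cen a ha).mul (h₂.cen c hc')
      rwa [hasCen_conj_mul] at this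
  choose B hB using fun q : ZMod p × ZMod p × ZMod p =>
    classInner_char_nat (hfc q.1 q.2.1) (isCharacter_of_irr (F0 q.2.2).2)
  have hBK : ∀ a c z : ZMod p, a ≠ 0 → c ≠ 0 → z ≠ 0 →
      ε * (B (a, c, z) : ℤ) = K + cc p e a c z := by
    intro a c z ha hc' hz
    have h1 := hK a c z ha hc' hz
    rw [show classInner (fun g => (F a : G → ℂ) g * (Fc c : G → ℂ) g) (F0 z : G → ℂ) = (B (a, c, z) : ℂ) from
      hB (a, c, z)] at h1
    exact_mod_cast h1
  choose nw hnw using fun u : ZMod e => hh.wt_nat D (isCharacter_of_irr (F0 1).2) u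
  have hnsum : ∑ u, nw u = n := by
    have h1 := sum_wt (x := x) (h := h) (p := p) (e := e) (F0 1 : G → ℂ)
    rw [h₀.vals 1 one_ne_zero, if_neg (zero_div_notMem A 1), mul_zero, add_zero,
      Finset.sum_congr rfl fun u _ => hnw u] at h1
    exact_mod_cast h1
  have hW : ∀ a c : ZMod p, a ≠ 0 → c ≠ 0 → ∀ u : ZMod e, wt x h p (f a c) u =
      ((t - 2 + (if -c / a ∈ rts p e then 1 else 0) + (if u = 0 then 1 else 0) : ℕ) : ℂ) := by
    intro a c ha hc' u
    have h1 := prod_wt (x := x) (h := h) A (show 2 ≤ t by omega) ha hc' (h₁.shape ha) (h₂.shape hc')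
      (hwv a ha).2 (hvc c hc') u
    rw [add_zero] at h1
    exact h1
  have hone_inner : classInner (f 1 (-1)) (oneC G : G → ℂ) = 1 := by
    rw [← classInner_irr_self (F 1).2]
    simp only [classInner, f, Fc, neg_neg]
    congr 1
    refine Finset.sum_congr rfl fun g _ => ?_
    show _ * (starRingEnd ℂ) (1 : ℂ) = _
    rw [map_one, mul_one]
  have hone_fam : ∀ a, a ≠ 0 → oneC G ≠ F0 a := fun a ha =>
    h₀.ne_of_const (by omega) (fun z z' hz hz' => by rw [mult_oneC, mult_oneC, if_neg hz, if_neg hz']) ha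
  have hd1 : -(-1 : ZMod p) / 1 ∈ rts p e := by rw [neg_neg, div_one]; exact one_mem_rts
  have hdiagslot : ∀ u : ZMod e,
      (∑ z ∈ univ.erase (0 : ZMod p), B (1, -1, z)) * nw u + e * (if u = 0 then 1 else 0) ≤
        e * (t - 1 + (if u = 0 then 1 else 0)) := by
    intro u
    have hW' := hW 1 (-1) one_ne_zero (neg_ne_zero.2 one_ne_zero) u
    rw [if_pos hd1, show t - 2 + 1 = t - 1 by omega] at hW'
    have h1 := h₀.slot hh (hfc 1 (-1)) u (fun z => B (1, -1, z)) (fun z _ => hB (1, -1, z)) (hnw u) hW'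
      {oneC G} (fun _ => 1) (fun _ => if u = 0 then 1 else 0)
      (fun χ hχ a ha => by rw [mem_singleton.1 hχ]; exact hone_fam a ha)
      (fun χ hχ => by rw [mem_singleton.1 hχ, hone_inner, Nat.cast_one])
      (fun χ hχ => by rw [mem_singleton.1 hχ, wt_oneC]; split_ifs <;> simp)
    simpa using h1
  obtain ⟨u₁, -, hu₁⟩ := Finset.exists_ne_zero_of_sum_ne_zero (show ∑ u, nw u ≠ 0 by rw [hnsum]; omega)
  have hp1 : p - 1 = t * e := by have := A.mul; omega
  rcases h₀.sgn with hε | hε
  · -- the positive sign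
    subst hε
    obtain ⟨s, hs, hsH⟩ := exists_notMem_rts A (show 2 ≤ t by omega)
    -- the off-diagonal pair `(s, -1)`
    have hoff : - (-1 : ZMod p) / s ∉ rts p e := fun h' => hsH (by
      have := inv_mem_rts h'
      rwa [neg_neg, one_div, inv_inv] at this)
    have hsum : ∀ a c : ZMod p, a ≠ 0 → c ≠ 0 → (∑ z ∈ univ.erase (0 : ZMod p), (B (a, c, z) : ℤ)) =
        K * (t * e) + e * e - (if -c / a ∈ rts p e then (e : ℤ) else 0) := by
      intro a c ha hc'
      rw [Finset.sum_congr rfl fun z hz => show (B (a, c, z) : ℤ) = K + cc p e a c z by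
        have := hBK a c z ha hc' (mem_erase.1 hz).1; rwa [one_mul] at this,
        Finset.sum_add_distrib, sum_const, card_erase_of_mem (mem_univ _), card_univ, ZMod.card, hp1,
        nsmul_eq_mul]
      have h2 : ((∑ z ∈ univ.erase (0 : ZMod p), cc p e a c z : ℕ) : ℤ) +
          ((if -c / a ∈ rts p e then e else 0 : ℕ) : ℤ) = ((e * e : ℕ) : ℤ) := by
        exact_mod_cast congrArg (fun n : ℕ => (n : ℤ)) (sum_cc_erase A (a := a) (b := c) ha)
      push_cast at h2 ⊢
      linear_combination h2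
    have hWoff := hW s (-1) hs (neg_ne_zero.2 one_ne_zero)
    simp only [if_neg hoff, add_zero] at hWoff
    have hoffslot : ∀ u : ZMod e, (∑ z ∈ univ.erase (0 : ZMod p), B (s, -1, z)) * nw u ≤
        e * (t - 2 + (if u = 0 then 1 else 0)) := by
      intro u
      have h1 := h₀.slot hh (hfc s (-1)) u (fun z => B (s, -1, z)) (fun z _ => hB (s, -1, z)) (hnw u)
        (hWoff u) ∅ (fun _ => 0) (fun _ => 0) (by simp) (by simp) (by simp)
      simpa using h1
    have hSo := hsum s (-1) hs (neg_ne_zero.2 one_ne_zero)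
    rw [if_neg hoff, sub_zero] at hSo
    set So := ∑ z ∈ univ.erase (0 : ZMod p), B (s, -1, z) with hSodef
    have hSo' : (So : ℤ) = (e : ℤ) * (K * t + e) := by rw [hSodef]; push_cast; rw [hSo]; ring
    obtain ⟨r, hr⟩ : ∃ r : ℕ, (r : ℤ) = K * t + e := ⟨(K * t + e).toNat, Int.toNat_of_nonneg
      (by
        have : (0 : ℤ) ≤ (e : ℤ) * (K * t + e) := hSo' ▸ Int.natCast_nonneg So
        have hepos : (0 : ℤ) < (e : ℤ) := by exact_mod_cast Nat.pos_of_ne_zero A.epos
        nlinarith)⟩
    have hSr : So = e * r := by exact_mod_cast (show (So : ℤ) = ((e * r : ℕ) : ℤ) by push_cast; rw [hSo', hr])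
    have hsmall : r ≤ t - 2 → e + 3 ≤ t := by
      intro hr2
      rcases lt_or_ge K 0 with hK0 | hK0
      · exfalso
        obtain ⟨m, hm⟩ : ∃ m : ℕ, (m : ℤ) = -K := ⟨(-K).toNat, Int.toNat_of_nonneg (by omega)⟩
        refine lower_false A he (show 1 ≤ m by omega) (by omega) ?_ fun s' z hs' hz => ?_
        · have : (e : ℤ) = (r : ℤ) + (m : ℤ) * t := by rw [hr, hm]; ring
          have h' : e = r + m * t := by exact_mod_cast this
          omega
        · have h1 := hBK 1 s' z one_ne_zero hs' hz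
          omega
      · have h1 : (e : ℤ) ≤ r := by
          rw [hr]
          have : (0 : ℤ) ≤ K * t := mul_nonneg hK0 (Int.natCast_nonneg _)
          linarith
        obtain ⟨q, hq'⟩ := he
        obtain ⟨q', hq''⟩ := hte
        omega
    by_cases hex : ∃ u, u ≠ 0 ∧ nw u ≠ 0
    · left
      obtain ⟨u, hu, hnu⟩ := hex
      have h1 := hoffslot u
      rw [if_neg hu, add_zero, hSr, mul_assoc] at h1
      have h2 := Nat.le_of_mul_le_mul_left h1 (Nat.pos_of_ne_zero A.epos)
      exact hsmall ((Nat.le_mul_of_pos_right r (Nat.pos_of_ne_zero hnu)).trans h2)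
    push Not at hex
    have hn0 : nw 0 = n := by
      rw [← hnsum]
      exact (Finset.sum_eq_single 0 (fun u _ hu => hex u hu) (fun h' => absurd (mem_univ _) h')).symm
    have h1 := hoffslot 0
    rw [if_pos rfl, hSr, hn0, mul_assoc] at h1
    have h2 := Nat.le_of_mul_le_mul_left h1 (Nat.pos_of_ne_zero A.epos)
    rcases Nat.lt_or_ge r (t - 1) with hr2 | hr2
    · exact Or.inl (hsmall (by omega))
    right
    have hn1 : n = 1 := by
      by_contra hne
      have := Nat.mul_le_mul_left r (show 2 ≤ n by omega)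
      omega
    subst hn1
    rw [mul_one] at h2
    have hrt : r = t - 1 := by omega
    -- exact equations at weight zero
    choose M hM using fun χ : IrrCharacter G => classInner_char_nat (hfc 1 (-1)) (isCharacter_of_irr χ.2)
    choose M' hM' using fun χ : IrrCharacter G => classInner_char_nat (hfc s (-1)) (isCharacter_of_irr χ.2)
    choose V hV using fun χ : IrrCharacter G => hh.wt_nat D (isCharacter_of_irr χ.2) (0 : ZMod e)
    have hWd := hW 1 (-1) one_ne_zero (neg_ne_zero.2 one_ne_zero) 0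
    rw [if_pos hd1, if_pos rfl] at hWd
    have hWo := hWoff 0
    rw [if_pos rfl] at hWo
    have eqd := h₀.slot_eq hh (hfc 1 (-1)) 0 (fun z => B (1, -1, z)) (fun z _ => hB (1, -1, z))
      (hnw 0) hWd M V hM hV
    have eqo := h₀.slot_eq hh (hfc s (-1)) 0 (fun z => B (s, -1, z)) (fun z _ => hB (s, -1, z))
      (hnw 0) hWo M' V hM' hV
    rw [hn0, mul_one] at eqd eqo
    rw [← hSodef, hSr, ← Nat.mul_add] at eqo
    have heo := Nat.eq_of_mul_eq_mul_left (Nat.pos_of_ne_zero A.epos) eqo
    set R := univ \ (univ.erase (0 : ZMod p)).image F0 with hR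
    have hMV0 : ∀ χ ∈ R, M' χ * V χ = 0 := fun χ hχ =>
      Finset.sum_eq_zero_iff.1 (show ∑ χ ∈ R, M' χ * V χ = 0 by omega) χ hχ
    have hSd : ∑ z ∈ univ.erase (0 : ZMod p), B (1, -1, z) = e * (t - 2) := by
      have h3 := hsum 1 (-1) one_ne_zero (neg_ne_zero.2 one_ne_zero)
      rw [if_pos hd1] at h3
      have h4 : ((∑ z ∈ univ.erase (0 : ZMod p), B (1, -1, z) : ℕ) : ℤ) = ((e * (t - 2) : ℕ) : ℤ) := by
        have h6 : ((t - 2 : ℕ) : ℤ) = (r : ℤ) - 1 := by omega
        push_cast
        rw [h3, h6, hr]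
        ring
      exact_mod_cast h4
    rw [hSd, ← Nat.mul_add] at eqd
    have hed := Nat.eq_of_mul_eq_mul_left (Nat.pos_of_ne_zero A.epos) eqd
    have hone_mem : oneC G ∈ R := mem_sdiff.2 ⟨mem_univ _, fun h' => by
      obtain ⟨a, ha, hae⟩ := mem_image.1 h'
      exact hone_fam a (mem_erase.1 ha).1 hae.symm⟩
    have hone_MV : M (oneC G) * V (oneC G) = 1 := by
      have e1 := hone_inner
      rw [hM] at e1
      have e2 := wt_oneC (x := x) (h := h) (p := p) (G := G) (0 : ZMod e)
      rw [hV, if_pos rfl] at e2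
      rw [show M (oneC G) = 1 by exact_mod_cast e1, show V (oneC G) = 1 by exact_mod_cast e2]
    rw [← Finset.add_sum_erase _ _ hone_mem, hone_MV] at hed
    have hrest : ∑ χ ∈ R.erase (oneC G), M χ * V χ = 1 := by omega
    obtain ⟨X, hXm, hX⟩ := Finset.exists_ne_zero_of_sum_ne_zero
      (show ∑ χ ∈ R.erase (oneC G), M χ * V χ ≠ 0 by omega)
    have hX1 : M X * V X = 1 := by
      have := Finset.single_le_sum (f := fun χ => M χ * V χ) (fun χ _ => Nat.zero_le _) hXm
      omega
    have huniq : ∀ Y ∈ R.erase (oneC G), M Y * V Y ≠ 0 → Y = X := by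
      intro Y hY hne
      by_contra hYX
      have h3 := Finset.sum_le_sum_of_subset (f := fun χ => M χ * V χ)
        (show ({X, Y} : Finset (IrrCharacter G)) ⊆ R.erase (oneC G) by
          intro q hq'; rcases mem_insert.1 hq' with rfl | hq''
          · exact hXm
          · rw [mem_singleton.1 hq'']; exact hY)
      rw [Finset.sum_pair (Ne.symm hYX), hrest] at h3
      omega
    obtain ⟨hXne, hXR⟩ := mem_erase.1 hXm
    have hMX : M X = 1 := (mul_eq_one.1 hX1).1
    have hVX : V X = 1 := (mul_eq_one.1 hX1).2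
    have hXcen : HasCen (X : G → ℂ) (1 : Subgroup.center G →* ℂ) :=
      (hfw 1 (-1) one_ne_zero (neg_ne_zero.2 one_ne_zero)).of_inner X (by rw [hM, hMX]; simp)
    have hXfam : ∀ a, a ≠ 0 → X ≠ F0 a := fun a ha h' => (mem_sdiff.1 hXR).2
      (mem_image.2 ⟨a, mem_erase.2 ⟨ha, mem_univ _⟩, h'.symm⟩)
    have hconst := h₀.others X hXcen hXfam
    obtain ⟨b, hb⟩ := D.mult_nat (isCharacter_of_irr X.2) (1 : ZMod p)
    set δ : ℂ := mult x (X : G → ℂ) (0 : ZMod p) - b with hδdef
    have hmX : ∀ z : ZMod p, mult x (X : G → ℂ) z = (b : ℂ) + δ * (if z = 0 then 1 else 0) := by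
      intro z
      split_ifs with hz
      · subst hz; rw [hδdef]; ring
      · rw [hconst z 1 hz one_ne_zero, hb]; ring
    -- the difference at zero
    set g₁ : G → ℂ := fun g => (X : G → ℂ) g * (F 1 : G → ℂ) g with hg₁
    have hg₁w : HasCen g₁ w := by
      have := hXcen.mul (h₁.cen 1 one_ne_zero)
      rwa [one_mul] at this
    have hco := h₁.coef (isClassFunction_char (isCharacter_mul (isCharacter_of_irr X.2)
      (isCharacter_of_irr (F 1).2))) hg₁w one_ne_zero hs
    have hmg : ∀ z, mult x g₁ z = (b : ℂ) * ((p : ℂ) - e) +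
        δ * (1 - (if z ∈ rts p e then 1 else 0)) := by
      intro z
      rw [hg₁, mult_mul]
      have e1 : ∀ y : ZMod p, mult x (X : G → ℂ) y * mult x (F 1 : G → ℂ) (z - y) =
          (b : ℂ) * (1 - (if z - y ∈ rts p e then 1 else 0)) +
            (if y = 0 then δ * (1 - (if z ∈ rts p e then 1 else 0)) else 0) := by
        intro y
        rw [hmX, h₁.vals 1 one_ne_zero, div_one]
        rcases eq_or_ne y 0 with rfl | hy
        · rw [if_pos rfl, if_pos rfl, sub_zero]; push_cast; ring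
        · rw [if_neg hy, if_neg hy]; push_cast; ring
      rw [Finset.sum_congr rfl fun y _ => e1 y, Finset.sum_add_distrib, Finset.sum_ite_eq',
        if_pos (mem_univ _), ← Finset.mul_sum, Finset.sum_sub_distrib, sum_const, card_univ, ZMod.card,
        Fintype.sum_equiv (Equiv.subLeft z) (fun y => if z - y ∈ rts p e then (1 : ℂ) else 0)
          (fun y => if y ∈ rts p e then (1 : ℂ) else 0) (fun y => rfl),
        Finset.sum_boole, show (univ.filter fun y => y ∈ rts p e) = rts p e by ext; simp, A.card_rts,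
        nsmul_eq_mul, mul_one]
    have hrot : ∀ a : ZMod p, classInner g₁ (F a : G → ℂ) = classInner (f a (-1)) (X : G → ℂ) := by
      intro a
      show _ = classInner (fun g => (F a : G → ℂ) g * (Fc (-1) : G → ℂ) g) (X : G → ℂ)
      rw [inner_rot (isCharacter_of_irr (F a).2) (isCharacter_of_irr (Fc (-1)).2) (isCharacter_of_irr X.2)]
      congr 1
      funext g
      simp only [g₁, Fc, neg_neg, Complex.conj_conj]
    have hM0 : M' X = 0 := by
      rcases Nat.mul_eq_zero.1 (hMV0 X hXR) with h' | h'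
      · exact h'
      · omega
    rw [show ((X : G → ℂ) * (F 1 : G → ℂ)) = g₁ from rfl] at hco
    rw [hmg, hmg, if_pos one_mem_rts, if_neg hsH, hrot, hrot, hM, hM', hMX, hM0] at hco
    have hδ1 : δ = 1 := by push_cast at hco; linear_combination -hco
    refine ⟨X, b, hXcen, hXne, ?_, ?_, by rw [hV, hVX, Nat.cast_one], fun z => by rw [hmX, hδ1, one_mul]⟩
    · -- reality
      intro g
      let X' : IrrCharacter G := ⟨fun g => (starRingEnd ℂ) ((X : G → ℂ) g), isIrrCharacter_conjChar X.2⟩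
      suffices X' = X from congrFun (congrArg Subtype.val this) g
      have hM2 : M X' = M X := by
        have e1 : classInner (f 1 (-1)) (X' : G → ℂ) = (starRingEnd ℂ) (classInner (f 1 (-1)) (X : G → ℂ)) := by
          simp only [classInner, map_mul, map_sum, map_inv₀, map_natCast, Complex.conj_conj, f, Fc, neg_neg, X']
          congr 1
          exact Finset.sum_congr rfl fun g _ => by ring
        rw [hM, hM, map_natCast] at e1
        exact_mod_cast e1
      have hV2 : V X' = V X := by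
        have e1 : wt x h p (X' : G → ℂ) (0 : ZMod e) = (starRingEnd ℂ) (wt x h p (X : G → ℂ) (0 : ZMod e)) := by
          simp only [wt, map_mul, map_add, map_sum, map_inv₀, map_natCast, zero_mul, neg_zero,
            AddChar.map_zero_eq_one, map_one, mul_one, X', mult_conj]
        rw [hV, hV, map_natCast] at e1
        exact_mod_cast e1
      refine huniq X' (mem_erase.2 ⟨fun h' => hXne ?_, mem_sdiff.2 ⟨mem_univ _, fun h' => ?_⟩⟩) (by
        rw [hM2, hV2, hX1]; exact one_ne_zero)
      · refine Subtype.ext (funext fun g => (starRingEnd ℂ).injective ?_)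
        show (X' : G → ℂ) g = (starRingEnd ℂ) (1 : ℂ)
        rw [h', map_one]; rfl
      · obtain ⟨a, ha, hae⟩ := mem_image.1 h'
        refine h₀.ne_of_const (by omega) (fun z z' hz hz' => ?_) (mem_erase.1 ha).1 hae.symm
        simp only [X', mult_conj]
        rw [hconst (-z) (-z') (neg_ne_zero.2 hz) (neg_ne_zero.2 hz')]
    · rw [← hMX] at hMX
      have := hM X
      rw [(mul_eq_one.1 hX1).1, Nat.cast_one] at this
      rw [← this]
      simp only [f, Fc, neg_neg]
  · -- the negative sign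
    exfalso
    subst hε
    obtain ⟨U, hU⟩ : ∃ U : ℕ, (U : ℤ) = -K := ⟨(-K).toNat, Int.toNat_of_nonneg (by
      have := hBK 1 1 1 one_ne_zero one_ne_zero one_ne_zero; omega)⟩
    have hBU : ∀ c z : ZMod p, c ≠ 0 → z ≠ 0 → B (1, c, z) + cc p e 1 c z = U := fun c z hc' hz => by
      have := hBK 1 c z one_ne_zero hc' hz; omega
    have h2 := sum_sub_cc A 1 (-1) one_ne_zero U (fun z => B (1, -1, z))
      fun z hz => hBU (-1) z (neg_ne_zero.2 one_ne_zero) hz
    rw [if_pos hd1] at h2
    have h1 := hdiagslot u₁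
    rw [Nat.mul_add] at h1
    have h3 : (∑ z ∈ univ.erase (0 : ZMod p), B (1, -1, z)) ≤
        (∑ z ∈ univ.erase (0 : ZMod p), B (1, -1, z)) * nw u₁ :=
      Nat.le_mul_of_pos_right _ (Nat.pos_of_ne_zero hu₁)
    have h4 : (U * t + 1) * e ≤ (e + (t - 1)) * e := by
      rw [add_mul, add_mul, one_mul, mul_assoc, mul_comm (t - 1)]
      omega
    exact upper_false A he hte (Nat.le_of_mul_le_mul_right h4 (Nat.pos_of_ne_zero A.epos))
      fun s' z hs' hz => by have := hBU s' z hs' hz; omega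

end CfsgLib.FeitSmall
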