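import Cfsg.Agent.Lib.FeitSmall.TwoClass
import Cfsg.Agent.Lib.CharTheory.Clifford
import Cfsg.Agent.Lib.CharTheory.SmallDegreeNormal

/-!
# Small images and restriction to a normal subgroup containing the Sylow subgroup
-/

namespace CfsgLib.FeitSmall

open Cfsg CfsgLib.Blocks CfsgLib.Blocks.DefectOne CfsgLib.CharTheory CfsgLib.CharTheory.SmallDegree
open CfsgLib.SmallSylow Finset

set_option linter.unusedVariables false
set_option linter.style.haveILetI false
set_option linter.unusedSectionVars false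

universe u

variable {p : ℕ} [Fact p.Prime] {G : Type u} [Group G] [Fintype G]

/-- In a representation of degree `k` with `2 k + 1 < p` the image of `x` generates a normal subgroup. -/
theorem normal_image {x : G} (hx : x ^ p = 1) (hsq : ¬ p ^ 2 ∣ Nat.card G) {k : ℕ} (hk : 2 * k + 1 < p)
    (R : Representation ℂ G (Fin k → ℂ)) (g : G) : ∃ i : ℤ,
      (MonoidHom.toHomUnits R) (g * x * g⁻¹) = (MonoidHom.toHomUnits R) x ^ i := by
  classical
  set ψ := MonoidHom.toHomUnits R with hψ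
  by_cases h1 : ψ x = 1
  · exact ⟨0, by simp [h1]⟩
  let Rr : Representation ℂ ψ.range (Fin k → ℂ) := (Units.coeHom _).comp ψ.range.subtype
  have hRr : Function.Injective Rr := fun a b h => Subtype.ext (Units.ext h)
  have ho : orderOf (⟨ψ x, MonoidHom.mem_range.2 ⟨x, rfl⟩⟩ : ψ.range) = p := by
    rw [← Subgroup.orderOf_coe]
    exact orderOf_eq_prime (by rw [← map_pow, hx, map_one]) h1
  have hn := CfsgLib.SmallRep.normal_of_small_degree hk ψ.range ⟨ψ x, MonoidHom.mem_range.2 ⟨x, rfl⟩⟩ ho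
    (fun h => hsq (h.trans (Subgroup.card_range_dvd ψ))) Rr hRr
  obtain ⟨i, hi⟩ := Subgroup.mem_zpowers_iff.1
    (hn.conj_mem _ (Subgroup.mem_zpowers _) ⟨ψ g, MonoidHom.mem_range.2 ⟨g, rfl⟩⟩)
  refine ⟨i, ?_⟩
  have h2 := congrArg Subtype.val hi
  simp only [Subgroup.coe_zpow, Subgroup.coe_mul, Subgroup.coe_inv] at h2
  rw [h2, map_mul, map_mul, map_inv]

theorem normal_image_commute {x : G} (hx : x ^ p = 1) (hsq : ¬ p ^ 2 ∣ Nat.card G) {k : ℕ}
    (hk : 2 * k + 1 < p) (R : Representation ℂ G (Fin k → ℂ)) (g : G) :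
    R (g * x * g⁻¹ * x * (g * x * g⁻¹)⁻¹ * x⁻¹) = 1 := by
  obtain ⟨i, hi⟩ := normal_image hx hsq hk R g
  set ψ := MonoidHom.toHomUnits R with hψ
  have h : ψ (g * x * g⁻¹ * x * (g * x * g⁻¹)⁻¹ * x⁻¹) = 1 := by
    simp only [map_mul ψ, map_inv ψ] at hi ⊢
    rw [hi, ((Commute.refl (ψ x)).zpow_left i).eq, mul_inv_cancel_right, mul_inv_cancel]
  exact congrArg Units.val h

/-- The restriction to a normal subgroup containing `x` is irreducible, and `P` is not normal there. -/
theorem restrict_irreducible {P : Sylow p G} {x : G} {e t : ℕ} (D : Data P x e t) (ζ : IrrCharacter G)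
    (hfaith : ∀ g : G, (ζ : G → ℂ) g = (ζ : G → ℂ) 1 → g = 1) (hnn : ¬ (P : Subgroup G).Normal)
    (hd : charDegree (ζ : G → ℂ) + 2 ≤ p) (hp2 : p ≠ 2) (L : Subgroup G) [hL : L.Normal] [Fintype L]
    (hPL : (P : Subgroup G) ≤ L) :
    IsIrrCharacter L (fun g : L => (ζ : G → ℂ) g) ∧ ¬ ((P : Subgroup G).subgroupOf L).Normal := by
  classical
  have hPn : ¬ ((P : Subgroup G).subgroupOf L).Normal := fun hn => hnn
    ⟨fun z hz g => conj_mem_of_normal Fact.out hL hPL hn D.setup.pgroup D.setup.sylow g z hz⟩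
  refine ⟨?_, hPn⟩
  set χ : L → ℂ := fun g => (ζ : G → ℂ) g with hχ
  have hχc : IsCharacter L χ := isCharacter_restrict (isCharacter_of_irr ζ.2) L
  have hχ1 : χ 1 = (charDegree (ζ : G → ℂ) : ℂ) := by
    rw [irr_charDegree_cast]; rfl
  obtain ⟨θ, hθ, hc⟩ := exists_constituent hχc (fun h => irr_one_ne_zero ζ (congrFun h 1))
  obtain ⟨c, hc'⟩ := classInner_char_nat hχc (isCharacter_of_irr hθ)
  have hcl := clifford L ζ.2 hθ hc
  have hdeg := clifford_degree L ζ.2 hθ hc
  rw [show (fun n : L => (ζ : G → ℂ) n) = χ from rfl, hc'] at hcl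
  rw [show (fun n : L => (ζ : G → ℂ) n) = χ from rfl, hc', ← irr_charDegree_cast,
    ← charDegree_cast (isCharacter_of_irr hθ)] at hdeg
  have hdN : charDegree (ζ : G → ℂ) = c * (inertia L θ).index * charDegree θ := by exact_mod_cast hdeg
  have hc0 : c ≠ 0 := fun h => hc (by rw [hc', h, Nat.cast_zero])
  by_cases hone : c * (inertia L θ).index = 1
  · obtain ⟨hc1, hi1⟩ := mul_eq_one.1 hone
    have hcard : (conjOrbit L θ).card = 1 := by rw [card_conjOrbit, hi1]
    obtain ⟨ψ, hψ⟩ := Finset.card_eq_one.1 hcard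
    have hθmem : θ ∈ conjOrbit L θ := (mem_conjOrbit L).2 ⟨1, conjNormFun_one L θ⟩
    rw [hψ, mem_singleton] at hθmem
    rw [hψ, Finset.sum_singleton, hc1, Nat.cast_one, one_smul, ← hθmem] at hcl
    rw [hcl]
    exact hθ
  exfalso
  have h2 : 2 ≤ c * (inertia L θ).index := by
    have : c * (inertia L θ).index ≠ 0 :=
      Nat.mul_ne_zero hc0 Subgroup.index_ne_zero_of_finite
    omega
  have hk : 2 * charDegree θ + 1 < p := by
    have := Nat.mul_le_mul_right (charDegree θ) h2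
    obtain ⟨q, hq⟩ := (Fact.out : p.Prime).odd_of_ne_two hp2
    omega
  apply hPn
  have hxL : x ∈ L := hPL D.mem
  have hkey : ∀ g : L, (g : G) * x * (g : G)⁻¹ ∈ (P : Subgroup G) := by
    intro g
    set y : L := g * ⟨x, hxL⟩ * g⁻¹ * ⟨x, hxL⟩ * (g * ⟨x, hxL⟩ * g⁻¹)⁻¹ * (⟨x, hxL⟩ : L)⁻¹ with hy
    have hy1 : ∀ ψ ∈ conjOrbit L θ, ψ y = ψ 1 := by
      intro ψ hψ
      obtain ⟨g₀, rfl⟩ := (mem_conjOrbit L).1 hψ
      obtain ⟨n, R, hR, hRχ⟩ := isIrr_conjNormFun L g₀ hθ
      have hn : n = charDegree θ := by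
        apply Nat.cast_injective (R := ℂ)
        rw [charDegree_cast (isCharacter_of_irr hθ), ← conjNormFun_apply_one L g₀ θ, ← hRχ, R.char_one,
          Module.finrank_fin_fun]
      have h1 := normal_image_commute (p := p) (x := (⟨x, hxL⟩ : L)) (Subtype.ext (by simpa using D.pow))
        (fun h => D.sq_not_dvd (h.trans L.card_subgroup_dvd_card)) (k := n) (by omega) R g
      rw [← hRχ]
      show LinearMap.trace ℂ _ (R y) = LinearMap.trace ℂ _ (R 1)
      rw [hy, h1, map_one R]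
    have hy2 : (y : G) = 1 := by
      refine hfaith _ ?_
      show χ y = χ 1
      rw [congrFun hcl y, congrFun hcl 1]
      simp only [Pi.smul_apply, Finset.sum_apply]
      congr 1
      exact Finset.sum_congr rfl hy1
    set z := (g : G) * x * (g : G)⁻¹ with hz
    have hzc : z * x * z⁻¹ * x⁻¹ = 1 := by
      rw [← hy2, hy, hz]
      push_cast
      rfl
    have hcom : z * x * z⁻¹ = x := mul_inv_eq_one.1 hzc
    obtain ⟨H, hH⟩ := exists_Compl D.setup
    obtain ⟨q, hq, w, hw, hzqw⟩ := hH.prod z (D.setup.free D.mem D.ne hcom)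
    have hzp : z ^ p = 1 := by rw [hz, conj_pow, D.pow, mul_one, mul_inv_cancel]
    have hw1 : w = 1 := by
      have h3 : w ^ p = 1 := by
        rw [hzqw, (commute_of hH hq hw).mul_pow, pow_card_of_mem D.hP hq, one_mul] at hzp
        exact hzp
      have h4 : ¬ p ∣ orderOf w := H_regular D.setup hH D.hP hw
      rcases (Nat.dvd_prime (Fact.out : p.Prime)).1 (orderOf_dvd_of_pow_eq_one h3) with h | h
      · exact orderOf_eq_one_iff.1 h
      · exact absurd (by rw [h]) h4
    rw [hzqw, hw1, mul_one]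
    exact hq
  refine ⟨fun z hz g => ?_⟩
  rw [Subgroup.mem_subgroupOf] at hz ⊢
  push_cast
  rw [← D.zpowers] at hz
  obtain ⟨i, hi⟩ := Subgroup.mem_zpowers_iff.1 hz
  rw [← hi, ← conj_zpow]
  exact (P : Subgroup G).zpow_mem (hkey g) i

/-- The centre of a normal subgroup with irreducible restriction is central. -/
theorem center_map_le (ζ : IrrCharacter G)
    (hfaith : ∀ g : G, (ζ : G → ℂ) g = (ζ : G → ℂ) 1 → g = 1) (L : Subgroup G) [Fintype L]
    (hirr : IsIrrCharacter L (fun g : L => (ζ : G → ℂ) g)) :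
    (Subgroup.center L).map L.subtype ≤ Subgroup.center G := by
  obtain ⟨R, hR, -, hRχ⟩ := exists_rep ζ hfaith
  let RL : Representation ℂ L (Fin (charDegree (ζ : G → ℂ)) → ℂ) := R.comp L.subtype
  obtain ⟨m, R₁, hR₁, hR₁χ⟩ := hirr
  have hmeq : RL.character = fun g : L => (ζ : G → ℂ) g := by
    funext g; show R.character (g : G) = _; rw [hRχ]
  obtain ⟨E⟩ := nonempty_equiv_of_character_eq R₁ RL (hR₁χ.trans hmeq.symm)
  haveI := hR₁
  rintro _ ⟨z, hz, rfl⟩
  obtain ⟨ω, hω⟩ := exists_scalar_of_mem_center R₁ hz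
  rw [Subgroup.mem_center_iff]
  intro g
  refine hR ?_
  have hsc : RL z = ω • (1 : Module.End ℂ _) := by
    refine LinearMap.ext fun v => ?_
    obtain ⟨v, rfl⟩ := E.toLinearEquiv.surjective v
    have h1 := E.toIntertwiningMap.isIntertwining' z
    have h2 := LinearMap.congr_fun h1 v
    simp only [LinearMap.comp_apply] at h2
    rw [hω] at h2
    simp only [LinearMap.smul_apply, LinearMap.id_apply, map_smul] at h2
    exact h2.symm
  have hsc' : R (L.subtype z) = ω • (1 : Module.End ℂ _) := hsc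
  rw [map_mul, map_mul, hsc', mul_smul_comm, smul_mul_assoc, mul_one, one_mul]

end CfsgLib.FeitSmall
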