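import Cfsg.Agent.Lib.FeitSmall.Residual
import Cfsg.Agent.Lib.FeitSmall.Restrict
import Cfsg.Agent.Lib.CharTheory.DetOrbit
import Cfsg.Agent.Lib.CharTheory.PowerMap
import Cfsg.Agent.Lib.Blocks.Vanishing

/-!
# Perfect groups in the second case
-/

namespace CfsgLib.FeitSmall

open Cfsg CfsgLib.Blocks CfsgLib.Blocks.DefectOne CfsgLib.CharTheory CfsgLib.CharTheory.SmallDegree
open CfsgLib.SmallSylow Finset
open scoped ComplexConjugate commutatorElement

set_option linter.unusedVariables false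
set_option linter.style.haveILetI false
set_option linter.unusedSectionVars false

universe u

variable {p : ℕ} [Fact p.Prime] {G : Type u} [Group G] [Fintype G] {P : Sylow p G} {x : G} {e t : ℕ}

/-- Determinants are trivial in a perfect group. -/
theorem det_eq_one_of_perfect (hG : commutator G = ⊤) {k : ℕ} (R : Representation ℂ G (Fin k → ℂ))
    (g : G) : LinearMap.det (R g) = 1 := by
  have hle : commutator G ≤ (detHom R).ker := Abelianization.commutator_subset_ker _
  have h : detHom R g = 1 := MonoidHom.mem_ker.1 (hle (hG ▸ Subgroup.mem_top g))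
  rw [← coe_detHom, h, Units.val_one]

/-- In a perfect group the order of the centre divides a faithful irreducible degree. -/
theorem card_center_dvd (hG : commutator G = ⊤) (ζ : IrrCharacter G)
    (hfaith : ∀ g : G, (ζ : G → ℂ) g = (ζ : G → ℂ) 1 → g = 1) :
    Nat.card (Subgroup.center G) ∣ charDegree (ζ : G → ℂ) := by
  classical
  obtain ⟨R, hR, hirr, hRχ⟩ := exists_rep ζ hfaith
  choose c hc using fun z : Subgroup.center G => @exists_scalar_of_mem_center _ _ _ _ _ _ _ R hirr _ z.2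
  revert R
  generalize hd : charDegree (ζ : G → ℂ) = d
  intro R hR hirr hRχ hc
  have hd0 : d ≠ 0 := fun h0 => irr_one_ne_zero ζ (by rw [← irr_charDegree_cast, hd, h0, Nat.cast_zero])
  have hcd : ∀ z, c z ^ d = 1 := fun z => by
    have h1 := det_eq_one_of_perfect hG R (z : G)
    rwa [hc, LinearMap.det_smul, LinearMap.det_id, mul_one, Module.finrank_fin_fun] at h1
  have hinj : Function.Injective c := fun a b hab =>
    Subtype.ext (hR (by rw [hc, hc, hab]))
  let φ : Subgroup.center G →* ℂˣ := MonoidHom.toHomUnits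
    { toFun := c
      map_one' := by
        have h1 := congrArg (LinearMap.trace ℂ (Fin d → ℂ)) ((hc 1).symm.trans (map_one R))
        rw [map_smul, LinearMap.trace_id, Module.End.one_eq_id, LinearMap.trace_id, smul_eq_mul,
          Module.finrank_fin_fun] at h1
        exact mul_right_cancel₀ (Nat.cast_ne_zero.2 hd0) (h1.trans (one_mul _).symm)
      map_mul' := fun a b => by
        have h1 : R ((a * b : Subgroup.center G) : G) = R a * R b := map_mul R _ _
        rw [hc, hc, hc, smul_mul_smul_comm] at h1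
        have h2 := congrArg (LinearMap.trace ℂ (Fin d → ℂ)) h1
        rw [map_smul, map_smul, ← Module.End.one_eq_id, one_mul, LinearMap.trace_one,
          smul_eq_mul, smul_eq_mul] at h2
        exact mul_right_cancel₀ (by rw [Module.finrank_fin_fun]; exact Nat.cast_ne_zero.2 hd0) h2 }
  have hφ : Function.Injective φ := fun a b hab => hinj (congrArg Units.val hab)
  haveI : NeZero d := ⟨hd0⟩
  have hle : φ.range ≤ rootsOfUnity d ℂ := by
    rintro _ ⟨z, rfl⟩
    rw [mem_rootsOfUnity']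
    exact hcd z
  rw [Nat.card_congr (MonoidHom.ofInjective hφ).toEquiv, ← Complex.card_rootsOfUnity d]
  exact Subgroup.card_dvd_of_le hle

theorem psiE_sum [NeZero e] (s : Finset (ZMod e)) : psiE e (∑ u ∈ s, u) = ∏ u ∈ s, psiE e u := by
  induction s using Finset.induction_on with
  | empty => rw [Finset.sum_empty, Finset.prod_empty, AddChar.map_zero_eq_one]
  | insert u s hu ih => rw [Finset.sum_insert hu, Finset.prod_insert hu, AddChar.map_add_eq_mul, ih]

theorem conj_pow_xp (D : Data P x e t) {n : G} {a : ZMod p} (hn : n * x * n⁻¹ = xp x a) (k : ℕ) :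
    n ^ k * x * (n ^ k)⁻¹ = xp x (a ^ k) := by
  induction k with
  | zero => rw [pow_zero, pow_zero, xp_one, one_mul, inv_one, mul_one]
  | succ k ih =>
    rw [pow_succ', _root_.mul_inv_rev,
      show n * n ^ k * x * ((n ^ k)⁻¹ * n⁻¹) = n * (n ^ k * x * (n ^ k)⁻¹) * n⁻¹ by group, ih, xp,
      ← conj_pow, hn, pow_succ', xp_mul D.pow]

/-- An element inducing all the induced exponents, of order dividing `e`. -/
theorem exists_gen (D : Data P x e t) (hH : Compl (P : Subgroup G) (Subgroup.center G))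
    (hco : e.Coprime (p * Nat.card (Subgroup.center G))) : ∃ (h : G) (a₀ : ZMod p), Gen x e h a₀ := by
  haveI : NeZero e := ⟨D.A.epos⟩
  obtain ⟨a₀, ha₀⟩ := D.A.exists_root
  obtain ⟨n, -, hn⟩ := (D.exps a₀).1 (mem_rts.2 ha₀.pow_eq_one)
  have hne : n ^ e * x * (n ^ e)⁻¹ = x := by rw [conj_pow_xp D hn, ha₀.pow_eq_one, xp_one]
  obtain ⟨q, hq, z, hz, hqz⟩ := hH.prod _ (D.setup.free D.mem D.ne hne)
  have hpow : (n ^ e) ^ (p * Nat.card (Subgroup.center G)) = 1 := by
    have hzpow : z ^ Nat.card (Subgroup.center G) = 1 :=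
      congrArg Subtype.val (pow_card_eq_one' (x := (⟨z, hz⟩ : Subgroup.center G)))
    rw [hqz, (commute_of hH hq hz).mul_pow, pow_mul, pow_card_of_mem D.hP hq, one_pow, one_mul,
      mul_comm p, pow_mul, hzpow, one_pow]
  obtain ⟨m, hm1, hm2⟩ := Nat.chineseRemainder hco 1 0
  obtain ⟨k, hk⟩ := Nat.modEq_zero_iff_dvd.1 hm2
  refine ⟨n ^ m, a₀, ?_, ha₀, ?_⟩
  · rw [← pow_mul, mul_comm, pow_mul, hk, pow_mul, hpow, one_pow]
  · rw [conj_pow_xp D hn, pow_eq_pow_mod m ha₀.pow_eq_one, hm1, ← pow_eq_pow_mod 1 ha₀.pow_eq_one, pow_one]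

/-- A character of the special shape lies in the family of its central character. -/
theorem fam_of_shape {D : Data P x e t} (ht : 2 ≤ t) {χ : IrrCharacter G} {w : Subgroup.center G →* ℂ}
    (hw : HasCen (χ : G → ℂ) w) {a : ZMod p} (ha : a ≠ 0) (hS : Shape x e (χ : G → ℂ) a 1 (-1))
    {F : ZMod p → IrrCharacter G} {n : ℕ} {ε : ℤ} (hF : Fam D w F n ε) :
    n = 1 ∧ ε = -1 ∧ ∃ b, b ≠ 0 ∧ χ = F b := by
  haveI : NeZero e := ⟨D.A.epos⟩
  obtain ⟨s, hs, hsr⟩ := exists_notMem_rts D.A ht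
  by_cases hex : ∃ b, b ≠ 0 ∧ χ = F b
  · obtain ⟨b, hb, rfl⟩ := hex
    have h0 := hS (0 : ZMod p)
    rw [hF.vals b hb, if_neg (zero_div_notMem D.A b), if_neg (zero_div_notMem D.A a)] at h0
    have hn : n = 1 := by
      have : (n : ℂ) = ((1 : ℕ) : ℂ) := by simpa using h0
      exact_mod_cast this
    refine ⟨hn, ?_, b, hb, rfl⟩
    have ha' := hS a
    rw [hF.vals b hb, if_pos (show a / a ∈ rts p e by rw [div_self ha]; exact one_mem_rts), hn] at ha'
    rcases hF.sgn with h' | h'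
    · exfalso
      rw [h'] at ha'
      split_ifs at ha' <;> norm_num at ha'
    · exact h'
  · exfalso
    push Not at hex
    have h := hF.others χ hw hex a (a * s) ha (mul_ne_zero ha hs)
    rw [hS, hS, if_pos (show a / a ∈ rts p e by rw [div_self ha]; exact one_mem_rts),
      if_neg (show a * s / a ∉ rts p e by rwa [mul_div_cancel_left₀ _ ha])] at h
    norm_num at h

/-- In a perfect group the weight satisfies `2 α = 0`. -/
theorem weight_two [NeZero e] (D : Data P x e t) (hG : commutator G = ⊤) (he2 : 2 ≤ e) {h : G} {a₀ : ZMod p}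
    (hh : Gen x e h a₀) {w : Subgroup.center G →* ℂ} {F : ZMod p → IrrCharacter G}
    (hF : Fam D w F 1 (-1)) {α : ZMod e}
    (hv : ∀ j : ZMod e, j ≠ 0 → (F 1 : G → ℂ) (hq h j) = psiE e (α * j)) : α + α = 0 := by
  classical
  let φ : Multiplicative (ZMod e) →* G :=
    { toFun := fun c => hq h c.toAdd
      map_one' := hq_zero
      map_mul' := fun a b => hq_add hh _ _ }
  obtain ⟨k, R, -, hRχ⟩ := (F 1).2
  let lam : ZMod e → (Multiplicative (ZMod e) →* ℂˣ) := fun u => MonoidHom.toHomUnits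
    { toFun := fun c => psiE e (u * c.toAdd)
      map_one' := by rw [toAdd_one, mul_zero, AddChar.map_zero_eq_one]
      map_mul' := fun a b => by rw [toAdd_mul, mul_add, AddChar.map_add_eq_mul] }
  have hlam : ∀ u (c : Multiplicative (ZMod e)), ((lam u c : ℂˣ) : ℂ) = psiE e (u * c.toAdd) := fun _ _ => rfl
  have hd : (F 1 : G → ℂ) 1 = ((t - 1 : ℕ) : ℂ) * e + 1 := by
    rw [← sum_mult (x := x) (p := p) (F 1 : G → ℂ), Finset.sum_congr rfl fun z _ => hF.vals 1 one_ne_zero z,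
      Finset.sum_add_distrib, ← Finset.mul_sum, sum_ind D.A one_ne_zero, sum_const, card_univ, ZMod.card,
      nsmul_eq_mul, D.A.cast, Nat.cast_sub (Nat.one_le_iff_ne_zero.2 D.A.tpos)]
    push_cast
    ring
  have hsplit : (Representation.character (R.comp φ : Representation ℂ (Multiplicative (ZMod e)) (Fin k → ℂ))) =
      ((t - 1 : ℕ) : ℂ) • (∑ u : ZMod e, fun c => ((lam u c : ℂˣ) : ℂ)) +
        fun c => ((lam α c : ℂˣ) : ℂ) := by
    funext c
    show R.character (hq h c.toAdd) = _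
    rw [hRχ, Pi.add_apply, Pi.smul_apply, Finset.sum_apply, smul_eq_mul,
      Finset.sum_congr rfl fun u _ => hlam u c, hlam, sum_psiE]
    rcases eq_or_ne c.toAdd 0 with h0 | h0
    · rw [h0, hq_zero, if_pos rfl, mul_zero, AddChar.map_zero_eq_one]; exact hd
    · rw [if_neg h0, mul_zero, zero_add, hv _ h0]
  have hlc : ∀ u, IsCharacter (Multiplicative (ZMod e)) (fun c => ((lam u c : ℂˣ) : ℂ)) := fun u =>
    isCharacter_of_irr (isIrrCharacter_linear (lam u))
  have h1 : detChar (Representation.character (R.comp φ : Representation ℂ (Multiplicative (ZMod e)) (Fin k → ℂ)))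
      (Multiplicative.ofAdd (1 : ZMod e)) = 1 := by
    rw [detChar_eq]
    show ((detHom (R.comp φ : Representation ℂ (Multiplicative (ZMod e)) (Fin k → ℂ)) _ : ℂˣ) : ℂ) = 1
    rw [coe_detHom]
    exact det_eq_one_of_perfect hG R _
  rw [hsplit, detChar_add (isCharacter_nsmul (isCharacter_sum _ _ fun u _ => hlc u) _) (hlc α),
    detChar_nsmul (isCharacter_sum _ _ fun u _ => hlc u), detChar_sum _ _ (fun u _ => hlc u),
    detChar_linear] at h1
  simp only [Pi.mul_apply, Pi.pow_apply, Finset.prod_apply, detChar_linear] at h1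
  simp only [hlam, toAdd_ofAdd, mul_one] at h1
  rw [← psiE_sum, ← AddChar.map_nsmul_eq_pow, ← AddChar.map_add_eq_mul,
    ← AddChar.map_zero_eq_one (psiE e)] at h1
  have h2 : (t - 1) • (∑ u : ZMod e, u) + α = 0 := ZMod.injective_stdAddChar h1
  have h3 : (∑ u : ZMod e, u) + ∑ u : ZMod e, u = 0 := by
    conv_lhs => arg 2; rw [← Equiv.sum_comp (Equiv.neg _)]
    rw [← Finset.sum_add_distrib]
    simp
  rw [eq_neg_of_add_eq_zero_right h2, ← neg_add, ← smul_add, h3, smul_zero, neg_zero]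

/-- A family in a perfect group has a fixed point. -/
theorem zero_fixed_ne (D : Data P x e t) (hG : commutator G = ⊤) (he2 : 2 ≤ e) (ht : 3 ≤ t)
    {w : Subgroup.center G →* ℂ} {F : ZMod p → IrrCharacter G} {n : ℕ} {ε : ℤ}
    (hF : Fam D w F n ε) : 1 ≤ n := by
  classical
  rcases Nat.eq_zero_or_pos n with hn | hn
  swap; · exact hn
  exfalso
  subst hn
  obtain ⟨k, R, -, hRχ⟩ := (F 1).2
  have hk : (k : ℂ) = (ε : ℂ) * e := by
    rw [show (k : ℂ) = R.character 1 by rw [R.char_one, Module.finrank_fin_fun], hRχ,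
      ← sum_mult (x := x) (p := p) (F 1 : G → ℂ), Finset.sum_congr rfl fun z _ => hF.vals 1 one_ne_zero z,
      Finset.sum_add_distrib, ← Finset.mul_sum, sum_ind D.A one_ne_zero, Nat.cast_zero, sum_const_zero,
      zero_add]
  have hke : k = e := by
    rcases hF.sgn with h' | h' <;> rw [h'] at hk
    · simpa using hk
    · exfalso
      have h1 : ((k + e : ℕ) : ℂ) = ((0 : ℕ) : ℂ) := by
        rw [Nat.cast_add, hk, Nat.cast_zero, Int.cast_neg, Int.cast_one, neg_one_mul, neg_add_cancel]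
      have := Nat.cast_inj.1 h1
      omega
  have hA := D.A.mul
  have h3 : 3 * e ≤ t * e := Nat.mul_le_mul_right e ht
  set ψ := MonoidHom.toHomUnits R with hψ
  have himg : ∀ g : G, ∃ i : ℤ, ψ g * ψ x * (ψ g)⁻¹ = ψ x ^ i := fun g => by
    obtain ⟨i, hi⟩ := normal_image (p := p) D.pow D.sq_not_dvd (k := k) (by omega) R g
    exact ⟨i, by rw [← map_inv, ← map_mul, ← map_mul]; exact hi⟩
  choose i hi using himg
  have hiz : ∀ (g : G) (j : ℤ), ψ g * ψ x ^ j * (ψ g)⁻¹ = ψ x ^ (i g * j) := fun g j => by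
    rw [← conj_zpow, hi, ← zpow_mul]
  have hcomm : commutator G ≤ (Subgroup.centralizer {ψ x}).comap ψ := by
    rw [commutator_eq_closure, Subgroup.closure_le]
    rintro _ ⟨a, b, rfl⟩
    rw [SetLike.mem_coe, Subgroup.mem_comap, Subgroup.mem_centralizer_singleton_iff]
    have hco : ∀ c d : G, ψ c * (ψ d * ψ x * (ψ d)⁻¹) * (ψ c)⁻¹ = ψ x ^ (i c * i d) := fun c d => by
      rw [hi d, hiz c]
    have hsw : ψ (a⁻¹ * b⁻¹) * ψ x * (ψ (a⁻¹ * b⁻¹))⁻¹ = ψ (b⁻¹ * a⁻¹) * ψ x * (ψ (b⁻¹ * a⁻¹))⁻¹ := by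
      rw [map_mul, map_mul,
        show ψ a⁻¹ * ψ b⁻¹ * ψ x * (ψ a⁻¹ * ψ b⁻¹)⁻¹ = ψ a⁻¹ * (ψ b⁻¹ * ψ x * (ψ b⁻¹)⁻¹) * (ψ a⁻¹)⁻¹ by group,
        show ψ b⁻¹ * ψ a⁻¹ * ψ x * (ψ b⁻¹ * ψ a⁻¹)⁻¹ = ψ b⁻¹ * (ψ a⁻¹ * ψ x * (ψ a⁻¹)⁻¹) * (ψ b⁻¹)⁻¹ by group,
        hco, hco, mul_comm]
    rw [← mul_inv_eq_iff_eq_mul, commutatorElement_def,
      show a * b * a⁻¹ * b⁻¹ = a * b * (a⁻¹ * b⁻¹) by group, map_mul,
      show ψ (a * b) * ψ (a⁻¹ * b⁻¹) * ψ x * (ψ (a * b) * ψ (a⁻¹ * b⁻¹))⁻¹ =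
        ψ (a * b) * (ψ (a⁻¹ * b⁻¹) * ψ x * (ψ (a⁻¹ * b⁻¹))⁻¹) * (ψ (a * b))⁻¹ by group, hsw,
      show b⁻¹ * a⁻¹ = (a * b)⁻¹ by group, map_inv]
    group
  haveI : NeZero e := ⟨D.A.epos⟩
  obtain ⟨a₀, ha₀⟩ := D.A.exists_root
  obtain ⟨g, -, hg⟩ := (D.exps a₀).1 (mem_rts.2 ha₀.pow_eq_one)
  have hgc : ψ g * ψ x = ψ x * ψ g :=
    Subgroup.mem_centralizer_singleton_iff.1 (hcomm (hG ▸ Subgroup.mem_top g))
  have hgx : ψ (xp x a₀) = ψ x := by
    rw [← hg, map_mul, map_mul, hgc, map_inv, mul_inv_cancel_right]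
  have hψx : ψ x = 1 := by
    have h1 : ψ x ^ a₀.val = ψ x := by rw [← map_pow]; exact hgx
    have h2 : ψ x ^ p = 1 := by rw [← map_pow, D.pow, map_one]
    rcases (Nat.dvd_prime (Fact.out : p.Prime)).1 (orderOf_dvd_of_pow_eq_one h2) with h | h
    · exact orderOf_eq_one_iff.1 h
    · exfalso
      have h3 : (a₀.val : ℕ) % p = 1 % p := by
        have h4 := pow_eq_pow_iff_modEq.1 (h1.trans (pow_one _).symm)
        rwa [h] at h4
      exact ha₀.ne_one (by omega) (by
        rw [← ZMod.natCast_zmod_val a₀, (ZMod.natCast_eq_natCast_iff' _ 1 p).2 h3, Nat.cast_one])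
  have h0 := hF.vals 1 one_ne_zero (0 : ZMod p)
  rw [if_neg (zero_div_notMem D.A 1), Nat.cast_zero, zero_add, mul_zero] at h0
  have hconst : ∀ z : ZMod p, (F 1 : G → ℂ) (xp x z) = (k : ℂ) := fun z => by
    rw [← hRχ, Representation.character, show R (xp x z) = 1 from by
      have h5 : ψ (xp x z) = 1 := by rw [xp, map_pow, hψx, one_pow]
      exact congrArg Units.val h5, LinearMap.trace_one, Module.finrank_fin_fun]
  have h5 : mult x (F 1 : G → ℂ) (0 : ZMod p) = (k : ℂ) := by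
    rw [mult, Finset.sum_congr rfl fun z _ => by rw [hconst z, zero_mul, neg_zero, AddChar.map_zero_eq_one,
      mul_one], sum_const, card_univ, ZMod.card, nsmul_eq_mul,
      inv_mul_cancel_left₀ (Nat.cast_ne_zero.2 (Fact.out : p.Prime).ne_zero)]
  rw [h5, hke] at h0
  exact Nat.cast_ne_zero.2 D.A.epos h0

/-- The family over the square of the central character. -/
theorem exists_square [NeZero e] (D : Data P x e t) [Fintype (P : Subgroup G)]
    [Fintype (cen (P : Subgroup G))] [Fintype (Subgroup.center G)] {M : Ideal AlgInt} (hM : IsPModular p M)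
    (hH : Compl (P : Subgroup G) (Subgroup.center G)) (ht : 2 ≤ t) (he2 : 2 ≤ e)
    (hZ : Odd (Nat.card (Subgroup.center G))) {h : G} {a₀ : ZMod p} (hh : Gen x e h a₀)
    {w : Subgroup.center G →* ℂ} {F : ZMod p → IrrCharacter G} (hF : Fam D w F 1 (-1)) {α : ZMod e}
    (hα : α + α = 0) (hv : ∀ j : ZMod e, j ≠ 0 → (F 1 : G → ℂ) (hq h j) = psiE e (α * j)) :
    ∃ F2, Fam D (w * w) F2 1 (-1) ∧ ∀ u, wt x h p (F2 1 : G → ℂ) u = if u = α then 1 else 0 := by
  classical
  set Z := Nat.card (Subgroup.center G) with hZdef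
  set N := Nat.card G * Z * e * p with hNdef
  haveI : NeZero N := ⟨Nat.mul_ne_zero (Nat.mul_ne_zero (Nat.mul_ne_zero Nat.card_pos.ne' Nat.card_pos.ne')
    D.A.epos) (Fact.out : p.Prime).ne_zero⟩
  have hZN : Z ∣ N := Dvd.intro (Nat.card G * e * p) (by rw [hNdef]; ring)
  obtain ⟨u₂, hu₂⟩ := ZMod.unitsMap_surjective hZN (ZMod.unitOfCoprime 2 (Nat.coprime_two_left.2 hZ))
  set m := ((u₂ : (ZMod N)ˣ) : ZMod N).val with hm
  have hmN : m.Coprime N := ZMod.val_coe_unit_coprime u₂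
  have hmG : m.Coprime (Nat.card G) := hmN.coprime_dvd_right (Dvd.intro (Z * e * p) (by rw [hNdef]; ring))
  have hmZ : (m : ZMod Z) = 2 := by
    have h1 := congrArg (fun v : (ZMod Z)ˣ => (v : ZMod Z)) hu₂
    simp only [ZMod.unitsMap_val, ZMod.coe_unitOfCoprime] at h1
    rw [hm, ← Nat.cast_ofNat, ← h1, ← ZMod.cast_eq_val]
  have hmp : (m : ZMod p) ≠ 0 := by
    rw [Ne, ZMod.natCast_eq_zero_iff]
    intro h0
    exact (Fact.out : p.Prime).ne_one (Nat.eq_one_of_dvd_coprimes hmN h0 (Dvd.intro_left _ hNdef.symm))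
  have hme : (m : ZMod e).val.Coprime e ∧ m.Coprime e := by
    have h1 : m.Coprime e := hmN.coprime_dvd_right (Dvd.intro (Nat.card G * Z * p) (by rw [hNdef]; ring))
    refine ⟨?_, h1⟩
    rwa [ZMod.val_natCast, Nat.Coprime, Nat.gcd_comm, Nat.gcd_rec, Nat.mod_mod, ← Nat.gcd_rec,
      Nat.gcd_comm]
  set χ := powIrr hmG (F 1) with hχ
  have hcen : HasCen (χ : G → ℂ) (w * w) := by
    intro g z
    show (F 1 : G → ℂ) ((g * z) ^ m) = _ * (F 1 : G → ℂ) (g ^ m)
    rw [(show Commute g (z : G) from Subgroup.mem_center_iff.1 z.2 g).mul_pow,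
      ← SubmonoidClass.coe_pow, hF.cen 1 one_ne_zero (g ^ m) (z ^ m), map_pow, MonoidHom.mul_apply]
    have h1 : w z ^ Z = 1 := by rw [← map_pow, pow_card_eq_one', map_one]
    have h2 : m ≡ 2 [MOD Z] := (ZMod.natCast_eq_natCast_iff m 2 Z).1 (by rw [hmZ, Nat.cast_ofNat])
    rw [pow_eq_pow_mod m h1, h2, ← pow_eq_pow_mod 2 h1, pow_two]
  have hshape : Shape x e (χ : G → ℂ) (m : ZMod p) 1 (-1) := by
    intro z
    have h1 : mult x (χ : G → ℂ) z = mult x (F 1 : G → ℂ) (z / (m : ZMod p)) := by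
      refine mult_eq (c := fun z => mult x (F 1 : G → ℂ) (z / (m : ZMod p))) (fun k => ?_) z
      show (F 1 : G → ℂ) (xp x k ^ m) = _
      rw [xp, ← pow_mul, ← xp_natCast D.pow, Nat.cast_mul, ZMod.natCast_zmod_val,
        mult_expand (F 1 : G → ℂ) (k * (m : ZMod p))]
      refine Fintype.sum_equiv (Equiv.mulRight₀ (m : ZMod p) hmp) _ _ fun y => ?_
      rw [Equiv.mulRight₀_apply, mul_div_cancel_right₀ _ hmp]
      congr 2
      ring
    rw [h1, hF.vals 1 one_ne_zero, div_one]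
  obtain ⟨F2, n2, ε2, h2F⟩ := exists_fam D hM hH (w * w)
  obtain ⟨rfl, rfl, b, hb, hχb⟩ := fam_of_shape ht hcen hmp hshape h2F
  obtain ⟨α2, hα2⟩ := h2F.exists_weight hh
  refine ⟨F2, h2F, ?_⟩
  haveI : Fact (1 < e) := ⟨by omega⟩
  have h1 : (F 1 : G → ℂ) (hq h (1 : ZMod e) ^ m) = psiE e (α2 * 1) := by
    rw [← (hα2 b hb).2 1 one_ne_zero, ← hχb]; rfl
  have h2 : hq h (1 : ZMod e) ^ m = hq h (m : ZMod e) := by
    rw [hq, hq, ZMod.val_one, pow_one, ZMod.val_natCast, ← pow_eq_pow_mod m hh.pow]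
  have hm0 : (m : ZMod e) ≠ 0 := fun h0 => by
    have := hme.1
    rw [h0, ZMod.val_zero, Nat.coprime_zero_left] at this
    omega
  rw [h2, hv _ hm0] at h1
  have h3 : α * (m : ZMod e) = α2 := by simpa using ZMod.injective_stdAddChar h1
  have h4 : α * (m : ZMod e) = α := by
    rcases Nat.even_or_odd m with hev | hod
    · -- then `e` is odd
      obtain ⟨r, hr⟩ : Odd e := Nat.odd_iff.2 (by
        by_contra h0
        have h5 : 2 ∣ e := Nat.dvd_of_mod_eq_zero (by omega)
        exact absurd (Nat.eq_one_of_dvd_coprimes hme.2 hev.two_dvd h5) (by norm_num))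
      have h6 : α = 0 := by
        have h7 : (r + 1) • (α + α) = α := by
          rw [← two_nsmul, ← mul_nsmul, show 2 * (r + 1) = e + 1 by omega, add_nsmul, one_nsmul,
            nsmul_eq_mul, ZMod.natCast_self, zero_mul, zero_add]
        rw [← h7, hα, smul_zero]
      rw [h6, zero_mul]
    · obtain ⟨r, hr⟩ := hod
      rw [hr, Nat.cast_add, Nat.cast_mul, Nat.cast_one, Nat.cast_ofNat]
      linear_combination (r : ZMod e) * hα
  intro u
  rw [(hα2 1 one_ne_zero).1, ← h3, h4]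

/-- The second case in a perfect group with at least three classes. -/
theorem perfect_caseB [NeZero e] (D : Data P x e t) (hG : commutator G = ⊤) (hp2 : p ≠ 2) (he2 : 2 ≤ e) (ht : 3 ≤ t)
    (ζ : IrrCharacter G) (hfaith : ∀ g : G, (ζ : G → ℂ) g = (ζ : G → ℂ) 1 → g = 1)
    (hH : Compl (P : Subgroup G) (Subgroup.center G)) {a : ZMod p} (ha : a ≠ 0)
    (hS : Shape x e (ζ : G → ℂ) a 1 (-1)) :
    e = 2 ∨ (Odd e ∧ e + 3 ≤ t ∧ ¬ Odd (Nat.card (Subgroup.center G))) := by
  classical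
  letI : Fintype (P : Subgroup G) := Fintype.ofFinite _
  letI : Fintype (cen (P : Subgroup G)) := Fintype.ofFinite _
  letI : Fintype (Subgroup.center G) := Fintype.ofFinite _
  obtain ⟨M, hM⟩ := exists_isPModular (Fact.out : p.Prime)
  have hdeg := hS.degree D.A ha
  have hZd := card_center_dvd hG ζ hfaith
  have hA := D.A.mul
  have hep : e.Coprime p := ((Fact.out : p.Prime).coprime_iff_not_dvd.2 fun hd => by
    have := Nat.le_of_dvd (by omega) hd
    have := D.A.lt
    omega).symm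
  have hde : e.Coprime (charDegree (ζ : G → ℂ)) := by
    refine Nat.coprime_of_dvd' fun q hq hqe hqd => ?_
    have : q ∣ p := hdeg ▸ Nat.dvd_add hqd hqe
    exact hep ▸ Nat.dvd_gcd hqe this
  obtain ⟨h, a₀, hh⟩ := exists_gen D hH (hep.mul_right (hde.coprime_dvd_right hZd))
  obtain ⟨w, hw⟩ := exists_hasCen ζ
  obtain ⟨F, n, ε, hF⟩ := exists_fam D hM hH w
  obtain ⟨rfl, rfl, b, hb, hζb⟩ := fam_of_shape (by omega) hw ha hS hF
  obtain ⟨α, hα⟩ := hF.exists_weight hh
  have hα2 := weight_two D hG he2 hh hF (hα 1 one_ne_zero).2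
  rcases Nat.even_or_odd e with he | he
  · left
    by_contra hne
    have hodd : Odd (Nat.card (Subgroup.center G)) := by
      have hdodd : Odd (charDegree (ζ : G → ℂ)) := by
        have hpodd := (Fact.out : p.Prime).odd_of_ne_two hp2
        rw [← hdeg] at hpodd
        exact (Nat.odd_add.1 hpodd).2 he
      exact hdodd.of_dvd_nat hZd
    obtain ⟨F2, h2F, hw2⟩ := exists_square D hM hH (by omega) he2 hodd hh hF hα2 (hα 1 one_ne_zero).2
    obtain ⟨r, hr⟩ := he
    exact even_false hh hp2 ht ⟨r, hr⟩ (by omega) hF hα2 hα h2F hw2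
  · right
    have hα0 : α = 0 := by
      obtain ⟨r, hr⟩ := he
      have h7 : (r + 1) • (α + α) = α := by
        rw [← two_nsmul, ← mul_nsmul, show 2 * (r + 1) = e + 1 by omega, add_nsmul, one_nsmul,
          nsmul_eq_mul, ZMod.natCast_self, zero_mul, zero_add]
      rw [← h7, hα2, smul_zero]
    subst hα0
    have hte : Even t := by
      have hpodd := (Fact.out : p.Prime).odd_of_ne_two hp2
      rw [← hA] at hpodd
      have h1 : Even (t * e) := by
        rw [Nat.odd_add_one, Nat.not_odd_iff_even] at hpodd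
        exact hpodd
      rcases Nat.even_mul.1 h1 with h' | h'
      · exact h'
      · exact absurd h' (Nat.not_even_iff_odd.2 he)
    obtain ⟨F0, n0, ε0, h0F⟩ := exists_fam D hM hH (1 : Subgroup.center G →* ℂ)
    have hle : e + 3 ≤ t := by
      rcases odd_cases hh he ht hte hF hα h0F (zero_fixed_ne D hG he2 ht h0F) with h' | ⟨X, b', hres⟩
      · exact h'
      · exact (residual_false hh D hM hH he ht (hF.shape one_ne_zero) hres).elim
    refine ⟨he, hle, fun hodd => ?_⟩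
    obtain ⟨F2, h2F, hw2⟩ := exists_square D hM hH (by omega) he2 hodd hh hF hα2 (hα 1 one_ne_zero).2
    obtain ⟨r, hr⟩ := he
    exact sq_false hh hp2 ⟨r, hr⟩ (by omega) hle hF hα h2F hw2

end CfsgLib.FeitSmall
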