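import Cfsg.Agent.Lib.FeitSmall.Weights
import Cfsg.Agent.Lib.Blocks.Unramified

/-!
# A twisted sum of Gaussian periods modulo a power of `1 - ω`
-/

namespace CfsgLib.FeitSmall

open Cfsg CfsgLib.Blocks Finset Polynomial

set_option linter.unusedVariables false
set_option linter.style.haveILetI false
set_option linter.unusedSectionVars false

variable {p : ℕ} [Fact p.Prime] {e t : ℕ} [NeZero e] {a₀ : ZMod p} {M : Ideal AlgInt}

theorem rts_eq_image (A : Arith p e t) (ha : IsPrimitiveRoot a₀ e) :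
    rts p e = univ.image fun j : ZMod e => a₀ ^ j.val := by
  refine (Finset.eq_of_subset_of_card_le (fun z hz => ?_) ?_).symm
  · obtain ⟨j, -, rfl⟩ := mem_image.1 hz
    rw [mem_rts, ← pow_mul, mul_comm, pow_mul, ha.pow_eq_one, one_pow]
  · rw [A.card_rts, card_image_of_injective _ fun i j h =>
      ZMod.val_injective e (ha.pow_inj (ZMod.val_lt i) (ZMod.val_lt j) h), card_univ, ZMod.card]

theorem sum_rts_eq (A : Arith p e t) (ha : IsPrimitiveRoot a₀ e) {β : Type*} [AddCommMonoid β]
    (f : ZMod p → β) : ∑ a ∈ rts p e, f a = ∑ j : ZMod e, f (a₀ ^ j.val) := by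
  rw [rts_eq_image A ha, sum_image fun i _ j _ h =>
    ZMod.val_injective e (ha.pow_inj (ZMod.val_lt i) (ZMod.val_lt j) h)]

/-- The power sums of a cyclic group of roots of unity. -/
theorem sum_pow_val {R : Type*} [CommRing R] [IsDomain R] {b : R} (hb : IsPrimitiveRoot b e) (m : ℕ) :
    ∑ j : ZMod e, b ^ (m * j.val) = if e ∣ m then (e : R) else 0 := by
  rw [show ∑ j : ZMod e, b ^ (m * j.val) = ∑ i ∈ range e, (b ^ m) ^ i by
    simp only [← pow_mul]
    refine Finset.sum_nbij' (fun j => j.val) (fun i => (i : ZMod e)) (fun j _ => mem_range.2 j.val_lt)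
      (fun _ _ => mem_univ _) (fun j _ => ZMod.natCast_rightInverse j)
      (fun i hi => ZMod.val_cast_of_lt (mem_range.1 hi)) fun _ _ => rfl]
  split_ifs with h
  · simp [(hb.pow_eq_one_iff_dvd m).2 h]
  · have h1 := mul_geom_sum (b ^ m) e
    rw [← pow_mul, mul_comm m e, pow_mul, hb.pow_eq_one, one_pow, sub_self] at h1
    exact (mul_eq_zero.1 h1).resolve_left (sub_ne_zero.2 fun e1 => h ((hb.pow_eq_one_iff_dvd m).1 e1))

/-- `∑_{a^e=1} P (w a)` for a polynomial of degree at most `e`. -/
theorem sum_rts_eval (A : Arith p e t) (ha : IsPrimitiveRoot a₀ e) (P : (ZMod p)[X])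
    (hP : P.natDegree ≤ e) (w : ZMod p) :
    ∑ a ∈ rts p e, P.eval (w * a) = (e : ZMod p) * (P.coeff 0 + P.coeff e * w ^ e) := by
  simp only [eval_eq_sum_range' (Nat.lt_succ_of_le hP), sum_rts_eq A ha]
  rw [Finset.sum_comm, Finset.sum_congr rfl fun m _ => show
      ∑ j : ZMod e, P.coeff m * (w * a₀ ^ j.val) ^ m =
        P.coeff m * w ^ m * ∑ j : ZMod e, a₀ ^ (m * j.val) by
      rw [Finset.mul_sum]
      refine Finset.sum_congr rfl fun j _ => ?_
      rw [mul_pow, ← pow_mul, mul_comm j.val, mul_assoc]]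
  simp only [sum_pow_val ha]
  rw [← Finset.add_sum_erase (Finset.range (e + 1)) _ (mem_range.2 (Nat.succ_pos e)),
    ← Finset.add_sum_erase _ _ (show e ∈ (range (e + 1)).erase 0 from
      mem_erase.2 ⟨A.epos, mem_range.2 (Nat.lt_succ_self e)⟩),
    Finset.sum_eq_zero fun m hm => by
      obtain ⟨hme, hm0, hm'⟩ : m ≠ e ∧ m ≠ 0 ∧ m < e + 1 := by simpa [mem_erase] using hm
      rw [if_neg fun hd => hme (by have := Nat.le_of_dvd (Nat.pos_of_ne_zero hm0) hd; omega), mul_zero]]
  rw [if_pos (dvd_zero e), if_pos dvd_rfl]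
  ring

/-- The binomial coefficient as a polynomial function. -/
theorem choose_eq_eval (n : ℕ) (hn : n < p) (k : ZMod p) :
    ((k.val.choose n : ℕ) : ZMod p) = ((n.factorial : ZMod p))⁻¹ * (descPochhammer (ZMod p) n).eval k := by
  have hn0 : (n.factorial : ZMod p) ≠ 0 := by
    rw [Ne, ZMod.natCast_eq_zero_iff]
    exact fun h => not_le.2 hn ((Fact.out : p.Prime).dvd_factorial.1 h)
  have h1 : (descPochhammer (ZMod p) n).eval k = ((k.val.descFactorial n : ℕ) : ZMod p) := by
    conv_lhs => rw [← ZMod.natCast_zmod_val k]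
    exact descPochhammer_eval_eq_descFactorial (ZMod p) k.val n
  rw [h1, Nat.descFactorial_eq_factorial_mul_choose, Nat.cast_mul, inv_mul_cancel_left₀ hn0]

/-- The congruence for a Gaussian period in a ring where `p = 0` and `π ^ (e+1) = 0`. -/
theorem period_congr (A : Arith p e t) (ha : IsPrimitiveRoot a₀ e) {Q : Type*} [CommRing Q]
    (ι : ZMod p →+* Q) (π : Q) (hπ : π ^ (e + 1) = 0) (hep : e < p) (w : ZMod p) :
    ∑ a ∈ rts p e, (1 + π) ^ (w * a).val =
      ι e + π ^ e * ι ((e : ZMod p) * (e.factorial : ZMod p)⁻¹ * w ^ e) := by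
  have h1 : ∀ k : ℕ, (1 + π) ^ k = ∑ n ∈ range (e + 1), ι (k.choose n : ℕ) * π ^ n := by
    intro k
    rw [add_comm, add_pow]
    have e1 : ∀ n ∈ range (k + 1), π ^ n * (1 : Q) ^ (k - n) * (k.choose n : Q) =
        ι (k.choose n : ℕ) * π ^ n := fun n _ => by rw [one_pow, mul_one, map_natCast, mul_comm]
    rw [Finset.sum_congr rfl e1]
    rcases le_total k e with hk | hk
    · refine Finset.sum_subset (range_mono (by omega)) fun n _ hn => ?_
      rw [Nat.choose_eq_zero_of_lt (by rw [mem_range] at hn; omega), Nat.cast_zero, map_zero, zero_mul]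
    · refine (Finset.sum_subset (range_mono (by omega)) fun n _ hn => ?_).symm
      rw [pow_eq_zero_of_le (by rw [mem_range] at hn; omega) hπ, mul_zero]
  simp only [h1]
  rw [Finset.sum_comm]
  have h2 : ∀ n ∈ range (e + 1), ∑ a ∈ rts p e, ι (((w * a).val.choose n : ℕ)) * π ^ n =
      ι (if n = 0 then (e : ZMod p) else if n = e then (e : ZMod p) * (e.factorial : ZMod p)⁻¹ * w ^ e
        else 0) * π ^ n := by
    intro n hn
    have hne : n ≤ e := Nat.lt_succ_iff.1 (mem_range.1 hn)
    rw [← Finset.sum_mul, ← map_sum, Finset.sum_congr rfl fun a _ => choose_eq_eval n (by omega) (w * a),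
      ← Finset.mul_sum, sum_rts_eval A ha _ (by rw [descPochhammer_natDegree]; exact hne)]
    congr 2
    have hc0 : (descPochhammer (ZMod p) n).coeff 0 = if n = 0 then 1 else 0 := by
      rw [coeff_zero_eq_eval_zero, descPochhammer_eval_zero]
    split_ifs with h0 he'
    · subst h0
      rw [hc0, if_pos rfl, Nat.factorial_zero, Nat.cast_one, inv_one, one_mul,
        coeff_eq_zero_of_natDegree_lt (by rw [descPochhammer_natDegree]; exact Nat.pos_of_ne_zero A.epos),
        zero_mul, add_zero, mul_one]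
    · subst he'
      have hlc : (descPochhammer (ZMod p) n).coeff n = 1 := by
        have := monic_descPochhammer (ZMod p) n
        rwa [Monic, leadingCoeff, descPochhammer_natDegree] at this
      rw [hc0, if_neg h0, hlc, zero_add, one_mul]
      ring
    · rw [hc0, if_neg h0, coeff_eq_zero_of_natDegree_lt
        (by rw [descPochhammer_natDegree]; omega), zero_mul, add_zero, mul_zero, mul_zero]
  rw [Finset.sum_congr rfl h2, ← Finset.add_sum_erase _ _ (mem_range.2 (Nat.succ_pos e)),
    Finset.sum_eq_single e (fun n hn hne => by rw [if_neg (mem_erase.1 hn).1, if_neg hne, map_zero, zero_mul])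
      (fun h => absurd (mem_erase.2 ⟨A.epos, mem_range.2 (Nat.lt_succ_self e)⟩) h)]
  rw [if_pos rfl, if_neg A.epos, if_pos rfl, pow_zero, mul_one]
  ring

/-- The unit in the twisted sum. -/
theorem twisted_sum_ne_zero {F : Type*} [Field F] {a b : F} (ha : IsPrimitiveRoot a e)
    (hb : b ^ e = 1) (hb1 : b ≠ 1)
    (hch : ∀ m, m ≤ e → (e.choose m : F) ≠ 0) (he0 : (e : F) ≠ 0) :
    ∑ j : ZMod e, b ^ j.val * (a ^ j.val - 1) ^ e ≠ 0 := by
  obtain ⟨r, hr, rfl⟩ := ha.eq_pow_of_pow_eq_one hb
  have hr0 : r ≠ 0 := fun h0 => hb1 (by rw [h0, pow_zero])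
  simp only [sub_eq_add_neg, add_pow, Finset.mul_sum]
  rw [Finset.sum_comm, Finset.sum_congr rfl fun m _ => show
    ∑ j : ZMod e, (a ^ r) ^ j.val * ((a ^ j.val) ^ m * (-1 : F) ^ (e - m) * (e.choose m : F)) =
      (-1 : F) ^ (e - m) * (e.choose m : F) * ∑ j : ZMod e, a ^ ((r + m) * j.val) by
    rw [Finset.mul_sum]
    refine Finset.sum_congr rfl fun j _ => ?_
    rw [← pow_mul a r, ← pow_mul a j.val, mul_comm j.val m, add_mul, pow_add]
    ring]
  simp only [sum_pow_val ha]
  rw [Finset.sum_eq_single (e - r) (fun m hm hne => by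
      rw [if_neg fun hd => hne ?_, mul_zero]
      have hm' := mem_range.1 hm
      obtain ⟨c, hc⟩ := hd
      rcases c with _ | _ | c
      · rw [mul_zero] at hc; omega
      · rw [zero_add, mul_one] at hc; omega
      · have : e * (c + 1 + 1) = e * c + (e + e) := by ring
        omega)
    (fun h => absurd (mem_range.2 (by omega)) h), if_pos (by rw [Nat.add_sub_cancel' hr.le]),
    ]
  exact mul_ne_zero (mul_ne_zero (pow_ne_zero _ (neg_ne_zero.2 one_ne_zero)) (hch _ (by omega))) he0

end CfsgLib.FeitSmall
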