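import Cfsg.Agent.Lib.FeitSmall.Cyclo

/-!
# Bounds on the cyclotomic numbers modulo `p`

For odd `e` the numbers `cc` of `Cyclo` cannot stay within narrow bounds, and for even `e ≥ 4` the
diagonal numbers cannot be constant outside one coset under the bound they give.
-/

namespace CfsgLib.FeitSmall

open Finset Polynomial

set_option linter.unusedSectionVars false

variable {p : ℕ} [Fact p.Prime] {e t : ℕ}

/-- The product of all `1 + (a - b w) X`. -/
noncomputable def wPoly (p : ℕ) [Fact p.Prime] (e : ℕ) (v : ZMod p) : (ZMod p)[X] :=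
  ∏ a ∈ rts p e, ((1 + C a * X) ^ e - C v * X ^ e)

theorem pow_sub_pow_eq_prod (A : Arith p e t) (x y : (ZMod p)[X]) :
    x ^ e - y ^ e = ∏ b ∈ rts p e, (x - C b * y) := by
  classical
  obtain ⟨g, hg⟩ := A.exists_root
  have hg' : IsPrimitiveRoot (C g) e := hg.map_of_injective C_injective
  have hset : nthRootsFinset e (1 : (ZMod p)[X]) = (rts p e).image C := by
    refine (Finset.eq_of_subset_of_card_le ?_ ?_).symm
    · intro q hq
      obtain ⟨a, ha, rfl⟩ := mem_image.1 hq
      rw [mem_nthRootsFinset (Nat.pos_of_ne_zero A.epos), ← C_pow, mem_rts.1 ha, C_1]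
    · rw [hg'.card_nthRootsFinset, card_image_of_injective _ C_injective, A.card_rts]
  rw [hg'.pow_sub_pow_eq_prod_sub_mul x y (Nat.pos_of_ne_zero A.epos), hset,
    Finset.prod_image C_injective.injOn]

theorem prod_one_add_all : ∏ z ∈ univ.erase (0 : ZMod p), (1 + C z * X) = 1 - X ^ (p - 1) := by
  classical
  have hp := (Fact.out : p.Prime).two_le
  have A : Arith p (p - 1) 1 := ⟨by omega, by omega⟩
  have h := pow_sub_pow_eq_prod A (1 : (ZMod p)[X]) X
  rw [one_pow] at h
  rw [h]
  refine Finset.prod_nbij' Neg.neg Neg.neg ?_ ?_ (fun _ _ => neg_neg _) (fun _ _ => neg_neg _) ?_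
  · intro z hz
    rw [mem_erase] at hz
    rw [mem_rts, ZMod.pow_card_sub_one_eq_one (neg_ne_zero.2 hz.1)]
  · intro z hz
    rw [mem_erase]
    exact ⟨neg_ne_zero.2 (ne_zero_rts A.epos hz), mem_univ _⟩
  · intro z _
    rw [C_neg]; ring

theorem wPoly_eq (A : Arith p e t) (w : ZMod p) :
    wPoly p e (w ^ e) = ∏ z ∈ univ.erase (0 : ZMod p), (1 + C z * X) ^ cc p e 1 (-w) z := by
  classical
  have h1 : ∀ a ∈ rts p e, (1 + C a * X) ^ e - C (w ^ e) * X ^ e =
      ∏ b ∈ rts p e, (1 + C (1 * a + -w * b) * X) := by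
    intro a _
    rw [C_pow, ← mul_pow, pow_sub_pow_eq_prod A]
    refine Finset.prod_congr rfl fun b _ => ?_
    simp only [map_add, map_mul, map_neg, map_one]
    ring
  rw [wPoly, Finset.prod_congr rfl h1, ← Finset.prod_product',
    ← Finset.prod_fiberwise' (rts p e ×ˢ rts p e) (fun q => 1 * q.1 + -w * q.2)
      (fun z => 1 + C z * X)]
  have h2 : ∀ z, ∏ _q ∈ (rts p e ×ˢ rts p e).filter (fun q => 1 * q.1 + -w * q.2 = z),
      (1 + C z * X) = (1 + C z * X) ^ cc p e 1 (-w) z := fun z => by rw [Finset.prod_const, cc]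
  rw [Finset.prod_congr rfl fun z _ => h2 z, ← Finset.mul_prod_erase _ _ (mem_univ (0 : ZMod p))]
  simp

/-- The coefficient as a polynomial in `v`. -/
theorem coeff_vanish_false (A : Arith p e t) (hodd : Odd e) (k : ℕ)
    (hne : ((e * k).choose (t - 1) : ZMod p) ≠ 0)
    (hv : ∀ w : ZMod p, w ≠ 0 → ((wPoly p e (w ^ e)) ^ k).coeff ((t - 1) * e) = 0) : False := by
  classical
  set F := ZMod p
  -- a graded product
  let Good : Polynomial (F[X]) → Prop := fun P => ∀ n i, n < e * i → (P.coeff n).coeff i = 0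
  have good_one : Good 1 := by
    intro n i h
    rw [coeff_one]
    split_ifs
    · rw [coeff_one, if_neg]
      rintro rfl
      simp at h
    · exact coeff_zero i
  have good_mul : ∀ P Q, Good P → Good Q → Good (P * Q) := by
    intro P Q hP hQ n i h
    rw [coeff_mul, finsetSum_coeff]
    refine Finset.sum_eq_zero fun q hq => ?_
    rw [coeff_mul]
    refine Finset.sum_eq_zero fun r hr => ?_
    rw [HasAntidiagonal.mem_antidiagonal] at hq hr
    rcases Nat.lt_or_ge q.1 (e * r.1) with h' | h'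
    · rw [hP _ _ h', zero_mul]
    · rw [hQ q.2 r.2 (by rw [← hr, mul_add] at h; omega), mul_zero]
  let base : F → Polynomial (F[X]) := fun a =>
    ((1 + C a * X) ^ e).map C - C (X : F[X]) * X ^ e
  have good_base : ∀ a, Good (base a) := by
    intro a n i h
    have hi : i ≠ 0 := by rintro rfl; simp at h
    simp only [base, coeff_sub, coeff_map, coeff_C_mul, coeff_X_pow]
    rw [coeff_C, if_neg hi, zero_sub, neg_eq_zero]
    split_ifs with hn
    · rw [mul_one, coeff_X, if_neg]
      rintro rfl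
      omega
    · simp
  set P : Polynomial (F[X]) := (∏ a ∈ rts p e, base a) ^ k with hP
  have goodP : Good P := by
    have hb : Good (∏ a ∈ rts p e, base a) :=
      Finset.prod_induction _ Good good_mul good_one fun a _ => good_base a
    rw [hP]
    clear hP P hv hne
    induction k with
    | zero => rw [pow_zero]; exact good_one
    | succ k ih => rw [pow_succ]; exact good_mul _ _ ih hb
  set N := (t - 1) * e with hN
  set G := P.coeff N with hG
  have hdeg : G.natDegree ≤ t - 1 := natDegree_le_iff_coeff_eq_zero.2 fun i hi => by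
    refine goodP N i ?_
    rw [hN, mul_comm]
    exact Nat.mul_lt_mul_of_pos_left hi (Nat.pos_of_ne_zero A.epos)
  have heval : ∀ v : F, G.eval v = ((wPoly p e v) ^ k).coeff N := by
    intro v
    rw [hG, ← coe_evalRingHom, ← coeff_map, hP, Polynomial.map_pow, Polynomial.map_prod, wPoly]
    congr 2
    refine Finset.prod_congr rfl fun a _ => ?_
    simp only [base, Polynomial.map_sub, Polynomial.map_mul, Polynomial.map_pow, map_C, map_X,
      coe_evalRingHom, eval_X, Polynomial.map_map]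
    rw [show (evalRingHom v).comp (C : F →+* F[X]) = RingHom.id F from RingHom.ext fun x => eval_C,
      Polynomial.map_id]
  have hG0 : G = 0 := by
    by_contra hne0
    have hp := (Fact.out : p.Prime).two_le
    have h1 : G.comp (X ^ e) = 0 := by
      refine eq_zero_of_natDegree_lt_card_of_eval_eq_zero' _ (univ.erase (0 : F)) (fun w hw => ?_) ?_
      · rw [eval_comp, eval_pow, eval_X, heval]
        exact hv w (mem_erase.1 hw).1
      · rw [natDegree_comp, natDegree_X_pow, card_erase_of_mem (mem_univ _), card_univ, ZMod.card]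
        have h2 : G.natDegree * e ≤ (t - 1) * e := Nat.mul_le_mul_right _ hdeg
        have h3 : (t - 1) * e + e = t * e := by
          rw [← Nat.succ_mul, Nat.succ_eq_add_one, Nat.sub_add_cancel (Nat.pos_of_ne_zero A.tpos)]
        have := A.mul; have := A.epos
        omega
    rcases comp_eq_zero_iff.1 h1 with h | ⟨-, h⟩
    · exact hne0 h
    · have := congrArg natDegree h
      rw [natDegree_X_pow, natDegree_C] at this
      exact A.epos this
  apply hne
  have h0 := heval 0
  rw [hG0, eval_zero, wPoly] at h0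
  simp only [map_zero, zero_mul, sub_zero] at h0
  rw [Finset.prod_pow] at h0
  have hprod : ∏ a ∈ rts p e, (1 + C a * X) = 1 + (X : F[X]) ^ e := by
    have h := pow_sub_pow_eq_prod A (1 : F[X]) (-X)
    rw [one_pow, hodd.neg_pow, sub_neg_eq_add] at h
    rw [h]
    exact Finset.prod_congr rfl fun b _ => by ring
  rw [hprod, ← pow_mul, show (1 + (X : F[X]) ^ e) ^ (e * k) = expand F e ((1 + X) ^ (e * k)) by
    simp [map_pow, map_add, expand_X], hN, coeff_expand_mul (Nat.pos_of_ne_zero A.epos),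
    coeff_one_add_X_pow] at h0
  exact h0.symm

theorem X_pow_dvd_one_sub_pow (U : ℕ) :
    (X : (ZMod p)[X]) ^ (p - 1) ∣ (1 - X ^ (p - 1)) ^ U - 1 := by
  have h := sub_dvd_pow_sub_pow (1 - X ^ (p - 1)) (1 : (ZMod p)[X]) U
  rw [one_pow] at h
  refine dvd_trans ?_ h
  rw [sub_sub_cancel_left]
  exact dvd_neg.2 dvd_rfl

theorem natDegree_prod_lin_le (g : ZMod p → ℕ) :
    (∏ z ∈ univ.erase (0 : ZMod p), (1 + C z * X) ^ g z).natDegree ≤
      ∑ z ∈ univ.erase (0 : ZMod p), g z := by
  refine (natDegree_prod_le _ _).trans (Finset.sum_le_sum fun z _ => natDegree_pow_le.trans ?_)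
  have h : (1 + C z * X).natDegree ≤ 1 := by compute_degree
  exact (Nat.mul_le_mul_left _ h).trans (mul_one _).le

theorem sum_cc_le (A : Arith p e t) (s : ZMod p) :
    ∑ z ∈ univ.erase 0, cc p e 1 s z ≤ e * e ∧ e * e ≤ (∑ z ∈ univ.erase 0, cc p e 1 s z) + e := by
  have h := sum_cc_erase A (a := 1) (b := s) one_ne_zero
  split_ifs at h <;> omega

/-- Not all numbers are at least `m ≥ 1` when the slack is at most `t - 2`. -/
theorem lower_false (A : Arith p e t) (hodd : Odd e) {m : ℕ} (hm : 1 ≤ m) (ht : 2 ≤ t)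
    (hle : e ≤ m * t + (t - 2)) (hge : ∀ s z : ZMod p, s ≠ 0 → z ≠ 0 → m ≤ cc p e 1 s z) :
    False := by
  classical
  have hp := (Fact.out : p.Prime).two_le
  have hsum : ∀ s : ZMod p, s ≠ 0 →
      ∑ z ∈ univ.erase 0, (cc p e 1 s z - m) + m * (p - 1) ≤ e * e := by
    intro s hs
    refine le_trans (le_of_eq ?_) (sum_cc_le A s).1
    rw [show p - 1 = (univ.erase (0 : ZMod p)).card by
        rw [card_erase_of_mem (mem_univ _), card_univ, ZMod.card],
      mul_comm m, ← smul_eq_mul, ← Finset.sum_const, ← Finset.sum_add_distrib]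
    exact Finset.sum_congr rfl fun z hz =>
      Nat.sub_add_cancel (hge s z hs (mem_erase.1 hz).1)
  have hme : m * t ≤ e := by
    have h1 := hsum 1 one_ne_zero
    have h2 : m * t * e ≤ e * e := by
      have : p - 1 = t * e := by have := A.mul; omega
      rw [this, ← mul_assoc] at h1; omega
    exact Nat.le_of_mul_le_mul_right h2 (Nat.pos_of_ne_zero A.epos)
  refine coeff_vanish_false A hodd 1 ?_ fun w hw => ?_
  · rw [mul_one, Ne, ZMod.natCast_eq_zero_iff]
    intro hd
    have htm : t ≤ m * t := Nat.le_mul_of_pos_left t hm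
    have h1 := dvd_mul_of_dvd_left (dvd_mul_of_dvd_left hd ((t - 1).factorial)) ((e - (t - 1)).factorial)
    rw [Nat.choose_mul_factorial_mul_factorial (by omega)] at h1
    have := (Nat.Prime.dvd_factorial (Fact.out : p.Prime)).1 h1
    have := A.lt
    omega
  · set R := ∏ z ∈ univ.erase (0 : ZMod p), (1 + C z * X) ^ (cc p e 1 (-w) z - m) with hR
    have hP : wPoly p e (w ^ e) = (1 - X ^ (p - 1)) ^ m * R := by
      rw [wPoly_eq A, ← prod_one_add_all, ← Finset.prod_pow, hR, ← Finset.prod_mul_distrib]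
      refine Finset.prod_congr rfl fun z hz => ?_
      rw [← pow_add, Nat.add_sub_cancel' (hge _ z (neg_ne_zero.2 hw) (mem_erase.1 hz).1)]
    have hN : (t - 1) * e < p - 1 := by
      have h3 : (t - 1) * e + e = t * e := by
        rw [← Nat.succ_mul, Nat.succ_eq_add_one, Nat.sub_add_cancel (by omega)]
      have := A.mul; have := A.epos
      omega
    have hdvd : X ^ (p - 1) ∣ wPoly p e (w ^ e) - R := by
      rw [hP, show (1 - X ^ (p - 1)) ^ m * R - R = ((1 - X ^ (p - 1)) ^ m - 1) * R by ring]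
      exact (X_pow_dvd_one_sub_pow m).mul_right R
    have hc := X_pow_dvd_iff.1 hdvd _ hN
    rw [coeff_sub, sub_eq_zero] at hc
    rw [pow_one, hc]
    refine coeff_eq_zero_of_natDegree_lt (lt_of_le_of_lt (natDegree_prod_lin_le _) ?_)
    have h1 := hsum (-w) (neg_ne_zero.2 hw)
    have hpe : p - 1 = t * e := by have := A.mul; omega
    rw [hpe] at h1
    obtain ⟨u, rfl⟩ : ∃ u, t = u + 2 := ⟨t - 2, by omega⟩
    rw [show u + 2 - 1 = u + 1 by omega]
    rw [show u + 2 - 2 = u by omega] at hle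
    have := A.epos
    nlinarith [Nat.mul_le_mul_right e hle]

/-- Not all numbers are at most `U` when the slack is at most `t - 2`. -/
theorem upper_false (A : Arith p e t) (hodd : Odd e) (hte : Even t) {U : ℕ}
    (hle : U * t + 1 ≤ e + (t - 1)) (hU : ∀ s z : ZMod p, s ≠ 0 → z ≠ 0 → cc p e 1 s z ≤ U) :
    False := by
  classical
  have hp := (Fact.out : p.Prime).two_le
  have hpe : p - 1 = t * e := by have := A.mul; omega
  have hlt : U * t + 1 < e + (t - 1) := by
    refine lt_of_le_of_ne hle fun h => ?_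
    obtain ⟨a, ha⟩ := hodd
    obtain ⟨b, hb⟩ := hte
    have : U * t = 2 * (U * b) := by rw [hb]; ring
    have := A.tpos
    omega
  have ht : 2 ≤ t := by
    obtain ⟨b, hb⟩ := hte; have := A.tpos; omega
  have hsum : ∀ s : ZMod p, s ≠ 0 →
      ∑ z ∈ univ.erase 0, (U - cc p e 1 s z) + e * e ≤ U * (p - 1) + e := by
    intro s hs
    have h1 : ∑ z ∈ univ.erase 0, (U - cc p e 1 s z) + ∑ z ∈ univ.erase 0, cc p e 1 s z =
        U * (p - 1) := by
      rw [← Finset.sum_add_distrib, Finset.sum_congr rfl fun z hz =>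
        Nat.sub_add_cancel (hU s z hs (mem_erase.1 hz).1), Finset.sum_const,
        card_erase_of_mem (mem_univ _), card_univ, ZMod.card, smul_eq_mul, mul_comm]
    have := (sum_cc_le A s).2
    omega
  refine coeff_vanish_false A hodd (p - 1) ?_ fun w hw => ?_
  · rw [Ne, ← Int.cast_natCast, ← ne_eq, ne_eq]
    intro h
    have h1 : ((e * (p - 1)).choose (t - 1) : ℤ) ≡
        ((p - e).choose (t - 1) * (e - 1).choose 0 : ℕ) [ZMOD p] := by
      have h2 := Choose.choose_modEq_choose_mod_mul_choose_div (p := p) (n := e * (p - 1))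
        (k := t - 1)
      have he := A.epos
      have hep := A.lt
      have hk : t - 1 < p := by
        have := Nat.le_mul_of_pos_right t (Nat.pos_of_ne_zero he); have := A.mul; omega
      obtain ⟨q, hq⟩ : ∃ q, e = q + 1 := ⟨e - 1, by omega⟩
      obtain ⟨r, hr⟩ : ∃ r, p = e + r := ⟨p - e, by omega⟩
      have hsplit : e * (p - 1) = p * (e - 1) + (p - e) := by
        rw [show e - 1 = q by omega, show p - e = r by omega, show p - 1 = q + r by omega]
        rw [hr, hq]; ring
      rw [hsplit] at h2 ⊢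
      rw [Nat.mul_add_mod, Nat.mul_add_div (by omega), Nat.mod_eq_of_lt (show p - e < p by omega),
        Nat.mod_eq_of_lt hk, Nat.div_eq_of_lt hk, Nat.div_eq_of_lt (show p - e < p by omega),
        add_zero] at h2
      exact_mod_cast h2
    rw [← ZMod.intCast_eq_intCast_iff] at h1
    rw [h1, Nat.choose_zero_right, mul_one, Int.cast_natCast, ZMod.natCast_eq_zero_iff] at h
    have hcle : t - 1 ≤ p - e := by
      have := A.mul
      obtain ⟨u, rfl⟩ : ∃ u, t = u + 1 := ⟨t - 1, by omega⟩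
      rw [Nat.succ_mul] at this
      have := Nat.le_mul_of_pos_right u (Nat.pos_of_ne_zero A.epos)
      omega
    have h3 := dvd_mul_of_dvd_left (dvd_mul_of_dvd_left h ((t - 1).factorial))
      ((p - e - (t - 1)).factorial)
    rw [Nat.choose_mul_factorial_mul_factorial hcle] at h3
    have := (Nat.Prime.dvd_factorial (Fact.out : p.Prime)).1 h3
    have := A.epos
    omega
  · set W := wPoly p e (w ^ e) with hW
    set Q := ∏ z ∈ univ.erase (0 : ZMod p), (1 + C z * X) ^ (U - cc p e 1 (-w) z) with hQ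
    have hWQ : W * Q = (1 - X ^ (p - 1)) ^ U := by
      rw [hW, wPoly_eq A, ← prod_one_add_all, ← Finset.prod_pow, hQ, ← Finset.prod_mul_distrib]
      refine Finset.prod_congr rfl fun z hz => ?_
      rw [← pow_add, Nat.add_sub_cancel' (hU _ z (neg_ne_zero.2 hw) (mem_erase.1 hz).1)]
    have hW0 : W.coeff 0 = 1 := by
      rw [hW, wPoly, coeff_zero_eq_eval_zero, eval_prod]
      refine Finset.prod_eq_one fun a _ => ?_
      simp [zero_pow A.epos]
    have hWp : X ^ (p - 1) ∣ W ^ p - 1 := by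
      obtain ⟨S, hS⟩ := X_dvd_iff.2 (show (W - 1).coeff 0 = 0 by simp [hW0])
      rw [eq_add_of_sub_eq hS, add_pow_char, one_pow, add_sub_cancel_right, mul_pow]
      exact (pow_dvd_pow X (Nat.sub_le p 1)).mul_right _
    have hdvd : X ^ (p - 1) ∣ W ^ (p - 1) - Q := by
      have : W ^ (p - 1) - Q = W ^ (p - 1) * -((1 - X ^ (p - 1)) ^ U - 1) + Q * (W ^ p - 1) := by
        rw [← hWQ, show W ^ p = W ^ (p - 1) * W by rw [← pow_succ, Nat.sub_add_cancel (by omega)]]
        ring
      rw [this]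
      exact dvd_add (dvd_mul_of_dvd_right (dvd_neg.2 (X_pow_dvd_one_sub_pow U)) _)
        (dvd_mul_of_dvd_right hWp _)
    have hN : (t - 1) * e < p - 1 := by
      have h3 : (t - 1) * e + e = t * e := by
        rw [← Nat.succ_mul, Nat.succ_eq_add_one, Nat.sub_add_cancel (by omega)]
      have := A.epos
      omega
    have hc := X_pow_dvd_iff.1 hdvd _ hN
    rw [coeff_sub, sub_eq_zero] at hc
    rw [hc]
    refine coeff_eq_zero_of_natDegree_lt (lt_of_le_of_lt (natDegree_prod_lin_le _) ?_)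
    have h1 := hsum (-w) (neg_ne_zero.2 hw)
    rw [hpe, ← mul_assoc] at h1
    obtain ⟨u, rfl⟩ : ∃ u, t = u + 1 := ⟨t - 1, by omega⟩
    rw [Nat.add_sub_cancel] at hlt ⊢
    have := A.epos
    nlinarith [Nat.mul_lt_mul_of_pos_right hlt (Nat.pos_of_ne_zero A.epos)]

theorem exists_outside (A : Arith p e t) (ht : 3 ≤ t) :
    ∃ z : ZMod p, z ≠ 0 ∧ z ∉ rts p e ∧ z ∉ (rts p e).image (2 * ·) := by
  classical
  by_contra h
  push Not at h
  have h1 : univ.erase (0 : ZMod p) ⊆ rts p e ∪ (rts p e).image (2 * ·) := by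
    intro z hz
    rw [mem_union]
    by_cases hz' : z ∈ rts p e
    · exact Or.inl hz'
    · exact Or.inr (h z (mem_erase.1 hz).1 hz')
  have h2 := (card_le_card h1).trans ((card_union_le _ _).trans
    (Nat.add_le_add_left card_image_le _))
  rw [card_erase_of_mem (mem_univ _), card_univ, ZMod.card, A.card_rts] at h2
  have := A.mul
  have := Nat.mul_le_mul_right e ht
  have := Nat.pos_of_ne_zero A.epos
  omega

/-- Diagonal numbers constant except one coset, one less there. -/
theorem even_false_minus (A : Arith p e t) (he : Even e) (hp2 : p ≠ 2) (ht : 3 ≤ t) (C₀ : ℕ)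
    (hdiag : ∀ z : ZMod p, z ≠ 0 →
      cc p e 1 1 z + (if z / 2 ∈ rts p e then 1 else 0) = C₀)
    (hU : ∀ s z : ZMod p, s ≠ 0 → z ≠ 0 → cc p e 1 s z ≤ C₀) (he4 : 4 ≤ e) : False := by
  classical
  have hp := (Fact.out : p.Prime).two_le
  have h2 : (2 : ZMod p) ≠ 0 := fun h => hp2 ((Nat.prime_dvd_prime_iff_eq Fact.out Nat.prime_two).1
    ((ZMod.natCast_eq_zero_iff 2 p).1 (by exact_mod_cast h)))
  have hspec : (univ.erase (0 : ZMod p)).filter (fun z => z / 2 ∈ rts p e) =
      (rts p e).image (2 * ·) := by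
    ext z
    simp only [mem_filter, mem_erase, mem_univ, and_true, mem_image]
    constructor
    · rintro ⟨-, h⟩; exact ⟨z / 2, h, by field_simp⟩
    · rintro ⟨a, ha, rfl⟩
      exact ⟨mul_ne_zero h2 (ne_zero_rts A.epos ha), by rwa [mul_div_cancel_left₀ _ h2]⟩
  have hs := sum_cc_erase A (a := 1) (b := 1) one_ne_zero
  rw [div_one, if_pos (neg_one_mem_rts he)] at hs
  have hCt : C₀ * t = e := by
    have h1 := Finset.sum_congr rfl fun z (hz : z ∈ univ.erase (0 : ZMod p)) =>
      hdiag z (mem_erase.1 hz).1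
    rw [Finset.sum_add_distrib, Finset.sum_boole, hspec, Finset.sum_const,
      card_image_of_injective _ (mul_right_injective₀ h2), A.card_rts,
      card_erase_of_mem (mem_univ _), card_univ, ZMod.card, smul_eq_mul, Nat.cast_id] at h1
    have : p - 1 = t * e := by have := A.mul; omega
    refine Nat.eq_of_mul_eq_mul_right (Nat.pos_of_ne_zero A.epos) ?_
    rw [mul_assoc, ← this, mul_comm C₀]
    omega
  have h3 : ∑ s ∈ univ.erase (0 : ZMod p), ∑ z ∈ univ.erase (0 : ZMod p),
      (cc p e 1 s z : ℤ) * ((cc p e 1 s z : ℤ) - 1) ≤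
      ∑ s ∈ univ.erase (0 : ZMod p), ∑ z ∈ univ.erase (0 : ZMod p),
      ((C₀ : ℤ) - 1) * (cc p e 1 s z : ℤ) := by
    refine Finset.sum_le_sum fun s hs => Finset.sum_le_sum fun z hz => ?_
    have := hU s z (mem_erase.1 hs).1 (mem_erase.1 hz).1
    rw [mul_comm]
    exact mul_le_mul_of_nonneg_right (by omega) (Int.natCast_nonneg _)
  rw [sum_cc_cc A] at h3
  simp only [← Finset.mul_sum] at h3
  rw [sum_cc_all A] at h3
  have he' : (4 : ℤ) ≤ e := by exact_mod_cast he4
  have hp' : (p : ℤ) = (t : ℤ) * e + 1 := by exact_mod_cast A.mul.symm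
  have hC : (C₀ : ℤ) * t = e := by exact_mod_cast hCt
  have hC1 : (1 : ℤ) ≤ C₀ := by
    rcases Nat.eq_zero_or_pos C₀ with h | h
    · rw [h, zero_mul] at hCt; omega
    · exact_mod_cast h
  have ht' : (3 : ℤ) ≤ t := by exact_mod_cast ht
  have h4 : ((e : ℤ) - 1) * ((e : ℤ) - 2) ≤ ((C₀ : ℤ) - 1) * ((p : ℤ) - 2) :=
    le_of_mul_le_mul_left (by linarith : (e : ℤ) ^ 2 * (((e : ℤ) - 1) * ((e : ℤ) - 2)) ≤
      (e : ℤ) ^ 2 * (((C₀ : ℤ) - 1) * ((p : ℤ) - 2))) (by positivity)
  rw [hp'] at h4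
  nlinarith

/-- Diagonal numbers constant except one coset, one more there. -/
theorem even_false_plus (A : Arith p e t) (he : Even e) (hp2 : p ≠ 2) (ht : 3 ≤ t) (C₀ : ℕ)
    (hdiag : ∀ z : ZMod p, z ≠ 0 →
      cc p e 1 1 z = C₀ + (if z / 2 ∈ rts p e then 1 else 0))
    (hU : ∀ s z : ZMod p, s ≠ 0 → z ≠ 0 → cc p e 1 s z ≤ C₀ + 1) (he4 : 4 ≤ e) : False := by
  classical
  have hp := (Fact.out : p.Prime).two_le
  have h2 : (2 : ZMod p) ≠ 0 := fun h => hp2 ((Nat.prime_dvd_prime_iff_eq Fact.out Nat.prime_two).1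
    ((ZMod.natCast_eq_zero_iff 2 p).1 (by exact_mod_cast h)))
  have hspec : (univ.erase (0 : ZMod p)).filter (fun z => z / 2 ∈ rts p e) =
      (rts p e).image (2 * ·) := by
    ext z
    simp only [mem_filter, mem_erase, mem_univ, and_true, mem_image]
    constructor
    · rintro ⟨-, h⟩; exact ⟨z / 2, h, by field_simp⟩
    · rintro ⟨a, ha, rfl⟩
      exact ⟨mul_ne_zero h2 (ne_zero_rts A.epos ha), by rwa [mul_div_cancel_left₀ _ h2]⟩
  have hs := sum_cc_erase A (a := 1) (b := 1) one_ne_zero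
  rw [div_one, if_pos (neg_one_mem_rts he)] at hs
  have hpe : p - 1 = t * e := by have := A.mul; omega
  have hCt : C₀ * t + 2 = e := by
    have h1 := Finset.sum_congr rfl fun z (hz : z ∈ univ.erase (0 : ZMod p)) =>
      hdiag z (mem_erase.1 hz).1
    rw [Finset.sum_add_distrib, Finset.sum_boole, hspec, Finset.sum_const,
      card_image_of_injective _ (mul_right_injective₀ h2), A.card_rts,
      card_erase_of_mem (mem_univ _), card_univ, ZMod.card, smul_eq_mul, Nat.cast_id, hpe] at h1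
    refine Nat.eq_of_mul_eq_mul_right (Nat.pos_of_ne_zero A.epos) ?_
    rw [add_mul, mul_assoc, mul_comm C₀]
    have h1' : ∑ z ∈ univ.erase 0, cc p e 1 1 z = t * e * C₀ + e := h1
    omega
  obtain ⟨z₀, hz₀, hz₀H, hz₀2⟩ := exists_outside A ht
  let g : ZMod p → ZMod p → ℤ := fun s z =>
    (cc p e 1 s z : ℤ) * ((C₀ : ℤ) + 1 - (cc p e 1 s z : ℤ))
  have hg0 : ∀ s ∈ univ.erase (0 : ZMod p), ∀ z ∈ univ.erase (0 : ZMod p), 0 ≤ g s z := by
    intro s hs z hz
    have := hU s z (mem_erase.1 hs).1 (mem_erase.1 hz).1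
    exact mul_nonneg (Int.natCast_nonneg _) (by omega)
  have hp' : (p : ℤ) = (t : ℤ) * e + 1 := by exact_mod_cast A.mul.symm
  have hC : (C₀ : ℤ) * t + 2 = e := by exact_mod_cast hCt
  have htot : ∑ s ∈ univ.erase (0 : ZMod p), ∑ z ∈ univ.erase (0 : ZMod p), g s z =
      (e : ℤ) ^ 2 * ((C₀ : ℤ) * ((t : ℤ) - 1)) := by
    have : ∀ s z, g s z = (C₀ : ℤ) * (cc p e 1 s z : ℤ) -
        (cc p e 1 s z : ℤ) * ((cc p e 1 s z : ℤ) - 1) := fun s z => by simp only [g]; ring
    simp only [this, Finset.sum_sub_distrib, ← Finset.mul_sum]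
    rw [sum_cc_all A, sum_cc_cc A, hp', ← hC]
    ring
  have hsub : rts p e ⊆ univ.erase (0 : ZMod p) := fun a ha =>
    mem_erase.2 ⟨ne_zero_rts A.epos ha, mem_univ _⟩
  have hrow : ∀ s ∈ rts p e, ∑ z ∈ univ.erase (0 : ZMod p), g s z =
      (C₀ : ℤ) * ((t : ℤ) * e - e) := by
    intro s hs'
    have hg : ∀ z ∈ univ.erase (0 : ZMod p),
        g s z = (C₀ : ℤ) - (C₀ : ℤ) * (if z / 2 ∈ rts p e then 1 else 0) := by
      intro z hz
      simp only [g]
      have e1 : cc p e 1 s z = cc p e 1 1 z := by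
        conv_lhs => rw [← one_mul s]
        exact cc_mul_right A.epos _ _ _ hs'
      rw [e1, hdiag z (mem_erase.1 hz).1]
      split_ifs <;> push_cast <;> ring
    rw [Finset.sum_congr rfl hg, Finset.sum_sub_distrib, Finset.sum_const, ← Finset.mul_sum,
      Finset.sum_boole, hspec, card_image_of_injective _ (mul_right_injective₀ h2), A.card_rts,
      card_erase_of_mem (mem_univ _), card_univ, ZMod.card, hpe, nsmul_eq_mul]
    push_cast
    ring
  rw [← Finset.sum_sdiff hsub, Finset.sum_congr rfl hrow, Finset.sum_const, A.card_rts,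
    nsmul_eq_mul] at htot
  have hrest : ∑ s ∈ univ.erase (0 : ZMod p) \ rts p e, ∑ z ∈ univ.erase (0 : ZMod p), g s z = 0 := by
    linear_combination htot
  have hz1 := (Finset.sum_eq_zero_iff_of_nonneg fun s hs =>
    Finset.sum_nonneg (hg0 s (mem_sdiff.1 hs).1)).1 hrest z₀
    (mem_sdiff.2 ⟨mem_erase.2 ⟨hz₀, mem_univ _⟩, hz₀H⟩)
  have hz2 := (Finset.sum_eq_zero_iff_of_nonneg fun z hz =>
    hg0 z₀ (mem_erase.2 ⟨hz₀, mem_univ _⟩) z hz).1 hz1 1 (mem_erase.2 ⟨one_ne_zero, mem_univ _⟩)
  have hcc : cc p e 1 z₀ 1 = C₀ := by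
    rw [← cc_mul_left A.epos 1 z₀ 1 (neg_one_mem_rts he), one_mul, cc_comm, ← cc_cycle A.epos,
      hdiag z₀ hz₀, if_neg, add_zero]
    intro h
    exact hz₀2 (mem_image.2 ⟨z₀ / 2, h, by field_simp⟩)
  simp only [g, hcc] at hz2
  have hC0 : C₀ = 0 := by
    have : (C₀ : ℤ) = 0 := by linear_combination hz2
    exact_mod_cast this
  rw [hC0] at hCt
  omega

end CfsgLib.FeitSmall
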