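import Mathlib

/-!
# Reduction of a complex representation, with the spectrum of one element
-/

namespace CfsgLib.FeitSmall

open Matrix

set_option linter.style.haveILetI false
set_option linter.unusedVariables false

/-- Reduction modulo a prime, keeping an annihilating product of an element. -/
theorem exists_reduction_prod {G : Type*} [Group G] [Finite G] {p : ℕ} (hp : p.Prime) {f : ℕ}
    (ρ : G →* Matrix (Fin f) (Fin f) ℂ) (hρ : Function.Injective ρ) (x : G) (l : List ℂ)
    (hl : ∀ c ∈ l, c ^ p = 1) (hprod : (l.map fun c => ρ x - c • 1).prod = 0) :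
    ∃ (k : Type) (_ : Field k) (_ : CharP k p) (σ : G →* Matrix (Fin f) (Fin f) k),
      (∀ g, σ g = 1 → ∃ n, g ^ p ^ n = 1) ∧ (σ x - 1) ^ l.length = 0 := by
  classical
  set A := (Int.castRingHom ℂ).range with hA
  have hpA : (p : ℂ) ∈ A := ⟨p, by simp⟩
  have hI : Ideal.span {(⟨(p : ℂ), hpA⟩ : A)} ≠ ⊤ := by
    rw [Ne, Ideal.span_singleton_eq_top]
    intro hu
    obtain ⟨⟨u, m, rfl⟩, hm⟩ := hu.exists_right_inv
    have h1 : ((p : ℂ) * (m : ℂ)) = 1 := by simpa using congrArg Subtype.val hm
    have h2 : (p : ℤ) * m = 1 := by exact_mod_cast h1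
    exact hp.ne_one (by simpa using Int.eq_one_of_mul_eq_one_right (by positivity) h2)
  obtain ⟨B, -, hB⟩ := Ideal.image_subset_nonunits_valuationSubring _ hI
  have hpB : (p : ℂ) ∈ B.nonunits := hB ⟨⟨(p : ℂ), hpA⟩, Ideal.subset_span rfl, rfl⟩
  -- the lattice
  set s : Set (Fin f → ℂ) :=
    Set.range (fun gi : G × Fin f => ρ gi.1 *ᵥ Pi.single gi.2 1) with hs
  let Λ : Submodule B (Fin f → ℂ) := Submodule.span B s
  haveI : Finite (G × Fin f) := inferInstance
  haveI : Module.Finite B Λ := Module.Finite.iff_fg.2 (Submodule.fg_span (Set.finite_range _))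
  haveI : Module.Flat B Λ := by
    rw [Module.Flat.flat_iff_torsion_eq_bot_of_isBezout, Submodule.eq_bot_iff]
    rintro x ⟨⟨c, hc⟩, hcx⟩
    have h1 : (c : ℂ) • (x : Fin f → ℂ) = 0 := congrArg Subtype.val hcx
    have hc0 : (c : ℂ) ≠ 0 := fun h => nonZeroDivisors.ne_zero hc (Subtype.ext h)
    exact Subtype.ext ((smul_eq_zero.1 h1).resolve_left hc0)
  haveI : Module.Free B Λ := Module.free_of_flat_of_isLocalRing
  let b := Module.finBasis B Λ
  set n := Module.finrank B Λ with hn
  have hli : LinearIndependent ℂ (fun i => ((b i : Λ) : Fin f → ℂ)) := by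
    rw [← LinearIndependent.iff_fractionRing B ℂ]
    exact b.linearIndependent.map' Λ.subtype (Submodule.ker_subtype Λ)
  have hsingle : ∀ i, Pi.single i 1 ∈ Λ := fun i => Submodule.subset_span ⟨(1, i), by show ρ 1 *ᵥ _ = _; rw [map_one, Matrix.one_mulVec]⟩
  have hspan : Submodule.span ℂ (Set.range fun i => ((b i : Λ) : Fin f → ℂ)) = ⊤ := by
    rw [eq_top_iff]
    intro v _
    rw [pi_eq_sum_univ' v]
    refine Submodule.sum_mem _ fun i _ => Submodule.smul_mem _ _ ?_
    have h1 := congrArg (fun z : Λ => (z : Fin f → ℂ)) (b.sum_repr ⟨_, hsingle i⟩)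
    simp only [Submodule.coe_sum, Submodule.coe_smul] at h1
    rw [← h1]
    exact Submodule.sum_mem _ fun j _ => by
      rw [show b.repr ⟨_, hsingle i⟩ j • ((b j : Λ) : Fin f → ℂ) =
        ((b.repr ⟨_, hsingle i⟩ j : B) : ℂ) • ((b j : Λ) : Fin f → ℂ) from rfl]
      exact Submodule.smul_mem _ _ (Submodule.subset_span ⟨j, rfl⟩)
  have hnf : n = f := by
    have h1 := Module.finrank_eq_card_basis (Module.Basis.mk hli hspan.ge)
    simpa using h1.symm
  have hstab : ∀ g, ∀ v ∈ Λ, ρ g *ᵥ v ∈ Λ := by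
    intro g v hv
    induction hv using Submodule.span_induction with
    | mem w hw =>
      obtain ⟨⟨h, i⟩, rfl⟩ := hw
      exact Submodule.subset_span ⟨(g * h, i), by
        show ρ (g * h) *ᵥ _ = ρ g *ᵥ (ρ h *ᵥ _)
        rw [map_mul, Matrix.mulVec_mulVec]⟩
    | zero => simp
    | add u w _ _ hu hw => rw [Matrix.mulVec_add]; exact Λ.add_mem hu hw
    | smul c w _ hw =>
      rw [show c • w = (c : ℂ) • w from rfl, Matrix.mulVec_smul]
      exact Λ.smul_mem c hw
  let E : G →* Module.End B Λ :=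
    { toFun := fun g =>
        { toFun := fun v => ⟨ρ g *ᵥ (v : Fin f → ℂ), hstab g _ v.2⟩
          map_add' := fun u v => Subtype.ext (show ρ g *ᵥ ((u : Fin f → ℂ) + v) =
            ρ g *ᵥ (u : Fin f → ℂ) + ρ g *ᵥ (v : Fin f → ℂ) from Matrix.mulVec_add _ _ _)
          map_smul' := fun c v => Subtype.ext (show ρ g *ᵥ ((c : ℂ) • (v : Fin f → ℂ)) =
            (c : ℂ) • (ρ g *ᵥ (v : Fin f → ℂ)) from Matrix.mulVec_smul _ _ _) }
      map_one' := LinearMap.ext fun v => Subtype.ext (by simp)
      map_mul' := fun g h => LinearMap.ext fun v => Subtype.ext (by simp [Matrix.mulVec_mulVec]) }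
  have hEinj : ∀ g, E g = 1 → g = 1 := fun g hg => hρ (by
    rw [map_one]
    refine Matrix.ext_iff_mulVec.2 fun v => ?_
    rw [pi_eq_sum_univ' v, Matrix.mulVec_sum, Matrix.mulVec_sum]
    refine Finset.sum_congr rfl fun i _ => ?_
    rw [Matrix.mulVec_smul, Matrix.mulVec_smul, Matrix.one_mulVec]
    congr 1
    exact congrArg Subtype.val (LinearMap.congr_fun hg ⟨_, hsingle i⟩))
  let b' := b.reindex (finCongr hnf)
  let σB : G →* Matrix (Fin f) (Fin f) B := (LinearMap.toMatrixAlgEquiv b').toMonoidHom.comp E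
  have hσinj : ∀ g, σB g = 1 → g = 1 := fun g hg => hEinj g
    ((LinearMap.toMatrixAlgEquiv b').injective (hg.trans (map_one _).symm))
  let red : B →+* IsLocalRing.ResidueField B := IsLocalRing.residue B
  have hpred : ((p : ℕ) : IsLocalRing.ResidueField B) = 0 := by
    rw [← map_natCast red, IsLocalRing.residue_eq_zero_iff]
    have h2 : (p : ℂ) ∈ Subtype.val '' (IsLocalRing.maximalIdeal B : Set B) := by
      rw [B.image_maximalIdeal]; exact hpB
    obtain ⟨z, hz, hzp⟩ := h2
    have : z = (p : B) := Subtype.ext (by simpa using hzp)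
    exact this ▸ hz
  haveI hchar : CharP (IsLocalRing.ResidueField B) p := by
    have h1 := CharP.ringChar_of_prime_eq_zero hp hpred
    rw [← h1]; exact ringChar.charP _
  have hmemB : ∀ c ∈ l, c ∈ B := fun c hc => by
    rcases B.mem_or_inv_mem c with h | h
    · exact h
    · have h1 : c = c⁻¹ ^ (p - 1) := by
        rw [inv_pow]
        refine eq_inv_of_mul_eq_one_left ?_
        rw [← pow_succ', Nat.sub_add_cancel hp.one_le, hl c hc]
      rw [h1]
      exact pow_mem h _
  let lB : List B := l.attach.map fun c => ⟨c.1, hmemB c.1 c.2⟩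
  have hlB : lB.map (fun c : B => (c : ℂ)) = l := by
    simp [lB, List.map_map, Function.comp_def]
  have hE : (lB.map fun c => E x - c • 1).prod = 0 := by
    have key : ∀ (L : List B) (v : Λ), ((((L.map fun c => E x - c • 1).prod) v : Λ) : Fin f → ℂ) =
        ((L.map (fun c : B => (c : ℂ))).map fun c => ρ x - c • 1).prod *ᵥ (v : Fin f → ℂ) := by
      intro L
      induction L with
      | nil => intro v; simp
      | cons c L ih =>
        intro v
        simp only [List.map_cons, List.prod_cons, Module.End.mul_apply]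
        rw [← Matrix.mulVec_mulVec, ← ih v]
        simp only [LinearMap.sub_apply, LinearMap.smul_apply, Module.End.one_apply,
          AddSubgroupClass.coe_sub, Matrix.sub_mulVec, Matrix.smul_mulVec, Matrix.one_mulVec]
        rfl
    refine LinearMap.ext fun v => Subtype.ext ?_
    rw [key, hlB, hprod]
    simp
  have hσB : (lB.map fun c => σB x - c • 1).prod = 0 := by
    have h1 := congrArg (LinearMap.toMatrixAlgEquiv b') hE
    rw [map_list_prod, map_zero, List.map_map] at h1
    rw [← h1]
    congr 1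
    refine List.map_congr_left fun c _ => ?_
    show σB x - c • 1 = LinearMap.toMatrixAlgEquiv b' (E x - c • 1)
    refine ((map_sub (LinearMap.toMatrixAlgEquiv b') _ _).trans ?_).symm
    refine congrArg₂ (· - ·) rfl ((map_smul (LinearMap.toMatrixAlgEquiv b') _ _).trans ?_)
    exact congrArg _ (map_one _)
  have hred1 : ∀ c ∈ lB, red c = 1 := by
    intro c hc
    have hc' : (c : ℂ) ∈ l := by rw [← hlB]; exact List.mem_map.2 ⟨c, hc, rfl⟩
    have h1 : c ^ p = 1 := Subtype.ext (by simpa using hl _ hc')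
    have h2 : (red c) ^ p = 1 := by rw [← map_pow, h1, map_one]
    haveI : Fact p.Prime := ⟨hp⟩
    have h3 : (red c - 1) ^ p = 0 := by rw [sub_pow_char, h2, one_pow, sub_self]
    exact sub_eq_zero.1 ((pow_eq_zero_iff hp.ne_zero).1 h3)
  have hsig : ((RingHom.mapMatrix red).toMonoidHom.comp σB) x = (RingHom.mapMatrix red) (σB x) := rfl
  have hpow : (((RingHom.mapMatrix red).toMonoidHom.comp σB) x - 1) ^ l.length = 0 := by
    have h1 := congrArg (RingHom.mapMatrix red) hσB
    rw [map_list_prod, map_zero, List.map_map] at h1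
    rw [← h1, List.prod_eq_pow_card _ (((RingHom.mapMatrix red).toMonoidHom.comp σB) x - 1)]
    · congr 1
      rw [List.length_map, ← hlB, List.length_map]
    · intro A hA
      obtain ⟨c, hc, rfl⟩ := List.mem_map.1 hA
      show (RingHom.mapMatrix red) (σB x - c • 1) = _
      rw [map_sub, hsig]
      congr 1
      refine Matrix.ext fun i j => ?_
      rw [RingHom.mapMatrix_apply, Matrix.map_apply, Matrix.smul_apply, smul_eq_mul, map_mul, hred1 c hc, one_mul]
      by_cases hij : i = j
      · subst hij; rw [Matrix.one_apply_eq, Matrix.one_apply_eq, map_one]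
      · rw [Matrix.one_apply_ne hij, Matrix.one_apply_ne hij, map_zero]
  refine ⟨IsLocalRing.ResidueField B, inferInstance, hchar,
    (RingHom.mapMatrix red).toMonoidHom.comp σB, fun g hg => ?_, hpow⟩
  obtain ⟨a, m, hm, hgo⟩ := Nat.exists_eq_pow_mul_and_not_dvd (orderOf_pos g).ne' p hp.ne_one
  refine ⟨a, hσinj _ ?_⟩
  set M := σB (g ^ p ^ a) with hM
  have hred : (RingHom.mapMatrix red) M = 1 := by
    have h1 : (RingHom.mapMatrix red) (σB g) = 1 := hg
    rw [hM, map_pow, map_pow, h1, one_pow]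
  have hMm : M ^ m = 1 := by
    rw [hM, ← map_pow, ← pow_mul, ← hgo, pow_orderOf_eq_one, map_one]
  have hprod : (∑ i ∈ Finset.range m, M ^ i) * (M - 1) = 0 := by
    rw [geom_sum_mul, hMm, sub_self]
  have hunit : IsUnit (∑ i ∈ Finset.range m, M ^ i) := by
    rw [Matrix.isUnit_iff_isUnit_det]
    have h1 : red (∑ i ∈ Finset.range m, M ^ i).det =
        ((m : ℕ) : IsLocalRing.ResidueField B) ^ f := by
      rw [RingHom.map_det, map_sum]
      simp only [map_pow, hred, one_pow, Finset.sum_const, Finset.card_range]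
      rw [← Matrix.diagonal_one, ← Matrix.diagonal_smul, Matrix.det_diagonal]
      simp [nsmul_eq_mul]
    have hm0 : ((m : ℕ) : IsLocalRing.ResidueField B) ≠ 0 := by
      rw [Ne, CharP.cast_eq_zero_iff _ p]; exact hm
    by_contra hnu
    have h2 := (IsLocalRing.residue_eq_zero_iff _).2 ((IsLocalRing.mem_maximalIdeal _).2 hnu)
    exact pow_ne_zero f hm0 (h1 ▸ h2)
  exact sub_eq_zero.1 (hunit.mul_right_eq_zero.1 hprod)

end CfsgLib.FeitSmall
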