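import Cfsg.Agent.Lib.FeitSmall.Periods
import Cfsg.Agent.Lib.FeitSmall.Coef

/-!
# The twisted trace modulo a power of `ω - 1`
-/

namespace CfsgLib.FeitSmall

open Cfsg CfsgLib.Blocks CfsgLib.CharTheory Finset
open scoped ComplexConjugate

set_option linter.unusedVariables false
set_option linter.style.haveILetI false
set_option linter.unusedSectionVars false

universe u

variable {p : ℕ} [Fact p.Prime] {G : Type u} [Group G] [Fintype G] {x : G} {e t : ℕ}
  [NeZero e] {a₀ : ZMod p} {M : Ideal AlgInt}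

/-- `ω - 1`. -/
noncomputable def piC (p : ℕ) [Fact p.Prime] : ℂ := psi p (1 : ZMod p) - 1

theorem psi_primitive : IsPrimitiveRoot (psi p (1 : ZMod p)) p := by
  have h1 := ZMod.isPrimitive_stdAddChar p
  refine IsPrimitiveRoot.iff_def _ _ |>.2 ⟨?_, fun l hl => ?_⟩
  · rw [← AddChar.map_nsmul_eq_pow, nsmul_one, ZMod.natCast_self, AddChar.map_zero_eq_one]
  · rw [← AddChar.map_nsmul_eq_pow, nsmul_one] at hl
    rw [← ZMod.natCast_eq_zero_iff]
    exact ZMod.injective_stdAddChar (by rw [hl, AddChar.map_zero_eq_one])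

theorem psi_val (k : ZMod p) : psi p k = (1 + piC p) ^ k.val := by
  rw [piC, add_sub_cancel, ← AddChar.map_nsmul_eq_pow, nsmul_one, ZMod.natCast_zmod_val]

theorem memRing_psi (hM : IsPModular p M) (k : ZMod p) : MemLocalRing M (psi p k) :=
  memRing_of_isIntegral hM (IsIntegral.of_pow (Fact.out : p.Prime).pos (by
    rw [← AddChar.map_nsmul_eq_pow, nsmul_eq_mul, ZMod.natCast_self, zero_mul, AddChar.map_zero_eq_one]
    exact isIntegral_one))

theorem memRing_psiE (hM : IsPModular p M) (j : ZMod e) : MemLocalRing M (psiE e j) :=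
  memRing_of_isIntegral hM (IsIntegral.of_pow (Nat.pos_of_ne_zero (NeZero.ne e)) (by
    rw [← AddChar.map_nsmul_eq_pow, nsmul_eq_mul, ZMod.natCast_self, zero_mul, AddChar.map_zero_eq_one]
    exact isIntegral_one))

theorem piC_facts (hM : IsPModular p M) :
    MemLocalRing M (piC p) ∧ res hM (piC p) = 0 ∧ piC p ≠ 0 ∧
      ∃ u : ℂ, MemLocalRing M u ∧ res hM u ≠ 0 ∧ (p : ℂ) = piC p ^ (p - 1) * u := by
  obtain ⟨h0, u, hu, hu0, hpu⟩ := one_sub_zeta hM (psi_primitive (p := p))
  have hm : MemLocalRing M (1 - psi p (1 : ZMod p)) := (loc hM).sub_mem (loc hM).one_mem (memRing_psi hM 1)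
  have hneg : piC p = -(1 - psi p (1 : ZMod p)) := by rw [piC, neg_sub]
  refine ⟨hneg ▸ (loc hM).neg_mem hm, by rw [hneg, res_neg hM hm, h0, neg_zero], fun h1 => ?_,
    (-1) ^ (p - 1) * u, (loc hM).mul_mem ((loc hM).pow_mem ((loc hM).neg_mem (loc hM).one_mem) _) hu,
    ?_, by rw [hneg, hpu, ← mul_assoc, ← mul_pow, neg_mul_neg, mul_one]⟩
  · rw [piC, sub_eq_zero] at h1
    exact psi_primitive.ne_one (Fact.out : p.Prime).one_lt h1
  · haveI := res_isDomain hM
    rw [res_mul hM ((loc hM).pow_mem ((loc hM).neg_mem (loc hM).one_mem) _) hu,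
      res_pow hM ((loc hM).neg_mem (loc hM).one_mem), res_neg hM (loc hM).one_mem, res_one]
    exact mul_ne_zero (pow_ne_zero _ (neg_ne_zero.2 one_ne_zero)) hu0

/-- The twisted trace. -/
noncomputable def tau (x : G) (e : ℕ) [NeZero e] (a₀ : ZMod p) (f : G → ℂ) (s : ZMod e) : ℂ :=
  ∑ j : ZMod e, psiE e (-(s * j)) * f (xp x (a₀ ^ j.val - 1))

theorem Shape.value (A : Arith p e t) {f : G → ℂ} (hf : Shape x e f (1 : ZMod p) 1 (-1)) (k : ZMod p) :
    f (xp x k) = (if k = 0 then (p : ℂ) else 0) - ∑ a ∈ rts p e, psi p (k * a) := by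
  rw [mult_expand f k]
  have h1 : ∀ z : ZMod p, mult x f z * psi p (z * k) =
      psi p (k * z) - (if z ∈ rts p e then psi p (k * z) else 0) := by
    intro z
    rw [hf z, div_one, mul_comm z k]
    split_ifs <;> push_cast <;> ring
  rw [Finset.sum_congr rfl fun z _ => h1 z, Finset.sum_sub_distrib, Finset.sum_ite_mem, univ_inter,
    Finset.sum_congr rfl fun z _ => congrArg _ (mul_comm k z), sum_psi_mul]

theorem tau_eq (hM : IsPModular p M) (A : Arith p e t) (ht : 2 ≤ t) (ha : IsPrimitiveRoot a₀ e)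
    {f : G → ℂ} (hf : Shape x e f (1 : ZMod p) 1 (-1)) {s : ZMod e} (hs : s ≠ 0) :
    ∃ y z : ℂ, MemLocalRing M y ∧ MemLocalRing M z ∧ res hM y ≠ 0 ∧
      tau x e a₀ f s = piC p ^ e * y + piC p ^ (e + 1) * z := by
  classical
  obtain ⟨hπ, hπ0, hπne, u, hu, hu0, hpu⟩ := piC_facts (p := p) hM
  have hp : p.Prime := Fact.out
  have hep : 2 * e < p := by have := A.mul; have := Nat.mul_le_mul_right e ht; omega
  have hpe : e + 1 ≤ p - 1 := by have := A.epos; omega
  haveI := res_isDomain hM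
  haveI := hM.2.1
  letI := Ideal.Quotient.field M
  haveI := res_charP hM
  let πl : loc hM := ⟨piC p, hπ⟩
  let I : Ideal (loc hM) := Ideal.span {πl ^ (e + 1)}
  let mk := Ideal.Quotient.mk I
  have hres : resHom hM πl = 0 := hπ0
  have hI : I ≠ ⊤ := by
    rw [Ne, Ideal.span_singleton_eq_top]
    intro hu'
    have h1 := hu'.map (resHom hM)
    rw [map_pow, hres, zero_pow (Nat.succ_ne_zero e)] at h1
    exact not_isUnit_zero h1
  haveI : Nontrivial (loc hM ⧸ I) := Ideal.Quotient.nontrivial_iff.2 hI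
  have hπe : mk πl ^ (e + 1) = 0 := by
    rw [← map_pow, Ideal.Quotient.eq_zero_iff_mem]; exact Ideal.subset_span rfl
  have hp0 : ((p : ℕ) : loc hM ⧸ I) = 0 := by
    rw [← map_natCast mk, show ((p : ℕ) : loc hM) = πl ^ (p - 1) * ⟨u, hu⟩ from Subtype.ext (by
      push_cast; exact hpu), map_mul, map_pow, pow_eq_zero_of_le hpe hπe, zero_mul]
  haveI hch : CharP (loc hM ⧸ I) p :=
    (ringChar.eq_iff).1 (CharP.ringChar_of_prime_eq_zero hp hp0)
  let ι : ZMod p →+* loc hM ⧸ I := ZMod.castHom (dvd_refl p) _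
  have hι : ∀ c : ZMod p, ι c = mk ((c.val : ℕ) : loc hM) := fun c => by
    conv_lhs => rw [← ZMod.natCast_zmod_val c]
    rw [map_natCast, map_natCast]
  let w : ZMod e → loc hM := fun j => ⟨psiE e (-(s * j)), memRing_psiE hM _⟩
  let c : ZMod e → ZMod p := fun j =>
    (e : ZMod p) * (e.factorial : ZMod p)⁻¹ * (a₀ ^ j.val - 1) ^ e
  let η : ZMod p → loc hM := fun k => ∑ a ∈ rts p e, ⟨psi p (k * a), memRing_psi hM _⟩
  let τl : loc hM := ∑ j : ZMod e, w j *
    (((if a₀ ^ j.val - 1 = 0 then p else 0 : ℕ) : loc hM) - η (a₀ ^ j.val - 1))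
  have hτ : (τl : ℂ) = tau x e a₀ f s := by
    simp only [τl, tau, hf.value A, AddSubmonoidClass.coe_finsetSum, Subring.coe_mul, AddSubgroupClass.coe_sub,
      η, w]
    refine Finset.sum_congr rfl fun j _ => ?_
    congr 2
    split_ifs <;> simp
  let Y : loc hM := -(∑ j : ZMod e, w j * (((c j).val : ℕ) : loc hM))
  have hη : ∀ k, mk (η k) = ι e + mk πl ^ e * ι ((e : ZMod p) * (e.factorial : ZMod p)⁻¹ * k ^ e) := by
    intro k
    rw [← period_congr A ha ι (mk πl) hπe (by omega) k, map_sum]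
    refine Finset.sum_congr rfl fun a _ => ?_
    rw [show (⟨psi p (k * a), memRing_psi hM _⟩ : loc hM) = (1 + πl) ^ (k * a).val from
      Subtype.ext (by push_cast; exact psi_val _), map_pow, map_add, map_one]
  have hw0 : ∑ j : ZMod e, w j = 0 := Subtype.ext (by
    rw [AddSubmonoidClass.coe_finsetSum]
    show ∑ j : ZMod e, psiE e (-(s * j)) = (0 : ℂ)
    rw [Finset.sum_congr rfl fun j _ => show psiE e (-(s * j)) = psiE e (j * -s) by
      rw [mul_neg, mul_comm], sum_psiE, if_neg (neg_ne_zero.2 hs)])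
  have hkey : mk τl = mk (πl ^ e * Y) := by
    have h0 : ∑ j : ZMod e, mk (w j) * ι e = 0 := by rw [← Finset.sum_mul, ← map_sum, hw0, map_zero, zero_mul]
    have hp' : ∀ j : ZMod e, mk (((if a₀ ^ j.val - 1 = 0 then p else 0 : ℕ) : loc hM)) = 0 := fun j => by
      rw [map_natCast]; split_ifs
      · exact hp0
      · exact Nat.cast_zero
    have hterm : ∀ j : ZMod e, mk (w j *
        (((if a₀ ^ j.val - 1 = 0 then p else 0 : ℕ) : loc hM) - η (a₀ ^ j.val - 1))) =
        -(mk (w j) * ι e) + -(mk πl ^ e * mk (w j * (((c j).val : ℕ) : loc hM))) := fun j => by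
      rw [map_mul (mk) (w j) _, map_sub, hp', hη, map_mul (mk) (w j) _, ← hι]
      ring
    rw [show mk τl = ∑ j, mk (w j * (((if a₀ ^ j.val - 1 = 0 then p else 0 : ℕ) : loc hM) -
        η (a₀ ^ j.val - 1))) from map_sum mk _ _,
      Finset.sum_congr rfl fun j _ => hterm j, Finset.sum_add_distrib, Finset.sum_neg_distrib, h0, neg_zero,
      zero_add, Finset.sum_neg_distrib, ← Finset.mul_sum, ← map_sum, map_mul, map_pow, map_neg, mul_neg]
  obtain ⟨z, hz⟩ := Ideal.mem_span_singleton.1 ((Ideal.Quotient.eq).1 hkey)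
  refine ⟨Y, z, Y.2, z.2, ?_, ?_⟩
  · -- the unit
    let j₀ : ZMod p →+* AlgInt ⧸ M := ZMod.castHom (dvd_refl p) _
    have hj₀ : Function.Injective j₀ := j₀.injective
    set b := res hM (psiE e (-s)) with hbdef
    have hwb : ∀ j : ZMod e, resHom hM (w j) = b ^ j.val := by
      intro j
      rw [resHom_apply, hbdef, ← res_pow hM (memRing_psiE hM _), ← AddChar.map_nsmul_eq_pow,
        nsmul_eq_mul, ZMod.natCast_zmod_val]
      show res hM (psiE e (-(s * j))) = _
      rw [mul_comm j, neg_mul]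
    have hbe : b ^ e = 1 := by
      rw [hbdef, ← res_pow hM (memRing_psiE hM _), ← AddChar.map_nsmul_eq_pow, nsmul_eq_mul,
        ZMod.natCast_self, zero_mul, AddChar.map_zero_eq_one, res_one]
    have hnat : ∀ m : ℕ, m ≠ 0 → m ≤ e → (m : AlgInt ⧸ M) ≠ 0 := fun m hm hme h0 => by
      rw [CharP.cast_eq_zero_iff _ p] at h0
      have := Nat.le_of_dvd (Nat.pos_of_ne_zero hm) h0
      omega
    have hb1 : b ≠ 1 := by
      intro h1
      have h2 := congrArg (resHom hM) hw0
      simp only [map_sum, hwb, h1, one_pow, sum_const, card_univ, ZMod.card, nsmul_one, map_zero] at h2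
      exact hnat e A.epos le_rfl h2
    have hfac : (e.factorial : ZMod p) ≠ 0 := by
      rw [Ne, ZMod.natCast_eq_zero_iff]
      exact fun h0 => absurd (hp.dvd_factorial.1 h0) (by omega)
    have hech : ∀ m, m ≤ e → (e.choose m : AlgInt ⧸ M) ≠ 0 := fun m hm h0 => by
      rw [CharP.cast_eq_zero_iff _ p] at h0
      have h1 : p ∣ e.factorial := by
        rw [← Nat.choose_mul_factorial_mul_factorial hm, mul_assoc]
        exact h0.mul_right _
      exact absurd (hp.dvd_factorial.1 h1) (by omega)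
    show resHom hM Y ≠ 0
    simp only [Y, map_neg, map_sum, map_mul, map_natCast, hwb]
    rw [neg_ne_zero, Finset.sum_congr rfl fun j _ => show
      b ^ j.val * (((c j).val : ℕ) : AlgInt ⧸ M) =
        j₀ ((e : ZMod p) * (e.factorial : ZMod p)⁻¹) * (b ^ j.val * (j₀ a₀ ^ j.val - 1) ^ e) by
      rw [← map_natCast j₀ (c j).val, ZMod.natCast_zmod_val]
      simp only [c, map_mul, map_pow, map_sub, map_one]
      ring, ← Finset.mul_sum]
    refine mul_ne_zero ?_ (twisted_sum_ne_zero (ha.map_of_injective hj₀) hbe hb1 hech (hnat e A.epos le_rfl))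
    rw [map_ne_zero_iff _ hj₀]
    refine mul_ne_zero (fun h0 => ?_) (inv_ne_zero hfac)
    have := Nat.le_of_dvd (Nat.pos_of_ne_zero A.epos) ((ZMod.natCast_eq_zero_iff e p).1 h0)
    omega
  · rw [← hτ]
    have h1 := congrArg Subtype.val hz
    push_cast at h1
    linear_combination h1

end CfsgLib.FeitSmall
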