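import Cfsg.Agent.Lib.FeitSmall.FixedPair
import Cfsg.Agent.Lib.FeitSmall.Tau
import Cfsg.Agent.Lib.FeitSmall.OddB0
import Cfsg.Agent.Lib.CharTheory.Integral

/-!
# The residual configuration does not occur
-/

namespace CfsgLib.FeitSmall

open Cfsg CfsgLib.Blocks CfsgLib.Blocks.DefectOne CfsgLib.CharTheory CfsgLib.CharTheory.SmallDegree
open CfsgLib.SmallSylow Finset Matrix
open scoped ComplexConjugate

set_option linter.unusedVariables false
set_option linter.style.haveILetI false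
set_option linter.unusedSectionVars false
set_option synthInstance.maxHeartbeats 200000
set_option maxHeartbeats 800000

universe u

variable {p : ℕ} [Fact p.Prime] {G : Type u} [Group G] [Fintype G] {P : Sylow p G} {x : G} {e t : ℕ}
  [NeZero e] {h : G} {a₀ : ZMod p} {M : Ideal AlgInt}

theorem hq_inv (hh : Gen x e h a₀) (j : ZMod e) : (hq h j)⁻¹ = hq h (-j) := by
  refine inv_eq_of_mul_eq_one_right ?_
  rw [← hq_add hh, add_neg_cancel, hq_zero]

/-- A twisted average of `f` at conjugates of powers of `x`, times `x⁻¹`. -/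
noncomputable def beta (x : G) (e : ℕ) [NeZero e] (a₀ : ZMod p) (f : G → ℂ) (s : ZMod e) (g : G) : ℂ :=
  ∑ j : ZMod e, psiE e (-(s * j)) * f (g * xp x (a₀ ^ j.val) * g⁻¹ * xp x (-1 : ZMod p))

variable {f : G → ℂ} {s : ZMod e}

theorem beta_mul_xp (D : Data P x e t) (g : G) (k : ZMod p) :
    beta x e a₀ f s (g * xp x k) = beta x e a₀ f s g := by
  refine Finset.sum_congr rfl fun j _ => ?_
  congr 2
  rw [_root_.mul_inv_rev, show g * xp x k * xp x (a₀ ^ j.val) * ((xp x k)⁻¹ * g⁻¹) =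
    g * (xp x k * xp x (a₀ ^ j.val) * (xp x k)⁻¹) * g⁻¹ by group, ← xp_add D.pow, add_comm,
    xp_add D.pow, mul_inv_cancel_right]

theorem beta_mul_center (g : G) (z : Subgroup.center G) :
    beta x e a₀ f s (g * z) = beta x e a₀ f s g := by
  refine Finset.sum_congr rfl fun j _ => ?_
  congr 2
  rw [_root_.mul_inv_rev, show g * (z : G) * xp x (a₀ ^ j.val) * ((z : G)⁻¹ * g⁻¹) =
    g * ((z : G) * xp x (a₀ ^ j.val) * (z : G)⁻¹) * g⁻¹ by group,
    ← Subgroup.mem_center_iff.1 z.2 (xp x (a₀ ^ j.val)), mul_inv_cancel_right]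

theorem beta_x_mul (D : Data P x e t) (hf : IsClassFunction G f) (g : G) :
    beta x e a₀ f s (x * g) = beta x e a₀ f s g := by
  refine Finset.sum_congr rfl fun j _ => ?_
  congr 1
  have hc : xp x (-1 : ZMod p) * x = x * xp x (-1 : ZMod p) := by
    have h1 : xp x (1 : ZMod p) = x := xp_one
    calc xp x (-1 : ZMod p) * x = xp x (-1 : ZMod p) * xp x (1 : ZMod p) := by rw [h1]
      _ = xp x (1 : ZMod p) * xp x (-1 : ZMod p) := by rw [← xp_add D.pow, ← xp_add D.pow, add_comm]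
      _ = x * xp x (-1 : ZMod p) := by rw [h1]
  rw [← hf (g * xp x (a₀ ^ j.val) * g⁻¹ * xp x (-1 : ZMod p)) x]
  congr 1
  have hc' : x⁻¹ * xp x (-1 : ZMod p) = xp x (-1 : ZMod p) * x⁻¹ := by
    rw [inv_mul_eq_iff_eq_mul, ← mul_assoc, ← hc, mul_inv_cancel_right]
  rw [_root_.mul_inv_rev]
  simp only [mul_assoc]
  rw [hc']

theorem beta_hq (hh : Gen x e h a₀) (D : Data P x e t) (i : ZMod e) :
    beta x e a₀ f s (hq h i) = psiE e (s * i) * tau x e a₀ f s := by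
  rw [beta, tau, Finset.mul_sum]
  refine Fintype.sum_equiv (Equiv.addLeft i) _ _ fun j => ?_
  rw [Equiv.coe_addLeft, ← mul_assoc, ← AddChar.map_add_eq_mul,
    show s * i + -(s * (i + j)) = -(s * j) by ring]
  congr 2
  rw [FeitSmall.hq, hh.conj_xp D, ← pow_add,
    show (a₀ ^ (i.val + j.val) : ZMod p) = a₀ ^ (i + j).val by
      rw [ZMod.val_add, ← pow_eq_pow_mod _ hh.root.pow_eq_one], sub_eq_add_neg, xp_add D.pow]

theorem memRing_beta (hM : IsPModular p M) (hf : IsCharacter G f) (g : G) :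
    MemLocalRing M (beta x e a₀ f s g) :=
  memRing_sum hM fun j _ => (loc hM).mul_mem (memRing_psiE hM _)
    (memRing_of_isIntegral hM (isIntegral_of_char hf _))

/-- The linear form `l ↦ w ⬝ (A l)`. -/
noncomputable def dotL {d : ℕ} (w : Fin d → ℂ) (A : Matrix (Fin d) (Fin d) ℂ) : (Fin d → ℂ) →ₗ[ℂ] ℂ where
  toFun l := w ⬝ᵥ (A *ᵥ l)
  map_add' a b := by rw [Matrix.mulVec_add, dotProduct_add]
  map_smul' c a := by rw [Matrix.mulVec_smul, dotProduct_smul]; rfl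

/-- The residual configuration does not occur. -/
theorem residual_false (hh : Gen x e h a₀) (D : Data P x e t) [Fintype (P : Subgroup G)]
    [Fintype (cen (P : Subgroup G))] (hM : IsPModular p M)
    (hH : Compl (P : Subgroup G) (Subgroup.center G)) (he : Odd e) (ht : 3 ≤ t) {ζ X : IrrCharacter G}
    {b : ℕ} (hζ : Shape x e (ζ : G → ℂ) (1 : ZMod p) 1 (-1)) (hres : Residual x h p e ζ X b) : False := by
  classical
  obtain ⟨hXcen, hXone, hreal, hinner, hwt, hmult⟩ := hres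
  haveI := hM.2.1
  letI := Ideal.Quotient.field M
  haveI := res_isDomain hM
  haveI := res_charP hM
  have A := D.A
  have hp : p.Prime := Fact.out
  set d := p * b + 1 with hd
  clear_value d
  obtain ⟨R, hR⟩ : ∃ R : G →* Matrix (Fin d) (Fin d) (Wr hM),
      ∀ g, ((Matrix.trace (R g) : Wr hM) : ℂ) = (X : G → ℂ) g := by
    subst hd; exact exists_Wr_rep hh D hM hH X hXcen hwt hmult
  have hX1 : classInner (X : G → ℂ) (fun _ => 1) = 0 :=
    classInner_irr_ne X.2 (oneC G).2 fun e1 => hXone (Subtype.ext e1)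
  obtain ⟨hZ, s, v, φ, hs, hvP, hφP, hvH, hφH, hunit⟩ :=
    exists_pair hh D hM hH X hXcen hX1 hd R hR (by rw [hmult, if_pos rfl])
  have hXinv : ∀ g, (X : G → ℂ) g⁻¹ = (X : G → ℂ) g := fun g => by rw [← irr_conjInv, hreal]
  have hd0 : (d : ℂ) ≠ 0 := Nat.cast_ne_zero.2 (by omega)
  -- complex forms
  set Rc := cMat R with hRc
  have hXc : ∀ g, (Rc g).trace = (X : G → ℂ) g := fun g => by rw [hRc, cMat_trace, hR]
  let Rd : G →* Matrix (Fin d) (Fin d) ℂ :=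
    { toFun := fun g => (Rc g⁻¹)ᵀ
      map_one' := by rw [inv_one, map_one, Matrix.transpose_one]
      map_mul' := fun a c => by rw [_root_.mul_inv_rev, map_mul, Matrix.transpose_mul] }
  have hXd : ∀ g, (Rd g).trace = (X : G → ℂ) g := fun g => by
    show ((Rc g⁻¹)ᵀ).trace = _
    rw [Matrix.trace_transpose, hXc, hXinv]
  have hvC : ∀ k : ZMod p, Rc (xp x k) *ᵥ (fun i => (v i : ℂ)) = fun i => (v i : ℂ) := fun k => funext fun i => by
    conv_rhs => rw [← hvP k]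
    exact (RingHom.map_mulVec (Wr hM).subtype (R (xp x k)) v i).symm
  have hφC : ∀ k : ZMod p, (fun i => (φ i : ℂ)) ᵥ* Rc (xp x k) = fun i => (φ i : ℂ) := fun k => funext fun i => by
    conv_rhs => rw [← hφP k]
    exact (RingHom.map_vecMul (Wr hM).subtype (R (xp x k)) φ i).symm
  set vc : Fin d → ℂ := fun i => (v i : ℂ) with hvc
  set φc : Fin d → ℂ := fun i => (φ i : ℂ) with hφc
  have hvh : ∀ j : ZMod e, Rc (hq h j) *ᵥ vc = psiE e (s * j) • vc := fun j => funext fun i => by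
    rw [Pi.smul_apply, smul_eq_mul, hvc]
    refine Eq.trans ?_ (hvH j i)
    exact (RingHom.map_mulVec (Wr hM).subtype (R (hq h j)) v i).symm
  have hφh : ∀ j : ZMod e, φc ᵥ* Rc (hq h j) = psiE e (s * j) • φc := fun j => funext fun i => by
    rw [Pi.smul_apply, smul_eq_mul, hφc]
    refine Eq.trans ?_ (hφH j i)
    exact (RingHom.map_vecMul (Wr hM).subtype (R (hq h j)) φ i).symm
  have hZc : ∀ z : Subgroup.center G, Rc (z : G) = 1 := fun z => by
    rw [hRc, cMat_apply, hZ, Matrix.map_one _ rfl rfl]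
  have hloc : ∀ g i j, MemLocalRing M (Rc g i j) := fun g i j => memRing_Wr hM (R g i j).2
  have hlv : ∀ i, MemLocalRing M (vc i) := fun i => memRing_Wr hM (v i).2
  have hlφ : ∀ i, MemLocalRing M (φc i) := fun i => memRing_Wr hM (φ i).2
  have hmv : ∀ (B : Matrix (Fin d) (Fin d) ℂ) (w : Fin d → ℂ), (∀ i j, MemLocalRing M (B i j)) →
      (∀ i, MemLocalRing M (w i)) → ∀ i, MemLocalRing M ((B *ᵥ w) i) := fun B w hB hw i =>
    show MemLocalRing M (∑ j, B i j * w j) from memRing_sum hM fun j _ => (loc hM).mul_mem (hB i j) (hw j)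
  have hdot : ∀ (w w' : Fin d → ℂ), (∀ i, MemLocalRing M (w i)) → (∀ i, MemLocalRing M (w' i)) →
      MemLocalRing M (w ⬝ᵥ w') := fun w w' hw hw' =>
    memRing_sum hM fun j _ => (loc hM).mul_mem (hw j) (hw' j)
  -- the bilinear forms
  haveI := Wr_dvr hM
  obtain ⟨J₀, hJ₀, k₀, l₀, hJne⟩ : ∃ J₀ : Matrix (Fin d) (Fin d) (Wr hM),
      (∀ g, (R g)ᵀ * J₀ * R g = J₀) ∧ ∃ k l, J₀ k l ≠ 0 := by
    let Jkl : Fin d → Fin d → Matrix (Fin d) (Fin d) (Wr hM) := fun k l =>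
      ∑ g : G, (R g)ᵀ * Matrix.single k l 1 * R g
    by_contra hno
    push Not at hno
    have h0 : ∀ k l, Jkl k l k l = 0 := fun k l => hno (Jkl k l) (fun a => by
      simp only [Jkl, Finset.mul_sum, Finset.sum_mul]
      refine Fintype.sum_equiv (Equiv.mulRight a) _ _ fun g => ?_
      rw [Equiv.coe_mulRight, map_mul, Matrix.transpose_mul]
      simp only [Matrix.mul_assoc]) k l
    have h1 : ∑ k : Fin d, ∑ l : Fin d, Jkl k l k l = ∑ g : G, (R g).trace * (R g).trace := by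
      simp only [Jkl, Matrix.sum_apply]
      rw [Finset.sum_congr rfl fun k _ => Finset.sum_comm, Finset.sum_comm]
      refine Finset.sum_congr rfl fun g _ => ?_
      rw [Matrix.trace, Finset.sum_mul_sum]
      refine Finset.sum_congr rfl fun k _ => Finset.sum_congr rfl fun l _ => ?_
      rw [Matrix.mul_apply, Finset.sum_eq_single l (fun m _ hm => by
        rw [Matrix.mul_single_apply_of_ne _ _ _ _ _ hm, zero_mul]) (fun h' => absurd (mem_univ _) h'),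
        Matrix.mul_single_apply_same, mul_one, Matrix.transpose_apply]
      rfl
    rw [Finset.sum_eq_zero fun k _ => Finset.sum_eq_zero fun l _ => h0 k l] at h1
    have h2 := congrArg (fun w : Wr hM => (w : ℂ)) h1
    simp only [ZeroMemClass.coe_zero, AddSubmonoidClass.coe_finsetSum, Subring.coe_mul, hR] at h2
    have h3 := classInner_irr_self X.2
    simp only [classInner, hreal] at h3
    rw [← h2, mul_zero] at h3
    exact zero_ne_one h3
  have hexm : ∃ m : ℕ, ∃ k l u, (u ∈ Wr hM ∧ res hM u ≠ 0) ∧ (J₀ k l : ℂ) = (p : ℂ) ^ m * u := by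
    obtain ⟨m, u, hu, hu0, hmu⟩ := Wr_factor hM (J₀ k₀ l₀).2 fun h0 => hJne (Subtype.ext h0)
    exact ⟨m, k₀, l₀, u, ⟨hu, hu0⟩, hmu⟩
  obtain ⟨iJ, jJ, uJ, ⟨huJ, huJ0⟩, hJij⟩ := Nat.find_spec hexm
  set m₀ := Nat.find hexm with hm₀
  have hdvd : ∀ k l, ∃ q : Wr hM, J₀ k l = (p : Wr hM) ^ m₀ * q := by
    intro k l
    by_cases h0 : J₀ k l = 0
    · exact ⟨0, by rw [h0, mul_zero]⟩
    obtain ⟨m, u, hu, hu0, hmu⟩ := Wr_factor hM (J₀ k l).2 fun h' => h0 (Subtype.ext h')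
    have hle : m₀ ≤ m := Nat.find_le ⟨k, l, u, ⟨hu, hu0⟩, hmu⟩
    refine ⟨(p : Wr hM) ^ (m - m₀) * ⟨u, hu⟩, Subtype.ext ?_⟩
    push_cast
    rw [← mul_assoc, ← pow_add, Nat.add_sub_cancel' hle]
    exact hmu
  choose J hJ using hdvd
  have hJeq : J₀ = (p : Wr hM) ^ m₀ • Matrix.of J := Matrix.ext hJ
  have hJinvW : ∀ g, (R g)ᵀ * Matrix.of J * R g = Matrix.of J := fun g => by
    have h1 := hJ₀ g
    rw [hJeq, Matrix.mul_smul, Matrix.smul_mul] at h1
    exact smul_right_injective _ (pow_ne_zero _ (Wr_p_ne_zero hM)) h1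
  have hunitJ : res hM (J iJ jJ : ℂ) ≠ 0 := by
    have h1 := congrArg (fun w : Wr hM => (w : ℂ)) (hJ iJ jJ)
    simp only [hJij] at h1
    push_cast at h1
    rw [← mul_left_cancel₀ (pow_ne_zero _ (Nat.cast_ne_zero.2 hp.ne_zero)) h1]
    exact huJ0
  set Jc : Matrix (Fin d) (Fin d) ℂ := (Matrix.of J).map (Subtype.val : Wr hM → ℂ) with hJc
  have hJinv : ∀ g, (Rc g)ᵀ * Jc * Rc g = Jc := fun g => by
    conv_rhs => rw [hJc, ← hJinvW g]
    show ((R g).map (Wr hM).subtype)ᵀ * (Matrix.of J).map (Wr hM).subtype * (R g).map (Wr hM).subtype = _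
    rw [← Matrix.transpose_map, ← Matrix.map_mul, ← Matrix.map_mul]
    rfl
  have hlJ : ∀ i j, MemLocalRing M (Jc i j) := fun i j => memRing_Wr hM (J i j).2
  set J' : Matrix (Fin d) (Fin d) ℂ := ∑ g : G, Rc g * Matrix.single jJ iJ 1 * (Rc g)ᵀ with hJ'
  have hlJ' : ∀ i j, MemLocalRing M (J' i j) := fun i j => by
    rw [hJ', Matrix.sum_apply]
    refine memRing_sum hM fun g _ => ?_
    rw [Matrix.mul_apply]
    refine memRing_sum hM fun l _ => (loc hM).mul_mem ?_ (hloc g j l)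
    rw [Matrix.mul_apply]
    refine memRing_sum hM fun m _ => (loc hM).mul_mem (hloc g i m) ?_
    rw [Matrix.single_apply]
    split_ifs
    exacts [(loc hM).one_mem, (loc hM).zero_mem]
  have hJd : ∀ g, Jc * Rc g = Rd g * Jc := fun g => by
    show _ = (Rc g⁻¹)ᵀ * Jc
    conv_rhs => rw [← hJinv g]
    rw [← Matrix.mul_assoc, ← Matrix.mul_assoc, ← Matrix.transpose_mul, ← map_mul, mul_inv_cancel, map_one,
      Matrix.transpose_one, Matrix.one_mul]
  have hJ'inv : ∀ g, Rc g * J' * (Rc g)ᵀ = J' := fun g => by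
    rw [hJ', Finset.mul_sum, Finset.sum_mul]
    refine Fintype.sum_equiv (Equiv.mulLeft g) _ _ fun c => ?_
    rw [Equiv.coe_mulLeft, map_mul, Matrix.transpose_mul]
    simp only [Matrix.mul_assoc]
  have hJ'd : ∀ g, J' * Rd g = Rc g * J' := fun g => by
    show J' * (Rc g⁻¹)ᵀ = _
    conv_lhs => rw [← hJ'inv g]
    rw [Matrix.mul_assoc, ← Matrix.transpose_mul, ← map_mul, inv_mul_cancel, map_one, Matrix.transpose_one,
      Matrix.mul_one]
  obtain ⟨m, hGm⟩ : p ∣ Nat.card G := D.hP ▸ Subgroup.card_subgroup_dvd_card (P : Subgroup G)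
  have hpm : ¬ p ∣ m := fun hd' => by
    have h1 : (P : Subgroup G).index = m := by
      have h2 := Subgroup.card_mul_index (P : Subgroup G)
      rw [show Nat.card (P : Subgroup G) = p from D.hP, hGm] at h2
      exact Nat.eq_of_mul_eq_mul_left hp.pos h2
    exact P.not_dvd_index (h1 ▸ hd')
  set κ : ℂ := (p : ℂ) * ((m : ℂ) * (J iJ jJ : ℂ)) / d with hκ
  have hJ'J : J' * Jc = κ • 1 := by
    have h1 := scalar_of_commute (by omega) Rc X hXc (S := J' * Jc) fun g => by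
      rw [Matrix.mul_assoc, hJd, ← Matrix.mul_assoc, hJ'd, Matrix.mul_assoc]
    rw [h1, hκ]
    congr 2
    rw [hJ', Finset.sum_mul, Matrix.trace_sum, Finset.sum_congr rfl fun g _ => show
      (Rc g * Matrix.single jJ iJ (1 : ℂ) * (Rc g)ᵀ * Jc).trace = (J iJ jJ : ℂ) by
        rw [Matrix.mul_assoc, Matrix.mul_assoc, Matrix.trace_mul_comm, Matrix.mul_assoc, hJinv,
          Matrix.trace_single_mul, one_smul]
        rfl, sum_const, card_univ, ← Nat.card_eq_fintype_card, hGm, nsmul_eq_mul, Nat.cast_mul, mul_assoc]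
  have hκ0 : κ ≠ 0 := by
    refine div_ne_zero (mul_ne_zero (Nat.cast_ne_zero.2 hp.ne_zero) (mul_ne_zero
      (Nat.cast_ne_zero.2 fun h0 => hpm (h0 ▸ dvd_zero p)) fun h0 => hunitJ ?_)) hd0
    rw [h0, res_zero]
  have hJJ' : Jc * J' = κ • 1 := by
    have h1 : (κ⁻¹ • J') * Jc = 1 := by rw [Matrix.smul_mul, hJ'J, smul_smul, inv_mul_cancel₀ hκ0, one_smul]
    have h2 := mul_eq_one_comm.1 h1
    rw [Matrix.mul_smul, inv_smul_eq_iff₀ hκ0] at h2
    exact h2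
  -- the maps into the endomorphisms
  obtain ⟨dζ, ρ, hρirr, hρ⟩ := id ζ.2
  set Ad := Representation.linHom ρ ρ with hAd
  have hchAd : ∀ g, Ad.character g = (ζ : G → ℂ) g⁻¹ * (ζ : G → ℂ) g := fun g => by
    rw [hAd, Representation.char_linHom, hρ]
  have hone : ∀ {Q : G →* Matrix (Fin d) (Fin d) ℂ}, (∀ g, (Q g).trace = (X : G → ℂ) g) →
      ∑ g, Ad.character g * (matRep Q).character g⁻¹ = Nat.card G := by
    intro Q hQ
    simp only [hchAd, matRep_character, hQ]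
    have h1 := hinner
    rw [classInner, inv_mul_eq_iff_eq_mul₀ (Nat.cast_ne_zero.2 Nat.card_pos.ne'), mul_one] at h1
    rw [← h1]
    refine Finset.sum_congr rfl fun g _ => ?_
    rw [irr_conjInv, irr_conjInv, hXinv]
    ring
  let Mw : ZMod e → Module.End ℂ (Fin dζ → ℂ) := fun s =>
    ∑ j : ZMod e, psiE e (-(s * j)) • ρ (xp x (a₀ ^ j.val))
  let tA : Module.End ℂ (Fin dζ → ℂ) →ₗ[ℂ] ℂ :=
    (LinearMap.trace ℂ _).comp (LinearMap.mulRight ℂ (ρ (xp x (-1 : ZMod p))))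
  have htA : ∀ (s : ZMod e) (g : G), tA (ρ g * Mw s * ρ g⁻¹) = beta x e a₀ (ζ : G → ℂ) s g := by
    intro s g
    simp only [tA, Mw, LinearMap.comp_apply, LinearMap.mulRight_apply, Finset.mul_sum, Finset.sum_mul,
      mul_smul_comm, smul_mul_assoc, map_sum, map_smul, smul_eq_mul, ← map_mul, beta, ← hρ,
      Representation.character]
  let T1 : (Fin d → ℂ) →ₗ[ℂ] Module.End ℂ (Fin dζ → ℂ) :=
    ∑ g : G, (dotL φc (Rc g⁻¹)).smulRight (ρ g * Mw s * ρ g⁻¹)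
  let T2 : (Fin d → ℂ) →ₗ[ℂ] Module.End ℂ (Fin dζ → ℂ) :=
    ∑ g : G, (dotL (Rc g *ᵥ vc) 1).smulRight (ρ g * Mw (-s) * ρ g⁻¹)
  have hT1 : ∀ a l, T1 (matRep Rc a l) = Ad a (T1 l) := by
    intro a l
    simp only [T1, LinearMap.sum_apply, LinearMap.smulRight_apply, map_sum, map_smul, matRep_apply]
    refine Fintype.sum_equiv (Equiv.mulLeft a⁻¹) _ _ fun g => ?_
    rw [Equiv.coe_mulLeft]
    congr 1
    · show φc ⬝ᵥ (Rc g⁻¹ *ᵥ (Rc a *ᵥ l)) = φc ⬝ᵥ (Rc (a⁻¹ * g)⁻¹ *ᵥ l)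
      rw [Matrix.mulVec_mulVec, ← map_mul, _root_.mul_inv_rev, inv_inv]
    · show _ = ρ a * (ρ (a⁻¹ * g) * Mw s * ρ (a⁻¹ * g)⁻¹) * ρ a⁻¹
      rw [_root_.mul_inv_rev, inv_inv, map_mul, map_mul]
      simp only [← mul_assoc, ← map_mul, mul_inv_cancel, map_one, one_mul]
      rw [mul_assoc _ _ (ρ a⁻¹), ← map_mul, mul_inv_cancel_right]
  have hT2 : ∀ a l, T2 (matRep Rd a l) = Ad a (T2 l) := by
    intro a l
    simp only [T2, LinearMap.sum_apply, LinearMap.smulRight_apply, map_sum, map_smul, matRep_apply]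
    refine Fintype.sum_equiv (Equiv.mulLeft a⁻¹) _ _ fun g => ?_
    rw [Equiv.coe_mulLeft]
    congr 1
    · show (Rc g *ᵥ vc) ⬝ᵥ ((1 : Matrix (Fin d) (Fin d) ℂ) *ᵥ ((Rc a⁻¹)ᵀ *ᵥ l)) =
        (Rc (a⁻¹ * g) *ᵥ vc) ⬝ᵥ ((1 : Matrix (Fin d) (Fin d) ℂ) *ᵥ l)
      rw [Matrix.one_mulVec, Matrix.one_mulVec, Matrix.dotProduct_mulVec, Matrix.vecMul_transpose,
        Matrix.mulVec_mulVec, ← map_mul]
    · show _ = ρ a * (ρ (a⁻¹ * g) * Mw (-s) * ρ (a⁻¹ * g)⁻¹) * ρ a⁻¹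
      rw [_root_.mul_inv_rev, inv_inv, map_mul, map_mul]
      simp only [← mul_assoc, ← map_mul, mul_inv_cancel, map_one, one_mul]
      rw [mul_assoc _ _ (ρ a⁻¹), ← map_mul, mul_inv_cancel_right]
  have htT1 : ∀ l, tA (T1 l) = ∑ g : G, (φc ⬝ᵥ (Rc g⁻¹ *ᵥ l)) * beta x e a₀ (ζ : G → ℂ) s g := fun l => by
    simp only [T1, LinearMap.sum_apply, LinearMap.smulRight_apply, map_sum, map_smul, htA, smul_eq_mul]
    rfl
  have htT2 : ∀ l, tA (T2 l) = ∑ g : G, ((Rc g *ᵥ vc) ⬝ᵥ l) * beta x e a₀ (ζ : G → ℂ) (-s) g := fun l => by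
    simp only [T2, LinearMap.sum_apply, LinearMap.smulRight_apply, map_sum, map_smul, htA, smul_eq_mul]
    refine Finset.sum_congr rfl fun g _ => ?_
    show ((Rc g *ᵥ vc) ⬝ᵥ ((1 : Matrix (Fin d) (Fin d) ℂ) *ᵥ l)) * _ = _
    rw [Matrix.one_mulVec]
  -- evaluation
  obtain ⟨n₀, hn₀, hsg⟩ := D.sum_group
  have hβ := fun (s : ZMod e) (g : G) =>
    memRing_beta (x := x) (a₀ := a₀) (s := s) hM (isCharacter_of_irr ζ.2) g
  have heval : ∀ (F : G → ℂ) (a : ℂ), (∀ g, MemLocalRing M (F g)) → (∀ g, ∀ k : ZMod p, F (g * xp x k) = F g) →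
      (∀ g, F (x * g) = F g) → (∀ g, ∀ z : Subgroup.center G, F (g * z) = F g) → (∀ j : ZMod e, F (hq h j) = a) →
      ∃ z, MemLocalRing M z ∧ ∑ g, F g = (p : ℂ) * ((n₀ : ℂ) * a + (p : ℂ) * z) := by
    intro F a hF hright hleft hcen' hhq
    obtain ⟨S, hS⟩ := hsg F a (fun g y hy => by obtain ⟨k, rfl⟩ := D.exists_xp hy; exact hright g k)
      (fun n hn => by obtain ⟨j, k, z, rfl⟩ := D.exists_decomp hh hH hn; rw [hcen', hright, hhq])
    refine ⟨∑ g ∈ S, F g, memRing_sum hM fun g _ => hF g, ?_⟩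
    have h1 : ∀ g, ∀ i : ℕ, F (x ^ i * g) = F g := fun g i => by
      induction i with
      | zero => rw [pow_zero, one_mul]
      | succ i ih => rw [pow_succ', mul_assoc, hleft, ih]
    simp only [hS, h1, sum_const, card_range, nsmul_eq_mul, Finset.mul_sum]
  have hlT1 : ∀ (l : Fin d → ℂ), (∀ i, MemLocalRing M (l i)) → (∀ k : ZMod p, Rc (xp x k) *ᵥ l = l) →
      ∀ a, (∀ j : ZMod e, (φc ⬝ᵥ (Rc (hq h (-j)) *ᵥ l)) * psiE e (s * j) = a) →
      ∃ z, MemLocalRing M z ∧ tA (T1 l) = (p : ℂ) * ((n₀ : ℂ) * (a * tau x e a₀ (ζ : G → ℂ) s) + (p : ℂ) * z) := by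
    intro l hl hfix a ha
    rw [htT1]
    refine heval _ _ (fun g => (loc hM).mul_mem (hdot _ _ hlφ (hmv _ _ (hloc _) hl)) (hβ s g))
      (fun g k => ?_) (fun g => ?_) (fun g z => ?_) (fun j => ?_)
    · rw [beta_mul_xp D, _root_.mul_inv_rev, map_mul, ← Matrix.mulVec_mulVec, Matrix.dotProduct_mulVec φc,
        show (xp x k)⁻¹ = xp x (-k) by
          refine inv_eq_of_mul_eq_one_right ?_
          rw [← xp_add D.pow, add_neg_cancel, xp_zero], hφC]
    · rw [beta_x_mul D (isClassFunction_irr ζ.2), _root_.mul_inv_rev, map_mul, ← Matrix.mulVec_mulVec l,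
        show x⁻¹ = xp x (-1 : ZMod p) by
          refine inv_eq_of_mul_eq_one_right ?_
          conv_lhs => arg 1; rw [← xp_one (p := p) (x := x)]
          rw [← xp_add D.pow, add_neg_cancel, xp_zero], hfix]
    · rw [beta_mul_center, _root_.mul_inv_rev, map_mul, ← Subgroup.coe_inv, hZc, Matrix.one_mul]
    · rw [beta_hq hh D, ← mul_assoc, hq_inv hh, ha j]
  have hlT2 : ∀ (l : Fin d → ℂ), (∀ i, MemLocalRing M (l i)) → (∀ k : ZMod p, l ᵥ* Rc (xp x k) = l) →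
      ∀ a, (∀ j : ZMod e, ((Rc (hq h j) *ᵥ vc) ⬝ᵥ l) * psiE e (-s * j) = a) →
      ∃ z, MemLocalRing M z ∧
        tA (T2 l) = (p : ℂ) * ((n₀ : ℂ) * (a * tau x e a₀ (ζ : G → ℂ) (-s)) + (p : ℂ) * z) := by
    intro l hl hfix a ha
    rw [htT2]
    refine heval _ _ (fun g => (loc hM).mul_mem (hdot _ _ (hmv _ _ (hloc _) hlv) hl) (hβ (-s) g))
      (fun g k => ?_) (fun g => ?_) (fun g z => ?_) (fun j => ?_)
    · rw [beta_mul_xp D, map_mul, ← Matrix.mulVec_mulVec, hvC]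
    · rw [beta_x_mul D (isClassFunction_irr ζ.2), map_mul, ← Matrix.mulVec_mulVec, dotProduct_comm,
        Matrix.dotProduct_mulVec, show Rc x = Rc (xp x (1 : ZMod p)) by rw [xp_one], hfix, dotProduct_comm]
    · rw [beta_mul_center, map_mul, hZc, Matrix.mul_one]
    · rw [beta_hq hh D, ← mul_assoc, ha j]
  have h2s : s + s ≠ 0 := fun h0 => hs (by
    obtain ⟨q, hq⟩ := he
    have h2 : ((2 * (q + 1) : ℕ) : ZMod e) * s = s := by
      rw [show ((2 * (q + 1) : ℕ) : ZMod e) = ((e + 1 : ℕ) : ZMod e) by congr 1; omega, Nat.cast_add,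
        ZMod.natCast_self, zero_add, Nat.cast_one, one_mul]
    rw [← h2, Nat.cast_mul, mul_comm ((2 : ℕ) : ZMod e), mul_assoc, show ((2 : ℕ) : ZMod e) * s = 0 by
      rw [Nat.cast_ofNat, two_mul, h0], mul_zero])
  have hψne : psiE e ((s + s) * 1) ≠ 1 := by
    rw [mul_one]
    intro h0
    exact h2s (ZMod.injective_stdAddChar (h0.trans (AddChar.map_zero_eq_one _).symm))
  -- the four values
  obtain ⟨z₁, hz₁, hav⟩ := hlT1 vc hlv hvC (φc ⬝ᵥ vc) fun j => by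
    rw [hvh, dotProduct_smul, smul_eq_mul, mul_comm, ← mul_assoc, ← AddChar.map_add_eq_mul, mul_neg,
      add_neg_cancel, AddChar.map_zero_eq_one, one_mul]
  obtain ⟨z₂, hz₂, hbφ⟩ := hlT2 φc hlφ hφC (φc ⬝ᵥ vc) fun j => by
    rw [hvh, smul_dotProduct, smul_eq_mul, mul_right_comm, ← AddChar.map_add_eq_mul, neg_mul,
      add_neg_cancel, AddChar.map_zero_eq_one, one_mul, dotProduct_comm]
  set w := J' *ᵥ φc with hw
  have hwh : ∀ j : ZMod e, Rc (hq h j) *ᵥ w = psiE e (-(s * j)) • w := fun j => by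
    rw [hw, Matrix.mulVec_mulVec, ← hJ'd, ← Matrix.mulVec_mulVec,
      show Rd (hq h j) *ᵥ φc = psiE e (-(s * j)) • φc by
        show (Rc (hq h j)⁻¹)ᵀ *ᵥ φc = _
        rw [Matrix.mulVec_transpose, hq_inv hh, hφh, mul_neg], Matrix.mulVec_smul]
  have hwP : ∀ k : ZMod p, Rc (xp x k) *ᵥ w = w := fun k => by
    rw [hw, Matrix.mulVec_mulVec, ← hJ'd, ← Matrix.mulVec_mulVec,
      show Rd (xp x k) *ᵥ φc = φc by
        show (Rc (xp x k)⁻¹)ᵀ *ᵥ φc = _
        rw [Matrix.mulVec_transpose, show (xp x k)⁻¹ = xp x (-k) by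
          refine inv_eq_of_mul_eq_one_right ?_
          rw [← xp_add D.pow, add_neg_cancel, xp_zero], hφC]]
  have hφw : φc ⬝ᵥ w = 0 := by
    have e1 := Matrix.dotProduct_mulVec φc (Rc (hq h (1 : ZMod e))) w
    rw [hwh, hφh, dotProduct_smul, smul_dotProduct, smul_eq_mul, smul_eq_mul] at e1
    by_contra hne
    have e2 := mul_right_cancel₀ hne e1
    refine hψne ?_
    rw [add_mul, AddChar.map_add_eq_mul]
    conv_lhs => arg 1; rw [← e2]
    rw [← AddChar.map_add_eq_mul, neg_add_cancel, AddChar.map_zero_eq_one]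
  obtain ⟨z₃, hz₃, haw⟩ := hlT1 w (hmv _ _ hlJ' hlφ) hwP 0 fun j => by
    rw [hwh, dotProduct_smul, hφw, smul_zero, zero_mul]
  set u₀ := Jc *ᵥ vc with hu₀
  have hu₀P : ∀ k : ZMod p, u₀ ᵥ* Rc (xp x k) = u₀ := fun k => by
    rw [← Matrix.mulVec_transpose, hu₀]
    conv_lhs => arg 2; arg 2; rw [← hvC k]
    rw [Matrix.mulVec_mulVec, Matrix.mulVec_mulVec, hJinv]
  have hvu : vc ⬝ᵥ u₀ = 0 := by
    have e1 : (Rc (hq h (1 : ZMod e)) *ᵥ vc) ⬝ᵥ (Jc *ᵥ (Rc (hq h (1 : ZMod e)) *ᵥ vc)) = vc ⬝ᵥ (Jc *ᵥ vc) := by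
      rw [dotProduct_comm, Matrix.dotProduct_mulVec, ← Matrix.mulVec_transpose, Matrix.mulVec_mulVec,
        Matrix.mulVec_mulVec, hJinv, dotProduct_comm]
    rw [hvh, Matrix.mulVec_smul, dotProduct_smul, smul_dotProduct, smul_eq_mul, smul_eq_mul, ← mul_assoc,
      ← AddChar.map_add_eq_mul, ← add_mul] at e1
    by_contra hne
    exact hψne (mul_right_cancel₀ hne (e1.trans (one_mul _).symm))
  obtain ⟨z₄, hz₄, hbu⟩ := hlT2 u₀ (hmv _ _ hlJ hlv) hu₀P 0 fun j => by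
    rw [hvh, smul_dotProduct, hvu, smul_zero, zero_mul]
  -- the units
  obtain ⟨y₁, y₁', hy₁, hy₁', hy₁0, hτ₁⟩ := tau_eq hM A (by omega) hh.root hζ hs
  obtain ⟨y₂, y₂', hy₂, hy₂', hy₂0, hτ₂⟩ := tau_eq hM A (by omega) hh.root hζ (neg_ne_zero.2 hs)
  obtain ⟨hπ, hπ0, hπne, u, hu, hu0, hpu⟩ := piC_facts (p := p) hM
  set π := piC p with hπdef
  have h2e : 2 * e + 1 ≤ p - 1 := by
    have h1 := A.mul; have h2 := A.epos
    have := Nat.mul_le_mul_right e ht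
    omega
  obtain ⟨k₁, hk₁⟩ : ∃ k₁, p - 1 = e + (k₁ + 1) := ⟨p - 1 - e - 1, by omega⟩
  obtain ⟨k₂, hk₂⟩ : ∃ k₂, p - 1 = e + e + (k₂ + 1) := ⟨p - 1 - e - e - 1, by omega⟩
  set c := φc ⬝ᵥ vc with hc
  have hcm : MemLocalRing M c := hdot _ _ hlφ hlv
  have hc0 : res hM c ≠ 0 := by
    rw [show c = ((φ ⬝ᵥ v : Wr hM) : ℂ) from ((RingHom.map_dotProduct (Wr hM).subtype φ v)).symm]
    exact hunit
  have hU : ∀ (y y' z : ℂ), MemLocalRing M y → MemLocalRing M y' → MemLocalRing M z → res hM y ≠ 0 →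
      ∃ U, MemLocalRing M U ∧ res hM U ≠ 0 ∧
        (n₀ : ℂ) * (c * (π ^ e * y + π ^ (e + 1) * y')) + (p : ℂ) * z = π ^ e * U := by
    intro y y' z hy hy' hz hy0
    have hA : MemLocalRing M ((n₀ : ℂ) * (c * y)) :=
      (loc hM).mul_mem (memRing_natCast hM _) ((loc hM).mul_mem hcm hy)
    have hB' : MemLocalRing M ((n₀ : ℂ) * (c * y') + π ^ k₁ * u * z) :=
      (loc hM).add_mem ((loc hM).mul_mem (memRing_natCast hM _) ((loc hM).mul_mem hcm hy'))
        ((loc hM).mul_mem ((loc hM).mul_mem ((loc hM).pow_mem hπ _) hu) hz)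
    refine ⟨(n₀ : ℂ) * (c * y) + π * ((n₀ : ℂ) * (c * y') + π ^ k₁ * u * z),
      (loc hM).add_mem hA ((loc hM).mul_mem hπ hB'), ?_, ?_⟩
    · rw [res_add hM hA ((loc hM).mul_mem hπ hB'), res_mul hM hπ hB', hπ0, zero_mul, add_zero,
        res_mul hM (memRing_natCast hM _) ((loc hM).mul_mem hcm hy), res_mul hM hcm hy, res_natCast]
      exact mul_ne_zero (fun h0 => hn₀ ((CharP.cast_eq_zero_iff _ p _).1 h0)) (mul_ne_zero hc0 hy0)
    · rw [hpu, hk₁]; ring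
  obtain ⟨U₁, hU₁, hU₁0, hU₁e⟩ := hU y₁ y₁' z₁ hy₁ hy₁' hz₁ hy₁0
  obtain ⟨U₂, hU₂, hU₂0, hU₂e⟩ := hU y₂ y₂' z₂ hy₂ hy₂' hz₂ hy₂0
  rw [hτ₁, hU₁e] at hav
  rw [hτ₂, hU₂e] at hbφ
  rw [zero_mul, mul_zero, zero_add] at haw hbu
  have hp0 : (p : ℂ) ≠ 0 := Nat.cast_ne_zero.2 hp.ne_zero
  have hne : ∀ U : ℂ, res hM U ≠ 0 → (p : ℂ) * (π ^ e * U) ≠ 0 := fun U hU' =>
    mul_ne_zero hp0 (mul_ne_zero (pow_ne_zero _ hπne) fun h0 => hU' (by rw [h0, res_zero]))
  have hT10 : T1 ≠ 0 := fun h0 => hne U₁ hU₁0 (by rw [← hav, h0, LinearMap.zero_apply, map_zero])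
  have hT20 : T2 ≠ 0 := fun h0 => hne U₂ hU₂0 (by rw [← hbφ, h0, LinearMap.zero_apply, map_zero])
  -- proportionality
  obtain ⟨c₁, hc₁⟩ := proportional (matRep Rd) Ad (hone hXd) (T := T2) (S := T1.comp (Matrix.toLin' J'))
    hT2 (fun g l => by
      rw [LinearMap.comp_apply, LinearMap.comp_apply, Matrix.toLin'_apply, Matrix.toLin'_apply, matRep_apply,
        Matrix.mulVec_mulVec, hJ'd, ← Matrix.mulVec_mulVec, ← hT1, matRep_apply]) hT20
  obtain ⟨c₂, hc₂⟩ := proportional (matRep Rc) Ad (hone hXc) (T := T1) (S := T2.comp (Matrix.toLin' Jc))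
    hT1 (fun g l => by
      rw [LinearMap.comp_apply, LinearMap.comp_apply, Matrix.toLin'_apply, Matrix.toLin'_apply, matRep_apply,
        Matrix.mulVec_mulVec, hJd, ← Matrix.mulVec_mulVec, ← hT2, matRep_apply]) hT10
  have e1 : tA (T1 w) = c₁ * tA (T2 φc) := by
    have h1 : T1 w = c₁ • T2 φc := LinearMap.congr_fun hc₁ φc
    rw [h1, map_smul, smul_eq_mul]
  have e2 : tA (T2 u₀) = c₂ * tA (T1 vc) := by
    have h1 : T2 u₀ = c₂ • T1 vc := LinearMap.congr_fun hc₂ vc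
    rw [h1, map_smul, smul_eq_mul]
  have e3 : κ * tA (T2 φc) = c₂ * (c₁ * tA (T2 φc)) := by
    have h1 : T2 (Jc *ᵥ w) = c₂ • T1 w := LinearMap.congr_fun hc₂ w
    rw [hw, Matrix.mulVec_mulVec, hJJ', Matrix.smul_mulVec, Matrix.one_mulVec, map_smul, ← hw] at h1
    have h2 : tA (κ • T2 φc) = tA (c₂ • T1 w) := by rw [h1]
    rwa [map_smul, map_smul, smul_eq_mul, smul_eq_mul, e1] at h2
  have e4 : tA (T1 w) * tA (T2 u₀) = κ * tA (T2 φc) * tA (T1 vc) := by rw [e1, e2, e3]; ring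
  rw [haw, hbu, hbφ, hav, hκ] at e4
  have e5 : (m : ℂ) * (J iJ jJ : ℂ) * (U₁ * U₂) = π * (π ^ k₂ * u * (z₃ * z₄ * d)) := by
    field_simp at e4
    have hp1 : (p : ℂ) = π ^ e * π ^ e * (π * (π ^ k₂ * u)) := by rw [hpu, hk₂]; ring
    refine mul_left_cancel₀ (mul_ne_zero (pow_ne_zero e hπne) (pow_ne_zero e hπne)) ?_
    linear_combination -e4 + z₃ * z₄ * (d : ℂ) * hp1
  have hrest : MemLocalRing M (π ^ k₂ * u * (z₃ * z₄ * (d : ℂ))) :=
    (loc hM).mul_mem ((loc hM).mul_mem ((loc hM).pow_mem hπ _) hu)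
      ((loc hM).mul_mem ((loc hM).mul_mem hz₃ hz₄) (memRing_natCast hM _))
  have e6 := congrArg (res hM) e5
  have hJm : MemLocalRing M (J iJ jJ : ℂ) := memRing_Wr hM (J iJ jJ).2
  rw [res_mul hM hπ hrest, hπ0, zero_mul, res_mul hM ((loc hM).mul_mem (memRing_natCast hM _) hJm)
    ((loc hM).mul_mem hU₁ hU₂), res_mul hM (memRing_natCast hM _) hJm, res_mul hM hU₁ hU₂,
    res_natCast] at e6
  exact mul_ne_zero (mul_ne_zero (fun h0 => hpm ((CharP.cast_eq_zero_iff _ p _).1 h0)) hunitJ)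
    (mul_ne_zero hU₁0 hU₂0) e6

end CfsgLib.FeitSmall
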