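import Cfsg.Agent.Lib.CharTheory.Basic

/-!
# The symmetric square of a character
-/

namespace CfsgLib.FeitSmall

open Cfsg CfsgLib.CharTheory

universe u

variable {G : Type u} [Group G]

/-- The symmetric matrices. -/
def symMat (n : ℕ) : Submodule ℂ (Matrix (Fin n) (Fin n) ℂ) where
  carrier := {X | X.transpose = X}
  add_mem' := fun {a b} (ha : a.transpose = a) (hb : b.transpose = b) => by
    show (a + b).transpose = a + b
    rw [Matrix.transpose_add, ha, hb]
  zero_mem' := by simp
  smul_mem' := fun c a (ha : a.transpose = a) => by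
    show (c • a).transpose = c • a
    rw [Matrix.transpose_smul, ha]

/-- The symmetric square of a character is a character. -/
theorem isCharacter_symSq' {χ : G → ℂ} (hχ : IsCharacter G χ) :
    IsCharacter G fun g => (χ g ^ 2 + χ (g * g)) / 2 := by
  classical
  obtain ⟨n, ρ, rfl⟩ := hχ
  set M : G → Matrix (Fin n) (Fin n) ℂ := fun g => LinearMap.toMatrix' (ρ g) with hM
  have hM1 : M 1 = 1 := by simp [hM, map_one, Module.End.one_eq_id]
  have hMm : ∀ g h, M (g * h) = M g * M h := fun g h => by
    simp [hM, map_mul, Module.End.mul_eq_comp, LinearMap.toMatrix'_comp]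
  let act : G → Matrix (Fin n) (Fin n) ℂ →ₗ[ℂ] Matrix (Fin n) (Fin n) ℂ := fun g =>
    { toFun := fun X => M g * X * (M g).transpose
      map_add' := fun X Y => by simp [mul_add, add_mul]
      map_smul' := fun c X => by simp }
  have hmem : ∀ g, ∀ X ∈ symMat n, act g X ∈ symMat n := by
    intro g X (hX : X.transpose = X)
    show (M g * X * (M g).transpose).transpose = M g * X * (M g).transpose
    rw [Matrix.transpose_mul, Matrix.transpose_mul, Matrix.transpose_transpose, hX, mul_assoc]
  let R : Representation ℂ G (symMat n) :=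
    { toFun := fun g => (act g).restrict (hmem g)
      map_one' := by
        refine LinearMap.ext fun X => Subtype.ext ?_
        show M 1 * (X : Matrix _ _ ℂ) * (M 1).transpose = (X : Matrix (Fin n) (Fin n) ℂ)
        rw [hM1]; simp
      map_mul' := fun g h => by
        refine LinearMap.ext fun X => Subtype.ext ?_
        show M (g * h) * (X : Matrix _ _ ℂ) * (M (g * h)).transpose =
          M g * (M h * (X : Matrix _ _ ℂ) * (M h).transpose) * (M g).transpose
        rw [hMm, Matrix.transpose_mul]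
        simp only [mul_assoc] }
  let pr : Matrix (Fin n) (Fin n) ℂ →ₗ[ℂ] symMat n :=
    { toFun := fun X => ⟨(1 / 2 : ℂ) • (X + X.transpose), by
        show ((1 / 2 : ℂ) • (X + X.transpose)).transpose = (1 / 2 : ℂ) • (X + X.transpose)
        rw [Matrix.transpose_smul, Matrix.transpose_add, Matrix.transpose_transpose, add_comm]⟩
      map_add' := fun X Y => Subtype.ext (by
        show (1 / 2 : ℂ) • (X + Y + (X + Y).transpose) =
          (1 / 2 : ℂ) • (X + X.transpose) + (1 / 2 : ℂ) • (Y + Y.transpose)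
        rw [Matrix.transpose_add, ← smul_add]; congr 1; abel)
      map_smul' := fun c X => Subtype.ext (by
        show (1 / 2 : ℂ) • (c • X + (c • X).transpose) = c • ((1 / 2 : ℂ) • (X + X.transpose))
        rw [Matrix.transpose_smul, ← smul_add, smul_comm]) }
  have hpr : pr ∘ₗ (symMat n).subtype = LinearMap.id := by
    refine LinearMap.ext fun X => Subtype.ext ?_
    show (1 / 2 : ℂ) • ((X : Matrix (Fin n) (Fin n) ℂ) + (X : Matrix (Fin n) (Fin n) ℂ).transpose) = X
    rw [show (X : Matrix (Fin n) (Fin n) ℂ).transpose = (X : Matrix (Fin n) (Fin n) ℂ) from X.2,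
      ← two_smul ℂ (X : Matrix (Fin n) (Fin n) ℂ), smul_smul]
    norm_num
  convert isCharacter_character R using 1
  funext g
  show (LinearMap.trace ℂ _ (ρ g) ^ 2 + LinearMap.trace ℂ _ (ρ (g * g))) / 2 = LinearMap.trace ℂ _ (R g)
  have htr : LinearMap.trace ℂ _ (R g) =
      LinearMap.trace ℂ _ ((symMat n).subtype ∘ₗ (R g ∘ₗ pr)) := by
    rw [LinearMap.trace_comp_comm' (R g ∘ₗ pr) (symMat n).subtype, LinearMap.comp_assoc, hpr,
      LinearMap.comp_id]
  rw [htr, LinearMap.trace_eq_matrix_trace ℂ (Matrix.stdBasis ℂ (Fin n) (Fin n))]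
  have hT : ∀ ij : Fin n × Fin n,
      (LinearMap.toMatrix (Matrix.stdBasis ℂ (Fin n) (Fin n)) (Matrix.stdBasis ℂ (Fin n) (Fin n))
        ((symMat n).subtype ∘ₗ (R g ∘ₗ pr))) ij ij =
      (M g ij.1 ij.1 * M g ij.2 ij.2 + M g ij.1 ij.2 * M g ij.2 ij.1) / 2 := by
    rintro ⟨i, j⟩
    rw [LinearMap.toMatrix_apply, Matrix.stdBasis_eq_single]
    show (M g * ((1 / 2 : ℂ) • (Matrix.single i j 1 + (Matrix.single i j (1 : ℂ)).transpose)) *
      (M g).transpose : Matrix (Fin n) (Fin n) ℂ) i j = _
    rw [Matrix.transpose_single, mul_smul_comm, smul_mul_assoc, mul_add, add_mul, Matrix.smul_apply,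
      Matrix.add_apply, smul_eq_mul]
    simp [Matrix.mul_apply, Matrix.single_apply, ite_and, Finset.sum_ite_eq, mul_ite, ite_mul]
    ring
  have hdiag : ∀ h : G, LinearMap.trace ℂ _ (ρ h) = ∑ i, M h i i := fun h => by
    rw [LinearMap.trace_eq_matrix_trace ℂ (Pi.basisFun ℂ (Fin n)), LinearMap.toMatrix_eq_toMatrix']
    rfl
  rw [Matrix.trace, Finset.sum_congr rfl fun ij _ => (Matrix.diag_apply _ _).trans (hT ij),
    Fintype.sum_prod_type, hdiag, hdiag, hMm]
  simp only [Matrix.mul_apply, ← Finset.sum_div, Finset.sum_add_distrib]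
  rw [sq, Finset.sum_mul_sum]

end CfsgLib.FeitSmall
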