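import Cfsg.Agent.Lib.FeitSmall.Weights
import Cfsg.Agent.Lib.FeitSmall.Poly
import Cfsg.Agent.Lib.FeitSmall.SymSq
import Cfsg.Agent.Lib.CharTheory.AltSquare

/-!
# Products of two members of a family with one fixed point
-/

namespace CfsgLib.FeitSmall

open Cfsg CfsgLib.CharTheory CfsgLib.SmallSylow Finset
open scoped ComplexConjugate

set_option linter.unusedVariables false
set_option linter.unusedSectionVars false

universe u

variable {p : ℕ} [Fact p.Prime] {G : Type u} [Group G] [Fintype G] {P : Sylow p G} {x : G} {e t : ℕ}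
  [NeZero e] {D : Data P x e t} {h : G} {a₀ : ZMod p}

theorem zero_div_notMem (A : Arith p e t) (a : ZMod p) : (0 : ZMod p) / a ∉ rts p e := by
  rw [zero_div]
  exact fun h0 => ne_zero_rts A.epos h0 rfl

theorem Arith.cast (A : Arith p e t) : (p : ℂ) = (t : ℂ) * e + 1 := by
  exact_mod_cast congrArg (fun n : ℕ => (n : ℂ)) A.mul.symm

theorem prod_mult_zero (A : Arith p e t) {f f' : G → ℂ} {a c : ZMod p} (ha : a ≠ 0) (hc : c ≠ 0)
    (hf : Shape x e f a 1 (-1)) (hf' : Shape x e f' c 1 (-1)) :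
    mult x (fun g => f g * f' g) (0 : ZMod p) =
      ((t : ℂ) - 2) * e + 1 + (if -c / a ∈ rts p e then (e : ℂ) else 0) := by
  rw [hf.mul A ha hc hf', cc_zero A ha, A.cast]
  push_cast
  split_ifs <;> simp <;> ring

theorem prod_wt (A : Arith p e t) (ht : 2 ≤ t) {f f' : G → ℂ} {a c : ZMod p} (ha : a ≠ 0) (hc : c ≠ 0)
    (hf : Shape x e f a 1 (-1)) (hf' : Shape x e f' c 1 (-1)) {α β : ZMod e}
    (hvf : ∀ j : ZMod e, j ≠ 0 → f (hq h j) = psiE e (α * j))
    (hvf' : ∀ j : ZMod e, j ≠ 0 → f' (hq h j) = psiE e (β * j)) (u : ZMod e) :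
    wt x h p (fun g => f g * f' g) u =
      ((t - 2 + (if -c / a ∈ rts p e then 1 else 0) + (if u = α + β then 1 else 0) : ℕ) : ℂ) := by
  have he0 : (e : ℂ) ≠ 0 := Nat.cast_ne_zero.2 (NeZero.ne e)
  rw [wt_of_values _ (α + β) (fun j hj => by
    rw [hvf j hj, hvf' j hj, ← AddChar.map_add_eq_mul, add_mul]), prod_mult_zero A ha hc hf hf',
    add_sub_assoc, Nat.cast_add, Nat.cast_add, Nat.cast_sub ht]
  split_ifs <;> field_simp <;> push_cast <;> ring

theorem sum_sub_cc (A : Arith p e t) (a c : ZMod p) (ha : a ≠ 0) (U : ℕ) (B : ZMod p → ℕ)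
    (hB : ∀ z, z ≠ 0 → B z + cc p e a c z = U) :
    (∑ z ∈ univ.erase (0 : ZMod p), B z) + e * e =
      U * (t * e) + (if -c / a ∈ rts p e then e else 0) := by
  have h1 : ∑ z ∈ univ.erase (0 : ZMod p), B z + ∑ z ∈ univ.erase (0 : ZMod p), cc p e a c z =
      U * (t * e) := by
    rw [← Finset.sum_add_distrib, Finset.sum_congr rfl fun z hz => hB z (mem_erase.1 hz).1, sum_const,
      card_erase_of_mem (mem_univ _), card_univ, ZMod.card, smul_eq_mul, mul_comm U]
    congr 1
    have := A.mul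
    omega
  have h2 := sum_cc_erase A (a := a) (b := c) ha
  omega

/-- The multiplicities of a Frobenius twist. -/
theorem mult_sq (D : Data P x e t) (hp2 : p ≠ 2) (f : G → ℂ) (z : ZMod p) :
    mult x (fun g => f (g * g)) z = mult x f (z / 2) := by
  have h2 : (2 : ZMod p) ≠ 0 := fun h' => hp2 ((Nat.prime_dvd_prime_iff_eq Fact.out Nat.prime_two).1
    ((ZMod.natCast_eq_zero_iff 2 p).1 (by exact_mod_cast h')))
  refine mult_eq (c := fun z => mult x f (z / 2)) (fun k => ?_) z
  show f (xp x k * xp x k) = _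
  rw [← xp_add D.pow, mult_expand f (k + k)]
  refine Fintype.sum_equiv (Equiv.mulRight₀ 2 h2) _ _ fun y => ?_
  rw [Equiv.mulRight₀_apply, mul_div_cancel_right₀ _ h2]
  congr 2
  ring

variable {w : Subgroup.center G →* ℂ} {F : ZMod p → IrrCharacter G}

/-- An even number of weights is only possible when `e = 2`. -/
theorem even_false (hh : Gen x e h a₀) (hp2 : p ≠ 2) (ht : 3 ≤ t) (he : Even e) (he4 : 4 ≤ e)
    (h₁ : Fam D w F 1 (-1)) {α : ZMod e} (hα : α + α = 0)
    (hwv : ∀ a, a ≠ 0 → (∀ u, wt x h p (F a : G → ℂ) u = if u = α then 1 else 0) ∧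
      ∀ j : ZMod e, j ≠ 0 → (F a : G → ℂ) (hq h j) = psiE e (α * j))
    {F2 : ZMod p → IrrCharacter G} (h2F : Fam D (w * w) F2 1 (-1))
    (hw2 : ∀ u, wt x h p (F2 1 : G → ℂ) u = if u = α then 1 else 0) : False := by
  classical
  have A := D.A
  have hp := (Fact.out : p.Prime)
  obtain ⟨K, hK⟩ := uniform h₁ h₁ h2F
  set χ : G → ℂ := (F 1 : G → ℂ) with hχ
  have hχc : IsCharacter G χ := isCharacter_of_irr (F 1).2
  have hS := isCharacter_symSq' hχc
  have hL := isCharacter_altSq hχc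
  obtain ⟨m₁, hm₁⟩ := classInner_char_nat (isCharacter_mul hχc hχc) (isCharacter_of_irr (F2 1).2)
  have hK1 := hK 1 1 1 one_ne_zero one_ne_zero one_ne_zero
  rw [show classInner (fun g => (F 1 : G → ℂ) g * (F 1 : G → ℂ) g) (F2 1 : G → ℂ) = (m₁ : ℂ) from hm₁] at hK1
  set U := m₁ + cc p e 1 1 1 with hUdef
  have hKU : (K : ℂ) = -(U : ℂ) := by
    rw [hUdef]; push_cast at hK1 ⊢; linear_combination -hK1
  -- every number is at most U
  have hB : ∀ s z : ZMod p, s ≠ 0 → z ≠ 0 → ∃ B : ℕ,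
      classInner (fun g => (F 1 : G → ℂ) g * (F s : G → ℂ) g) (F2 z : G → ℂ) = B ∧ B + cc p e 1 s z = U := by
    intro s z hs hz
    obtain ⟨B, hB⟩ := classInner_char_nat (isCharacter_mul hχc (isCharacter_of_irr (F s).2))
      (isCharacter_of_irr (F2 z).2)
    refine ⟨B, hB, ?_⟩
    have h1 := hK 1 s z one_ne_zero hs hz
    rw [show classInner (fun g => (F 1 : G → ℂ) g * (F s : G → ℂ) g) (F2 z : G → ℂ) = (B : ℂ) from hB,
      hKU] at h1
    push_cast at h1
    have h2 : ((B + cc p e 1 s z : ℕ) : ℂ) = (U : ℂ) := by push_cast; linear_combination -h1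
    exact_mod_cast h2
  have hU : ∀ s z : ZMod p, s ≠ 0 → z ≠ 0 → cc p e 1 s z ≤ U := fun s z hs hz => by
    obtain ⟨B, -, hB'⟩ := hB s z hs hz; omega
  choose bS hbS using fun z : ZMod p => classInner_char_nat hS (isCharacter_of_irr (F2 z).2)
  choose bL hbL using fun z : ZMod p => classInner_char_nat hL (isCharacter_of_irr (F2 z).2)
  have hsplit : ∀ z : ZMod p, z ≠ 0 → bS z + bL z + cc p e 1 1 z = U := by
    intro z hz
    obtain ⟨B, hB1, hB2⟩ := hB 1 z one_ne_zero hz
    have h1 : ((bS z + bL z : ℕ) : ℂ) = (B : ℂ) := by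
      push_cast
      rw [← hbS z, ← hbL z, ← classInner_add_left, ← hB1]
      congr 1
      funext g
      show ((F 1 : G → ℂ) g ^ 2 + (F 1 : G → ℂ) (g * g)) / 2 +
        ((F 1 : G → ℂ) g ^ 2 - (F 1 : G → ℂ) (g * g)) / 2 = _
      ring
    have h2 : bS z + bL z = B := by exact_mod_cast h1
    omega
  -- the involution of the complement
  obtain ⟨e', he'⟩ := he
  set j₀ : ZMod e := (e' : ZMod e) with hj₀
  have hj₀0 : j₀ ≠ 0 := fun h0 => by
    rw [hj₀, ZMod.natCast_eq_zero_iff] at h0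
    have := Nat.le_of_dvd (by omega) h0
    omega
  have hj₀2 : j₀ + j₀ = 0 := by rw [hj₀, ← Nat.cast_add, ← he', ZMod.natCast_self]
  have hdouble : ∀ j : ZMod e, j ≠ 0 → j + j = 0 → j = j₀ := by
    intro j hj hjj
    have h1 : (j.val + j.val) % e = 0 := by rw [← ZMod.val_add, hjj, ZMod.val_zero]
    obtain ⟨q, hq'⟩ := Nat.dvd_of_mod_eq_zero h1
    have := ZMod.val_lt j
    have hq1 : q = 1 := by
      rcases q with _ | _ | q
      · exact absurd (ZMod.val_injective e (show j.val = (0 : ZMod e).val by rw [ZMod.val_zero]; omega)) hj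
      · rfl
      · exfalso; nlinarith
    subst hq1
    rw [hj₀, ← ZMod.natCast_zmod_val j]
    congr 1
    omega
  have hd : χ 1 = (p : ℂ) - e := by
    rw [hχ, ← sum_mult (x := x) (p := p) (F 1 : G → ℂ),
      Finset.sum_congr rfl fun z _ => h₁.vals 1 one_ne_zero z, Finset.sum_add_distrib, ← Finset.mul_sum,
      sum_ind A one_ne_zero, sum_const, card_univ, ZMod.card, nsmul_eq_mul]
    push_cast; ring
  have hval : ∀ j : ZMod e, j ≠ 0 → χ (hq h j) = psiE e (α * j) := (hwv 1 one_ne_zero).2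
  have hsq : ∀ j : ZMod e, j ≠ 0 → χ (hq h j) ^ 2 = 1 := fun j hj => by
    rw [hval j hj, sq, ← AddChar.map_add_eq_mul, ← add_mul, hα, zero_mul, AddChar.map_zero_eq_one]
  have hg2 : ∀ j : ZMod e, j ≠ 0 → χ (hq h j * hq h j) = if j = j₀ then (p : ℂ) - e else 1 := by
    intro j hj
    rw [← hq_add hh]
    split_ifs with hjj
    · rw [hjj, hj₀2, hq_zero, hd]
    · have h0 : j + j ≠ 0 := fun h0 => hjj (hdouble j hj h0)
      rw [hval _ h0, mul_add, ← add_mul, hα, zero_mul, AddChar.map_zero_eq_one]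
  -- weights of the two halves
  let sg : ZMod e → ℂ := fun u => psiE e (-(u * j₀))
  have hsg : ∀ u, sg u = 1 ∨ sg u = -1 := fun u => by
    refine mul_self_eq_one_iff.1 ?_
    show psiE e _ * psiE e _ = 1
    rw [← AddChar.map_add_eq_mul, ← neg_add, ← mul_add, hj₀2, mul_zero, neg_zero, AddChar.map_zero_eq_one]
  have hm0 : mult x χ (0 : ZMod p) = 1 := by
    rw [hχ, h₁.vals 1 one_ne_zero, if_neg (zero_div_notMem A 1), mul_zero, add_zero, Nat.cast_one]
  have hmS : ∀ z : ZMod p, mult x (fun g => (χ g ^ 2 + χ (g * g)) / 2) z =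
      (mult x (fun g => χ g * χ g) z + mult x χ (z / 2)) / 2 := fun z => by
    rw [← mult_sq D hp2 χ z, ← mult_add, show (fun g => (χ g ^ 2 + χ (g * g)) / 2) =
      fun g => (2 : ℂ)⁻¹ * (χ g * χ g + χ (g * g)) from funext fun g => by ring, mult_smul]
    ring
  have hneg1 : -(1 : ZMod p) / 1 ∈ rts p e := by
    rw [div_one]; exact neg_one_mem_rts ⟨e', he'⟩
  have hp0 : mult x (fun g => χ g * χ g) (0 : ZMod p) = ((t : ℂ) - 2) * e + 1 + e := by
    rw [prod_mult_zero A one_ne_zero one_ne_zero (h₁.shape one_ne_zero) (h₁.shape one_ne_zero),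
      if_pos hneg1]
  have hsum1 : ∀ u : ZMod e, ∑ j ∈ univ.erase (0 : ZMod e), psiE e (-(u * j)) =
      (if u = 0 then (e : ℂ) else 0) - 1 := fun u => by
    rw [Finset.sum_erase_eq_sub (mem_univ _), mul_zero, neg_zero, AddChar.map_zero_eq_one,
      Finset.sum_congr rfl fun j _ => show psiE e (-(u * j)) = psiE e (j * -u) by ring_nf, sum_psiE]
    simp only [neg_eq_zero]
  have he0 : (e : ℂ) ≠ 0 := Nat.cast_ne_zero.2 (NeZero.ne e)
  have hwtS : ∀ u, wt x h p (fun g => (χ g ^ 2 + χ (g * g)) / 2) u =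
      ((t : ℂ) - 1) * (1 + sg u) / 2 + (if u = 0 then 1 else 0) := by
    intro u
    have h1 : ∑ j ∈ univ.erase (0 : ZMod e),
        (χ (hq h j) ^ 2 + χ (hq h j * hq h j)) / 2 * psiE e (-(u * j)) =
        ((if u = 0 then (e : ℂ) else 0) - 1) + ((p : ℂ) - e - 1) / 2 * sg u := by
      rw [← hsum1 u, Finset.sum_congr rfl fun j hj => show
        (χ (hq h j) ^ 2 + χ (hq h j * hq h j)) / 2 * psiE e (-(u * j)) =
          psiE e (-(u * j)) + (if j = j₀ then ((p : ℂ) - e - 1) / 2 * psiE e (-(u * j)) else 0) by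
        rw [hsq j (mem_erase.1 hj).1, hg2 j (mem_erase.1 hj).1]; split_ifs <;> ring,
        Finset.sum_add_distrib, Finset.sum_ite_eq', if_pos (mem_erase.2 ⟨hj₀0, mem_univ _⟩)]
    rw [wt, hmS, hp0, zero_div, hm0]
    erw [h1]
    rw [A.cast]
    split_ifs <;> field_simp <;> ring
  have hwtL : ∀ u, wt x h p (fun g => (χ g ^ 2 - χ (g * g)) / 2) u = ((t : ℂ) - 1) * (1 - sg u) / 2 := by
    intro u
    have h1 : ∑ j ∈ univ.erase (0 : ZMod e),
        (χ (hq h j) ^ 2 - χ (hq h j * hq h j)) / 2 * psiE e (-(u * j)) =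
        (1 - ((p : ℂ) - e)) / 2 * sg u := by
      rw [Finset.sum_congr rfl fun j hj => show
        (χ (hq h j) ^ 2 - χ (hq h j * hq h j)) / 2 * psiE e (-(u * j)) =
          if j = j₀ then (1 - ((p : ℂ) - e)) / 2 * psiE e (-(u * j)) else 0 by
        rw [hsq j (mem_erase.1 hj).1, hg2 j (mem_erase.1 hj).1]; split_ifs <;> ring,
        Finset.sum_ite_eq', if_pos (mem_erase.2 ⟨hj₀0, mem_univ _⟩)]
    have hmL : mult x (fun g => (χ g ^ 2 - χ (g * g)) / 2) (0 : ZMod p) =
        (mult x (fun g => χ g * χ g) (0 : ZMod p) - mult x χ ((0 : ZMod p) / 2)) / 2 := by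
      rw [← mult_sq D hp2 χ (0 : ZMod p), show (fun g => (χ g ^ 2 - χ (g * g)) / 2) =
        fun g => (2 : ℂ)⁻¹ * (χ g * χ g + (-1) * χ (g * g)) from funext fun g => by ring, mult_smul,
        mult_add, mult_smul]
      ring
    rw [wt, hmL, hp0, zero_div, hm0]
    erw [h1]
    rw [A.cast]
    field_simp
    ring
  have hnw : wt x h p (F2 1 : G → ℂ) α = ((1 : ℕ) : ℂ) := by rw [hw2, if_pos rfl, Nat.cast_one]
  rcases hsg α with hs | hs
  · -- the alternating half does not meet the family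
    have hW : wt x h p (fun g => (χ g ^ 2 - χ (g * g)) / 2) α = ((0 : ℕ) : ℂ) := by
      rw [hwtL, hs]; push_cast; ring
    have h0 := h2F.slot hh hL α bL (fun z _ => hbL z) hnw hW ∅ (fun _ => 0) (fun _ => 0)
      (by simp) (by simp) (by simp)
    simp only [Finset.sum_empty, mul_zero, mul_one, add_zero, Nat.le_zero, Finset.sum_eq_zero_iff] at h0
    obtain ⟨z₀, hz₀, -, hz₀2⟩ := exists_outside A ht
    have hz₀' : z₀ / 2 ∉ rts p e := fun h' => hz₀2 (mem_image.2 ⟨z₀ / 2, h', by
      have h2 : (2 : ZMod p) ≠ 0 := fun h'' => hp2 ((Nat.prime_dvd_prime_iff_eq Fact.out Nat.prime_two).1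
        ((ZMod.natCast_eq_zero_iff 2 p).1 (by exact_mod_cast h'')))
      field_simp⟩)
    have hdiag : ∀ z : ZMod p, z ≠ 0 →
        cc p e 1 1 z + (if z / 2 ∈ rts p e then 1 else 0) = cc p e 1 1 z₀ := by
      intro z hz
      have hmLz : ∀ z : ZMod p, mult x (fun g => (χ g ^ 2 - χ (g * g)) / 2) z =
          (mult x (fun g => χ g * χ g) z - mult x χ (z / 2)) / 2 := fun z => by
        rw [← mult_sq D hp2 χ z, show (fun g => (χ g ^ 2 - χ (g * g)) / 2) =
          fun g => (2 : ℂ)⁻¹ * (χ g * χ g + (-1) * χ (g * g)) from funext fun g => by ring, mult_smul,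
          mult_add, mult_smul]
        ring
      have hc := h2F.coef (isClassFunction_char hL) (show HasCen _ (w * w) from fun g c => by
        have e1 := (h₁.cen 1 one_ne_zero) g c
        have e2 := (h₁.cen 1 one_ne_zero) (g * g) (c * c)
        rw [show g * g * ((c * c : Subgroup.center G) : G) = g * c * (g * c) by
          rw [Subgroup.coe_mul, mul_assoc g (c : G), ← mul_assoc (c : G) g,
            ← Subgroup.mem_center_iff.1 c.2 g]; group, map_mul] at e2
        show ((F 1 : G → ℂ) (g * c) ^ 2 - (F 1 : G → ℂ) (g * c * (g * c))) / 2 = _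
        rw [e1, e2, MonoidHom.mul_apply]; ring) hz hz₀
      rw [hbL, hbL, h0 z (mem_erase.2 ⟨hz, mem_univ _⟩), h0 z₀ (mem_erase.2 ⟨hz₀, mem_univ _⟩), sub_self,
        mul_zero, hmLz, hmLz, (h₁.shape one_ne_zero).mul A one_ne_zero one_ne_zero (h₁.shape one_ne_zero),
        (h₁.shape one_ne_zero).mul A one_ne_zero one_ne_zero (h₁.shape one_ne_zero),
        hχ, h₁.vals 1 one_ne_zero, h₁.vals 1 one_ne_zero, div_one, div_one, if_neg hz₀'] at hc
      split_ifs at hc ⊢ <;> push_cast at hc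
      · have : ((cc p e 1 1 z + 1 : ℕ) : ℂ) = (cc p e 1 1 z₀ : ℂ) := by push_cast; linear_combination 2 * hc
        exact_mod_cast this
      · have : ((cc p e 1 1 z + 0 : ℕ) : ℂ) = (cc p e 1 1 z₀ : ℂ) := by push_cast; linear_combination 2 * hc
        exact_mod_cast this
    set C₀ := cc p e 1 1 z₀ with hC₀
    have hWS : wt x h p (fun g => (χ g ^ 2 + χ (g * g)) / 2) α =
        ((t - 1 + (if α = 0 then 1 else 0) : ℕ) : ℂ) := by
      rw [hwtS, hs, Nat.cast_add, Nat.cast_sub (by omega : 1 ≤ t)]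
      split_ifs <;> push_cast <;> ring
    have h1 := h2F.slot hh hS α bS (fun z _ => hbS z) hnw hWS ∅ (fun _ => 0) (fun _ => 0)
      (by simp) (by simp) (by simp)
    simp only [Finset.sum_empty, mul_zero, mul_one, add_zero] at h1
    have h2 := sum_sub_cc A 1 1 one_ne_zero U bS fun z hz => by
      have := hsplit z hz; have := h0 z (mem_erase.2 ⟨hz, mem_univ _⟩); omega
    rw [if_pos hneg1] at h2
    have hUC : U ≤ C₀ := by
      have hCt : C₀ * t = e := by
        have h3 := Finset.sum_congr rfl fun z (hz : z ∈ univ.erase (0 : ZMod p)) =>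
          hdiag z (mem_erase.1 hz).1
        have h4 := sum_cc_erase A (a := 1) (b := 1) one_ne_zero
        rw [if_pos hneg1] at h4
        have h2' : (2 : ZMod p) ≠ 0 := fun h'' => hp2 ((Nat.prime_dvd_prime_iff_eq Fact.out Nat.prime_two).1
          ((ZMod.natCast_eq_zero_iff 2 p).1 (by exact_mod_cast h'')))
        have h5 : ∑ z ∈ univ.erase (0 : ZMod p), (if z / 2 ∈ rts p e then 1 else 0) = e := by
          rw [Finset.sum_boole, show (univ.erase (0 : ZMod p)).filter (fun z => z / 2 ∈ rts p e) =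
            (rts p e).image (2 * ·) by
              ext z
              simp only [mem_filter, mem_erase, mem_univ, and_true, mem_image]
              constructor
              · rintro ⟨-, h'⟩; exact ⟨z / 2, h', by field_simp⟩
              · rintro ⟨a, ha, rfl⟩
                exact ⟨mul_ne_zero h2' (ne_zero_rts A.epos ha), by rwa [mul_div_cancel_left₀ _ h2']⟩,
            card_image_of_injective _ (mul_right_injective₀ h2'), A.card_rts, Nat.cast_id]
        rw [Finset.sum_add_distrib, h5, sum_const, card_erase_of_mem (mem_univ _), card_univ, ZMod.card,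
          smul_eq_mul] at h3
        have hpe : p - 1 = t * e := by have := A.mul; omega
        rw [hpe] at h3
        refine Nat.eq_of_mul_eq_mul_right (Nat.pos_of_ne_zero A.epos) ?_
        rw [mul_assoc, mul_comm C₀]
        omega
      have h1' : ∑ z ∈ univ.erase (0 : ZMod p), bS z ≤ e * t :=
        h1.trans (Nat.mul_le_mul_left _ (by split_ifs <;> omega))
      by_contra hlt
      push Not at hlt
      have h6 : (C₀ + 1) * (t * e) ≤ U * (t * e) := Nat.mul_le_mul_right _ hlt
      have h7 : (C₀ + 1) * (t * e) = C₀ * t * e + e * t := by ring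
      have h8 : C₀ * t * e = e * e := by rw [hCt]
      have := A.epos
      omega
    exact even_false_minus A ⟨e', he'⟩ hp2 ht C₀ hdiag (fun s z hs' hz => (hU s z hs' hz).trans hUC) he4
  · -- the symmetric half does not meet the family
    have hα0 : α ≠ 0 := by
      rintro rfl
      simp only [sg, zero_mul, neg_zero, AddChar.map_zero_eq_one] at hs
      norm_num at hs
    have hW : wt x h p (fun g => (χ g ^ 2 + χ (g * g)) / 2) α = ((0 : ℕ) : ℂ) := by
      rw [hwtS, hs, if_neg hα0]; push_cast; ring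
    have h0 := h2F.slot hh hS α bS (fun z _ => hbS z) hnw hW ∅ (fun _ => 0) (fun _ => 0)
      (by simp) (by simp) (by simp)
    simp only [Finset.sum_empty, mul_zero, mul_one, add_zero, Nat.le_zero, Finset.sum_eq_zero_iff] at h0
    obtain ⟨z₀, hz₀, -, hz₀2⟩ := exists_outside A ht
    have h2' : (2 : ZMod p) ≠ 0 := fun h'' => hp2 ((Nat.prime_dvd_prime_iff_eq Fact.out Nat.prime_two).1
      ((ZMod.natCast_eq_zero_iff 2 p).1 (by exact_mod_cast h'')))
    have hz₀' : z₀ / 2 ∉ rts p e := fun h' => hz₀2 (mem_image.2 ⟨z₀ / 2, h', by field_simp⟩)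
    have hdiag : ∀ z : ZMod p, z ≠ 0 →
        cc p e 1 1 z = cc p e 1 1 z₀ + (if z / 2 ∈ rts p e then 1 else 0) := by
      intro z hz
      have hc := h2F.coef (isClassFunction_char hS) (show HasCen _ (w * w) from fun g c => by
        have e1 := (h₁.cen 1 one_ne_zero) g c
        have e2 := (h₁.cen 1 one_ne_zero) (g * g) (c * c)
        rw [show g * g * ((c * c : Subgroup.center G) : G) = g * c * (g * c) by
          rw [Subgroup.coe_mul, mul_assoc g (c : G), ← mul_assoc (c : G) g,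
            ← Subgroup.mem_center_iff.1 c.2 g]; group, map_mul] at e2
        show ((F 1 : G → ℂ) (g * c) ^ 2 + (F 1 : G → ℂ) (g * c * (g * c))) / 2 = _
        rw [e1, e2, MonoidHom.mul_apply]; ring) hz hz₀
      rw [hbS, hbS, h0 z (mem_erase.2 ⟨hz, mem_univ _⟩), h0 z₀ (mem_erase.2 ⟨hz₀, mem_univ _⟩), sub_self,
        mul_zero, hmS, hmS, (h₁.shape one_ne_zero).mul A one_ne_zero one_ne_zero (h₁.shape one_ne_zero),
        (h₁.shape one_ne_zero).mul A one_ne_zero one_ne_zero (h₁.shape one_ne_zero),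
        hχ, h₁.vals 1 one_ne_zero, h₁.vals 1 one_ne_zero, div_one, div_one, if_neg hz₀'] at hc
      split_ifs at hc ⊢ <;> push_cast at hc
      · have : ((cc p e 1 1 z : ℕ) : ℂ) = ((cc p e 1 1 z₀ + 1 : ℕ) : ℂ) := by
          push_cast; linear_combination 2 * hc
        exact_mod_cast this
      · have : ((cc p e 1 1 z : ℕ) : ℂ) = ((cc p e 1 1 z₀ + 0 : ℕ) : ℂ) := by
          push_cast; linear_combination 2 * hc
        exact_mod_cast this
    set C₀ := cc p e 1 1 z₀ with hC₀
    have hWL : wt x h p (fun g => (χ g ^ 2 - χ (g * g)) / 2) α = ((t - 1 : ℕ) : ℂ) := by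
      rw [hwtL, hs, Nat.cast_sub (by omega : 1 ≤ t)]; push_cast; ring
    have h1 := h2F.slot hh hL α bL (fun z _ => hbL z) hnw hWL ∅ (fun _ => 0) (fun _ => 0)
      (by simp) (by simp) (by simp)
    simp only [Finset.sum_empty, mul_zero, mul_one, add_zero] at h1
    have h2 := sum_sub_cc A 1 1 one_ne_zero U bL fun z hz => by
      have := hsplit z hz; have := h0 z (mem_erase.2 ⟨hz, mem_univ _⟩); omega
    rw [if_pos hneg1] at h2
    have hUC : U ≤ C₀ + 1 := by
      have h3 := Finset.sum_congr rfl fun z (hz : z ∈ univ.erase (0 : ZMod p)) =>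
        hdiag z (mem_erase.1 hz).1
      have h4 := sum_cc_erase A (a := 1) (b := 1) one_ne_zero
      rw [if_pos hneg1] at h4
      rw [Finset.sum_add_distrib, Finset.sum_boole, show (univ.erase (0 : ZMod p)).filter (fun z => z / 2 ∈ rts p e) =
        (rts p e).image (2 * ·) by
          ext z
          simp only [mem_filter, mem_erase, mem_univ, and_true, mem_image]
          constructor
          · rintro ⟨-, h'⟩; exact ⟨z / 2, h', by field_simp⟩
          · rintro ⟨a, ha, rfl⟩
            exact ⟨mul_ne_zero h2' (ne_zero_rts A.epos ha), by rwa [mul_div_cancel_left₀ _ h2']⟩,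
        card_image_of_injective _ (mul_right_injective₀ h2'), A.card_rts, Nat.cast_id, sum_const,
        card_erase_of_mem (mem_univ _), card_univ, ZMod.card, smul_eq_mul] at h3
      have hpe : p - 1 = t * e := by have := A.mul; omega
      rw [hpe] at h3
      have h3' : ∑ z ∈ univ.erase (0 : ZMod p), cc p e 1 1 z = t * e * C₀ + e := h3
      by_contra hlt
      push Not at hlt
      have h6 : (C₀ + 2) * (t * e) ≤ U * (t * e) := Nat.mul_le_mul_right _ hlt
      have h7 : (C₀ + 2) * (t * e) = t * e * C₀ + 2 * (e * t) := by ring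
      have h8 : e * (t - 1) + e = e * t := by rw [← Nat.mul_succ]; congr 1; omega
      have := A.epos
      omega
    exact even_false_plus A ⟨e', he'⟩ hp2 ht C₀ hdiag (fun s z hs' hz => (hU s z hs' hz).trans hUC) he4

/-- For odd `e` the square gives `e ≥ t - 2`. -/
theorem sq_false (hh : Gen x e h a₀) (hp2 : p ≠ 2) (he : Odd e) (he3 : 3 ≤ e) (hle : e + 3 ≤ t)
    (h₁ : Fam D w F 1 (-1))
    (hwv : ∀ a : ZMod p, a ≠ 0 → (∀ u : ZMod e, wt x h p (F a : G → ℂ) u = if u = 0 then 1 else 0) ∧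
      ∀ j : ZMod e, j ≠ 0 → (F a : G → ℂ) (hq h j) = psiE e ((0 : ZMod e) * j))
    {F2 : ZMod p → IrrCharacter G} (h2F : Fam D (w * w) F2 1 (-1))
    (hw2 : ∀ u : ZMod e, wt x h p (F2 1 : G → ℂ) u = if u = 0 then 1 else 0) : False := by
  classical
  have A := D.A
  obtain ⟨K, hK⟩ := uniform h₁ h₁ h2F
  choose B hB using fun q : ZMod p × ZMod p => classInner_char_nat
    (isCharacter_mul (isCharacter_of_irr (F 1).2) (isCharacter_of_irr (F q.1).2))
    (isCharacter_of_irr (F2 q.2).2)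
  have hBK : ∀ s z : ZMod p, s ≠ 0 → z ≠ 0 → ((B (s, z) : ℤ) + cc p e 1 s z = -K) := by
    intro s z hs hz
    have h1 := hK 1 s z one_ne_zero hs hz
    rw [show classInner (fun g => (F 1 : G → ℂ) g * (F s : G → ℂ) g) (F2 z : G → ℂ) = (B (s, z) : ℂ) from
      hB (s, z)] at h1
    have h2 : (((B (s, z) : ℤ) + cc p e 1 s z : ℤ) : ℂ) = ((-K : ℤ) : ℂ) := by
      push_cast at h1 ⊢; linear_combination -h1
    exact_mod_cast h2
  obtain ⟨U, hKU⟩ : ∃ U : ℕ, -K = (U : ℤ) := ⟨(-K).toNat, by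
    have := hBK 1 1 one_ne_zero one_ne_zero; omega⟩
  have hU : ∀ s z : ZMod p, s ≠ 0 → z ≠ 0 → B (s, z) + cc p e 1 s z = U := fun s z hs hz => by
    have := hBK s z hs hz; omega
  have hU2 : 2 ≤ U := by
    by_contra hU2
    have h0 := sum_cc_cc A
    rw [Finset.sum_eq_zero fun s hs => Finset.sum_eq_zero fun z hz => by
      have := hU s z (mem_erase.1 hs).1 (mem_erase.1 hz).1
      have hc : cc p e 1 s z = 0 ∨ cc p e 1 s z = 1 := by omega
      rcases hc with hc | hc <;> rw [hc] <;> simp] at h0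
    have he' : (3 : ℤ) ≤ e := by exact_mod_cast he3
    have : (0 : ℤ) < (e : ℤ) ^ 2 * ((e : ℤ) - 1) * ((e : ℤ) - 2) :=
      mul_pos (mul_pos (by positivity) (by omega)) (by omega)
    omega
  -- an off-diagonal pair
  obtain ⟨s, hs, hsH⟩ : ∃ s : ZMod p, s ≠ 0 ∧ -s ∉ rts p e := by
    by_contra hno
    push Not at hno
    have h1 : univ.erase (0 : ZMod p) ⊆ (rts p e).image Neg.neg := fun s hs' =>
      mem_image.2 ⟨-s, hno s (mem_erase.1 hs').1, neg_neg s⟩
    have h2 := (card_le_card h1).trans card_image_le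
    rw [card_erase_of_mem (mem_univ _), card_univ, ZMod.card, A.card_rts] at h2
    have := A.mul
    have := Nat.mul_le_mul_right e (show 2 ≤ t by omega)
    omega
  have hW := prod_wt (x := x) (h := h) A (show 2 ≤ t by omega) one_ne_zero hs (h₁.shape one_ne_zero)
    (h₁.shape hs) (hwv 1 one_ne_zero).2 (hwv s hs).2 0
  have hsH' : -s / 1 ∉ rts p e := by rwa [div_one]
  rw [if_neg hsH', add_zero, if_pos (add_zero 0).symm] at hW
  have h1 := h2F.slot hh (isCharacter_mul (isCharacter_of_irr (F 1).2) (isCharacter_of_irr (F s).2))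
    0 (fun z => B (s, z)) (fun z _ => hB (s, z)) (by rw [hw2, if_pos rfl, Nat.cast_one]) hW ∅
    (fun _ => 0) (fun _ => 0) (by simp) (by simp) (by simp)
  simp only [Finset.sum_empty, mul_zero, mul_one, add_zero] at h1
  have h2 := sum_sub_cc A 1 s one_ne_zero U (fun z => B (s, z)) fun z hz => hU s z hs hz
  rw [if_neg hsH', add_zero] at h2
  have h4 : 2 * (t * e) ≤ U * (t * e) := Nat.mul_le_mul_right _ hU2
  have h5 : e * (t - 2 + 1) + e = t * e := by
    rw [← Nat.mul_succ, mul_comm]; congr 1; omega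
  have h6 : e * e + 3 * e ≤ t * e := by
    rw [← add_mul]; exact Nat.mul_le_mul_right _ hle
  have := A.epos
  omega

end CfsgLib.FeitSmall
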