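import Cfsg.Agent.Lib.FeitSmall.Exterior
import Cfsg.Agent.Lib.SmallRep.Main

/-!
# A representation of degree at most five from a single Jordan block of size `(p + 1) / 2`
-/

namespace CfsgLib.FeitSmall

open Matrix CfsgLib.SmallRep Polynomial

set_option linter.unusedVariables false
set_option linter.unusedSectionVars false
set_option linter.style.haveILetI false

universe u

variable {p : ℕ} [hp : Fact p.Prime] {k : Type*} [Field k] [CharP k p]

theorem aeval_conj {n : ℕ} (S : (Matrix (Fin n) (Fin n) k)ˣ) (a : Matrix (Fin n) (Fin n) k) (q : k[X]) :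
    aeval ((S⁻¹).val * a * S.val) q = (S⁻¹).val * aeval a q * S.val := by
  induction q using Polynomial.induction_on with
  | C c => rw [aeval_C, aeval_C, ← Algebra.commutes c (S⁻¹).val, mul_assoc, Units.inv_mul, mul_one]
  | add a b ha hb => simp only [map_add, ha, hb, mul_add, add_mul]
  | monomial m c _ =>
    simp only [map_mul, map_pow, aeval_C, aeval_X]
    rw [show ((S⁻¹).val * a * S.val) ^ (m + 1) = (S⁻¹).val * a ^ (m + 1) * S.val from
      Units.conj_pow' S a (m + 1), ← mul_assoc, ← mul_assoc, ← mul_assoc,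
      Algebra.commutes c (S⁻¹).val]

/-- Conjugation of skew matrices by the exponential of the shift is the exponential of the derivation. -/
theorem exp_derJ {f : ℕ} (hpf : p = 2 * f + 1) (hJ : (shiftJ k f) ^ (f + 1) = 0)
    (B : Matrix (Fin (f + 1)) (Fin (f + 1)) k) :
    aeval (shiftJ k f) (expPoly k p) * B * (aeval (shiftJ k f) (expPoly k p))ᵀ =
      aeval (derJ k f) (expPoly k p) B := by
  set J := shiftJ k f
  have hfac : ∀ i, i < p → (i.factorial : k) ≠ 0 := fun i hi => by
    rw [Ne, CharP.cast_eq_zero_iff k p, hp.out.dvd_factorial]; omega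
  let T : ℕ × ℕ → Matrix (Fin (f + 1)) (Fin (f + 1)) k := fun ij =>
    ((ij.1.factorial : k)⁻¹ * (ij.2.factorial : k)⁻¹) • (J ^ ij.1 * B * (Jᵀ) ^ ij.2)
  have hlhs : aeval J (expPoly k p) * B * (aeval J (expPoly k p))ᵀ =
      ∑ ij ∈ Finset.range p ×ˢ Finset.range p, T ij := by
    simp only [expPoly, map_sum, map_mul, map_pow, aeval_C, aeval_X, ← Algebra.smul_def,
      Matrix.transpose_sum, Matrix.transpose_smul, Matrix.transpose_pow, Finset.sum_mul,
      Finset.mul_sum, smul_mul_assoc, mul_smul_comm, smul_smul]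
    rw [Finset.sum_product, Finset.sum_comm]
    refine Finset.sum_congr rfl fun i _ => ?_
    rw [Finset.smul_sum]
    refine Finset.sum_congr rfl fun j _ => ?_
    rw [smul_smul, mul_comm]
  have hbin : ∀ n, n < p → (n.factorial : k)⁻¹ • ((derJ k f ^ n) B) =
      ∑ ij ∈ Finset.HasAntidiagonal.antidiagonal n, T ij := by
    intro n hn
    have hLR : Commute (LinearMap.mulLeft k J) (LinearMap.mulRight k Jᵀ) :=
      LinearMap.ext fun C => (mul_assoc _ _ _).symm
    rw [derJ, hLR.add_pow', LinearMap.sum_apply, Finset.smul_sum]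
    refine Finset.sum_congr rfl fun ij hij => ?_
    rw [Finset.HasAntidiagonal.mem_antidiagonal] at hij
    rw [LinearMap.smul_apply, Module.End.mul_apply, LinearMap.pow_mulLeft, LinearMap.pow_mulRight,
      LinearMap.mulLeft_apply, LinearMap.mulRight_apply, ← mul_assoc,
      ← Nat.cast_smul_eq_nsmul k, smul_smul]
    congr 1
    have h1 : ((n.choose ij.1 : ℕ) : k) * ij.1.factorial * ij.2.factorial = n.factorial := by
      have := Nat.choose_mul_factorial_mul_factorial (show ij.1 ≤ n by omega)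
      rw [show n - ij.1 = ij.2 by omega] at this
      exact_mod_cast congrArg (Nat.cast (R := k)) this
    have h2 := hfac n hn
    have h3 := hfac ij.1 (by omega)
    have h4 := hfac ij.2 (by omega)
    field_simp
    linear_combination h1
  have hrhs : aeval (derJ k f) (expPoly k p) B =
      ∑ n ∈ Finset.range p, ∑ ij ∈ Finset.HasAntidiagonal.antidiagonal n, T ij := by
    simp only [expPoly, map_sum, map_mul, map_pow, aeval_C, aeval_X, ← Algebra.smul_def,
      LinearMap.sum_apply, LinearMap.smul_apply]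
    exact Finset.sum_congr rfl fun n hn => hbin n (Finset.mem_range.1 hn)
  rw [hlhs, hrhs, Finset.sum_sigma']
  rw [← Finset.sum_filter_add_sum_filter_not (Finset.range p ×ˢ Finset.range p)
    (fun ij : ℕ × ℕ => ij.1 + ij.2 < p)]
  have hz : ∑ ij ∈ (Finset.range p ×ˢ Finset.range p).filter (fun ij : ℕ × ℕ => ¬ ij.1 + ij.2 < p),
      T ij = 0 := by
    refine Finset.sum_eq_zero fun ij hij => ?_
    have h1 := (Finset.mem_filter.1 hij).2
    rcases Nat.lt_or_ge f ij.1 with h | h
    · simp [T, pow_eq_zero_of_le (show f + 1 ≤ ij.1 by omega) hJ]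
    · have hJT : (Jᵀ) ^ (f + 1) = 0 := by rw [← Matrix.transpose_pow, hJ, Matrix.transpose_zero]
      simp [T, pow_eq_zero_of_le (show f + 1 ≤ ij.2 by omega) hJT]
  rw [hz, add_zero]
  symm
  refine Finset.sum_nbij' (fun s => s.2) (fun ij => ⟨ij.1 + ij.2, ij⟩) ?_ ?_ ?_ ?_ ?_
  · intro s hs
    simp only [Finset.mem_coe, Finset.mem_sigma, Finset.mem_range, Finset.HasAntidiagonal.mem_antidiagonal] at hs
    simp only [Finset.mem_coe, Finset.mem_filter, Finset.mem_product, Finset.mem_range]
    omega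
  · intro ij hij
    simp only [Finset.mem_coe, Finset.mem_filter, Finset.mem_product, Finset.mem_range] at hij
    simp only [Finset.mem_coe, Finset.mem_sigma, Finset.mem_range, Finset.HasAntidiagonal.mem_antidiagonal]
    exact ⟨hij.2, trivial⟩
  · rintro ⟨n, ij⟩ hs
    simp only [Finset.mem_coe, Finset.mem_sigma, Finset.HasAntidiagonal.mem_antidiagonal] at hs
    obtain ⟨-, rfl⟩ := hs
    rfl
  · intro ij _; rfl
  · intro s _; rfl

/-- On skew matrices the derivation has nilpotency degree at most `2 f`. -/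
theorem derS_pow_eq_zero {f : ℕ} (h2 : (2 : k) ≠ 0) (hJ : (shiftJ k f) ^ (f + 1) = 0) :
    (derS k f) ^ (2 * f) = 0 := by
  refine LinearMap.ext fun B => Subtype.ext ?_
  rw [derS_pow_coe]
  have hLR : Commute (LinearMap.mulLeft k (shiftJ k f)) (LinearMap.mulRight k (shiftJ k f)ᵀ) :=
    LinearMap.ext fun C => (mul_assoc _ _ _).symm
  rw [derJ, hLR.add_pow', LinearMap.sum_apply]
  refine Finset.sum_eq_zero fun ij hij => ?_
  rw [Finset.HasAntidiagonal.mem_antidiagonal] at hij
  rw [LinearMap.smul_apply, Module.End.mul_apply, LinearMap.pow_mulLeft, LinearMap.pow_mulRight,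
    LinearMap.mulLeft_apply, LinearMap.mulRight_apply]
  have hJT : ((shiftJ k f)ᵀ) ^ (f + 1) = 0 := by
    rw [← Matrix.transpose_pow, hJ, Matrix.transpose_zero]
  rcases lt_trichotomy f ij.1 with h | h | h
  · rw [pow_eq_zero_of_le (show f + 1 ≤ ij.1 by omega) hJ, zero_mul, smul_zero]
  · rw [← h, show ij.2 = f by omega]
    suffices shiftJ k f ^ f * ((B : Matrix (Fin (f + 1)) (Fin (f + 1)) k) * ((shiftJ k f)ᵀ) ^ f) = 0 by
      rw [this, smul_zero]
    have hskew : (B : Matrix (Fin (f + 1)) (Fin (f + 1)) k)ᵀ = -(B : Matrix _ _ k) := B.2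
    have hpe : ∀ n, ∀ a b : Fin (f + 1), (shiftJ k f ^ n) a b = if (a : ℕ) = b + n then 1 else 0 := by
      intro n
      induction n with
      | zero =>
        intro a b
        rw [pow_zero, Matrix.one_apply]
        simp [Fin.ext_iff]
      | succ n ih =>
        intro a b
        rw [pow_succ', shiftJ_mul]
        split_ifs with h1 h2 h2 <;> first | omega | skip
        · rw [ih, if_pos]; simp only; omega
        · rw [ih, if_neg]; simp only; omega
        · rfl
    ext a b
    rw [Matrix.zero_apply, ← Matrix.transpose_pow]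
    have h00 : (B : Matrix (Fin (f + 1)) (Fin (f + 1)) k) 0 0 = 0 := by
      have := congrFun (congrFun hskew 0) 0
      rw [Matrix.transpose_apply, Matrix.neg_apply] at this
      refine (mul_eq_zero.1 (show (2 : k) * _ = 0 from ?_)).resolve_left h2
      linear_combination this
    rw [Matrix.mul_apply, Finset.sum_eq_single 0]
    · rw [Matrix.mul_apply, Finset.sum_eq_single 0]
      · rw [h00, zero_mul, mul_zero]
      · intro c _ hc
        rw [Matrix.transpose_apply, hpe, if_neg, mul_zero]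
        have := b.isLt
        have : (c : ℕ) ≠ 0 := fun e => hc (Fin.ext (by simpa using e))
        omega
      · exact fun h0 => absurd (Finset.mem_univ _) h0
    · intro c _ hc
      rw [hpe, if_neg, zero_mul]
      have := a.isLt
      have : (c : ℕ) ≠ 0 := fun e => hc (Fin.ext (by simpa using e))
      omega
    · exact fun h0 => absurd (Finset.mem_univ _) h0
  · rw [pow_eq_zero_of_le (show f + 1 ≤ ij.2 by omega) hJT, mul_zero, mul_zero, smul_zero]

/-- Conjugation on the skew matrices. -/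
def skewRep {G : Type*} [Group G] {f : ℕ} (σ : G →* Matrix (Fin (f + 1)) (Fin (f + 1)) k) :
    G →* Module.End k (skew k f) where
  toFun g :=
    { toFun := fun B => ⟨σ g * B.1 * (σ g)ᵀ, by
        show (σ g * B.1 * (σ g)ᵀ)ᵀ = -(σ g * B.1 * (σ g)ᵀ)
        rw [transpose_mul, transpose_mul, transpose_transpose, show (B.1)ᵀ = -B.1 from B.2, neg_mul,
          mul_neg, Matrix.mul_assoc]⟩
      map_add' := fun B B' => Subtype.ext (by simp [mul_add, add_mul])
      map_smul' := fun c B => Subtype.ext (by simp) }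
  map_one' := LinearMap.ext fun B => Subtype.ext (by simp)
  map_mul' g h := LinearMap.ext fun B => Subtype.ext (by
    simp [transpose_mul, Matrix.mul_assoc])

/-- A representation of degree at most five in which the element of order `p` survives. -/
theorem exists_small_rep {G : Type*} [Group G] [Finite G] {x : G} (hx : orderOf x = p)
    (hidx : ¬ p ∣ (Subgroup.zpowers x).index) {f : ℕ} (hpf : p = 2 * f + 1) (hp11 : 11 ≤ p)
    (σ : G →* Matrix (Fin (f + 1)) (Fin (f + 1)) k) (hXf : (σ x - 1) ^ f ≠ 0) :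
    ∃ (n : ℕ) (τ : G →* Matrix (Fin n) (Fin n) k), n ≤ 5 ∧ τ x ≠ 1 := by
  classical
  have hfac : ∀ i, i < p → i ≠ 0 → (i : k) ≠ 0 := fun i hi h0 => natCast_ne_zero_of_lt h0 hi
  have h2k : (2 : k) ≠ 0 := by exact_mod_cast hfac 2 (by omega) (by omega)
  set P := Subgroup.zpowers x with hP
  have hxp : x ^ p = 1 := by rw [← hx, pow_orderOf_eq_one]
  set N := Subgroup.normalizer (P : Set G) with hN
  have hPN : P ≤ N := Subgroup.le_normalizer
  have hcP : Nat.card (P.subgroupOf N) = p := by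
    rw [Nat.card_congr (Subgroup.subgroupOfEquivOfLe hPN).toEquiv, hP, Nat.card_zpowers, hx]
  have hrel : ¬ p ∣ (P.subgroupOf N).index := fun h =>
    hidx (h.trans (Subgroup.relIndex_dvd_index_of_le hPN))
  haveI : (P.subgroupOf N).Normal := Subgroup.normal_in_normalizer
  obtain ⟨Q, hQ⟩ := Subgroup.exists_right_complement'_of_coprime (N := P.subgroupOf N)
    (by rw [hcP]; exact hp.out.coprime_iff_not_dvd.2 hrel)
  have hQcard : ¬ p ∣ Nat.card Q := by rwa [← hQ.symm.index_eq_card]
  haveI := Fintype.ofFinite Q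
  have hwex : ∀ q : Q, ∃ w : ℕ, ((q : N) : G) * x * ((q : N) : G)⁻¹ = x ^ w := fun q => by
    have h1 : ((q : N) : G) * x * ((q : N) : G)⁻¹ ∈ P :=
      (Subgroup.mem_normalizer_iff.1 (q : N).2 x).1 (Subgroup.mem_zpowers x)
    obtain ⟨w, hw⟩ := mem_powers_iff_mem_zpowers.2 h1
    exact ⟨w, hw.symm⟩
  choose w hw using hwex
  set X := σ x - 1 with hX
  have hAp : σ x ^ p = 1 := by rw [← map_pow, hxp, map_one]
  have hXn : X ^ (f + 1) = 0 := unipotent_pow_eq_zero hAp
  have hXp : X ^ p = 0 := pow_eq_zero_of_le (by omega) hXn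
  set l := log k p X with hl
  have hlf : l ^ (f + 1) = 0 := log_pow_eq_zero hXn
  have hN0 : l ^ f ≠ 0 := by
    obtain ⟨s, hs, hc, hu⟩ := exists_log_eq_mul (k := k) (p := p) (x := X)
    rw [hl, hs, hc.mul_pow]
    exact fun h0 => hXf (((hu ⟨_, hXn⟩ (by omega)).pow f).mul_left_eq_zero.1 h0)
  let ρQ : Q →* (Matrix (Fin (f + 1)) (Fin (f + 1)) k)ˣ :=
    σ.toHomUnits.comp (N.subtype.comp Q.subtype)
  have hconj : ∀ q, (ρQ q).val * l * ((ρQ q)⁻¹).val = (w q : k) • l := fun q => by
    refine log_conj hXp ?_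
    rw [hX, add_sub_cancel]
    have h1 := congrArg σ (hw q)
    rw [map_mul, map_mul, map_pow] at h1
    rw [show ((ρQ q)⁻¹).val = σ ((q : N) : G)⁻¹ by rw [← map_inv]; rfl]
    exact h1
  let c : Q → k := fun q => (w q : k)
  have hl0 : l ≠ 0 := fun h0 => hN0 (by rw [h0, zero_pow]; omega)
  have hcmul : ∀ q q', c (q * q') = c q * c q' := by
    intro q q'
    refine smul_left_injective k hl0 ?_
    show c (q * q') • l = (c q * c q') • l
    have e := hconj (q * q')
    rw [map_mul, _root_.mul_inv_rev, Units.val_mul, Units.val_mul,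
      show (ρQ q).val * (ρQ q').val * l * (((ρQ q')⁻¹).val * ((ρQ q)⁻¹).val) =
        (ρQ q).val * ((ρQ q').val * l * ((ρQ q')⁻¹).val) * ((ρQ q)⁻¹).val by simp only [mul_assoc],
      hconj, mul_smul_comm, smul_mul_assoc, hconj, smul_smul] at e
    rw [← e, mul_comm]
  have hc0 : ∀ q, c q ≠ 0 := fun q h => by
    have h1 := hconj q
    rw [show (w q : k) = 0 from h, zero_smul] at h1
    exact hl0 ((ρQ q).isUnit.mul_right_eq_zero.1 (((ρQ q)⁻¹).isUnit.mul_left_eq_zero.1 h1))
  obtain ⟨r₀, hr₀⟩ := exists_inner_inverse (l ^ f)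
  have hcard : (Fintype.card Q : k) ≠ 0 := by
    rw [Ne, CharP.cast_eq_zero_iff k p, ← Nat.card_eq_fintype_card]; exact hQcard
  set r : Matrix (Fin (f + 1)) (Fin (f + 1)) k :=
    (Fintype.card Q : k)⁻¹ • ∑ q : Q, c q ^ f • ((ρQ q).val * r₀ * ((ρQ q)⁻¹).val) with hr
  have hNq : ∀ q, (ρQ q).val * l ^ f * ((ρQ q)⁻¹).val = c q ^ f • l ^ f := fun q => by
    rw [← Units.conj_pow, hconj, _root_.smul_pow]
  have hrN : l ^ f * r * l ^ f = l ^ f := by
    rw [hr, mul_smul_comm, smul_mul_assoc, Finset.mul_sum, Finset.sum_mul,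
      Finset.sum_congr rfl fun q _ => show l ^ f * (c q ^ f • ((ρQ q).val * r₀ * ((ρQ q)⁻¹).val)) * l ^ f
        = l ^ f by
        have hs : l ^ f = (c q ^ f)⁻¹ • ((ρQ q).val * l ^ f * ((ρQ q)⁻¹).val) := by
          rw [hNq, smul_smul, inv_mul_cancel₀ (pow_ne_zero _ (hc0 q)), one_smul]
        nth_rewrite 1 2 [hs]
        simp only [smul_mul_assoc, mul_smul_comm, smul_smul]
        rw [show ((ρQ q).val * l ^ f * ((ρQ q)⁻¹).val) * ((ρQ q).val * r₀ * ((ρQ q)⁻¹).val) *
            ((ρQ q).val * l ^ f * ((ρQ q)⁻¹).val) = (ρQ q).val * (l ^ f * r₀ * l ^ f) * ((ρQ q)⁻¹).val by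
          simp only [mul_assoc, Units.inv_mul_cancel_left], hr₀, hNq, smul_smul]
        have := pow_ne_zero f (hc0 q)
        field_simp
        simp,
      Finset.sum_const, Finset.card_univ, ← Nat.cast_smul_eq_nsmul k, smul_smul,
      inv_mul_cancel₀ hcard, one_smul]
  have hrq : ∀ q, (ρQ q).val * r * ((ρQ q)⁻¹).val = (c q ^ f)⁻¹ • r := fun q => by
    rw [hr, mul_smul_comm, smul_mul_assoc, smul_comm, Finset.mul_sum, Finset.sum_mul]
    congr 1
    rw [Finset.smul_sum]
    refine Fintype.sum_equiv (Equiv.mulLeft q) _ _ fun s => ?_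
    simp only [Equiv.coe_mulLeft, hcmul, mul_pow, smul_smul, mul_smul_comm, smul_mul_assoc]
    rw [map_mul, _root_.mul_inv_rev, Units.val_mul, Units.val_mul, ← mul_assoc (c q ^ f)⁻¹,
      inv_mul_cancel₀ (pow_ne_zero _ (hc0 q)), one_mul]
    simp only [mul_assoc]
  -- the eigenvector
  obtain ⟨v, hv⟩ : ∃ v, l ^ f *ᵥ v ≠ 0 := by
    by_contra hno
    push Not at hno
    exact hN0 (Matrix.ext_iff_mulVec.2 fun v => by rw [hno, Matrix.zero_mulVec])
  set v₀ := (r * l ^ f) *ᵥ v with hv₀
  have hv₀N : l ^ f *ᵥ v₀ ≠ 0 := by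
    rw [hv₀, Matrix.mulVec_mulVec, ← mul_assoc, hrN]; exact hv
  let S₀ : Matrix (Fin (f + 1)) (Fin (f + 1)) k := Matrix.of fun i j => (l ^ (j : ℕ) *ᵥ v₀) i
  have hS₀v : ∀ a, S₀ *ᵥ a = ∑ j, a j • (l ^ (j : ℕ) *ᵥ v₀) := fun a => by
    funext i
    simp only [Matrix.mulVec, dotProduct, Finset.sum_apply, Pi.smul_apply, smul_eq_mul, S₀, of_apply]
    exact Finset.sum_congr rfl fun j _ => mul_comm _ _
  have hS₀ : IsUnit S₀ := by
    rw [← Matrix.mulVec_injective_iff_isUnit]
    intro a b hab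
    suffices ∀ m, ∀ j : Fin (f + 1), (j : ℕ) = m → (a - b) j = 0 from
      funext fun j => sub_eq_zero.1 (this j j rfl)
    have h0 : ∑ j : Fin (f + 1), (a - b) j • (l ^ (j : ℕ) *ᵥ v₀) = 0 := by
      rw [← hS₀v, Matrix.mulVec_sub, hab, sub_self]
    intro m
    induction m using Nat.strong_induction_on with
    | _ m ih =>
      intro j hj
      have h1 := congrArg (fun u => l ^ (f - m) *ᵥ u) h0
      simp only [Matrix.mulVec_sum, Matrix.mulVec_smul, Matrix.mulVec_mulVec, ← pow_add,
        Matrix.mulVec_zero] at h1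
      rw [Finset.sum_eq_single j] at h1
      · rw [hj, Nat.sub_add_cancel (by omega)] at h1
        exact (smul_eq_zero.1 h1).resolve_right hv₀N
      · intro i _ hij
        rcases Nat.lt_or_ge (i : ℕ) m with h | h
        · rw [ih i h i rfl, zero_smul]
        · have : (i : ℕ) ≠ m := fun e => hij (Fin.ext (by omega))
          rw [pow_eq_zero_of_le (show f + 1 ≤ f - m + (i : ℕ) by omega) hlf, Matrix.zero_mulVec, smul_zero]
      · exact fun h => absurd (Finset.mem_univ _) h
  obtain ⟨S, hSv⟩ := hS₀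
  have hlS : l * S.val = S.val * shiftJ k f := by
    rw [hSv]
    ext i j
    have e1 : (l * S₀) i j = (l ^ ((j : ℕ) + 1) *ᵥ v₀) i := by
      rw [pow_succ', ← Matrix.mulVec_mulVec]; rfl
    rw [e1, Matrix.mul_apply]
    by_cases h : (j : ℕ) < f
    · rw [Finset.sum_eq_single (⟨(j : ℕ) + 1, by omega⟩ : Fin (f + 1))]
      · simp [shiftJ, S₀]
      · intro a _ ha
        simp only [shiftJ, of_apply]
        rw [if_neg fun e => ha (Fin.ext e), mul_zero]
      · exact fun h0 => absurd (Finset.mem_univ _) h0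
    · rw [pow_eq_zero_of_le (show f + 1 ≤ (j : ℕ) + 1 by omega) hlf, Matrix.zero_mulVec, Pi.zero_apply]
      symm
      refine Finset.sum_eq_zero fun a _ => ?_
      simp only [shiftJ, of_apply]
      rw [if_neg (by have := a.isLt; omega), mul_zero]
  have hJl : (S⁻¹).val * l * S.val = shiftJ k f := by
    rw [mul_assoc, hlS, ← mul_assoc, Units.inv_mul, one_mul]
  have hJ : (shiftJ k f) ^ (f + 1) = 0 := by
    rw [← hJl, Units.conj_pow', hlf, mul_zero, zero_mul]
  have hdiag : ∀ q, ∃ χ₀ : k, χ₀ ≠ 0 ∧ (S⁻¹).val * (ρQ q).val * S.val =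
      Matrix.diagonal (fun i : Fin (f + 1) => χ₀ * c q ^ (i : ℕ)) := by
    intro q
    have hcomm : ∀ j : ℕ, (ρQ q).val * l ^ j = (c q ^ j) • (l ^ j * (ρQ q).val) := fun j => by
      have h1 : (ρQ q).val * l ^ j * ((ρQ q)⁻¹).val = c q ^ j • l ^ j := by
        rw [← Units.conj_pow, hconj, _root_.smul_pow]
      rw [← smul_mul_assoc, ← h1, mul_assoc, Units.inv_mul, mul_one]
    have hre : (ρQ q).val * (r * l ^ f) = (r * l ^ f) * (ρQ q).val := by
      have h1 : (ρQ q).val * r = (c q ^ f)⁻¹ • (r * (ρQ q).val) := by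
        rw [← smul_mul_assoc, ← hrq q, mul_assoc, Units.inv_mul, mul_one]
      rw [← mul_assoc, h1, smul_mul_assoc, mul_assoc r, hcomm f, mul_smul_comm, smul_smul,
        inv_mul_cancel₀ (pow_ne_zero _ (hc0 q)), one_smul, mul_assoc]
    obtain ⟨a, ha⟩ : ∃ a, S₀ *ᵥ a = (ρQ q).val *ᵥ v₀ :=
      (Matrix.mulVec_surjective_iff_isUnit.2 ⟨S, hSv⟩) _
    have hve : (r * l ^ f) *ᵥ ((ρQ q).val *ᵥ v₀) = (ρQ q).val *ᵥ v₀ := by
      rw [Matrix.mulVec_mulVec, ← hre, ← Matrix.mulVec_mulVec]
      congr 1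
      rw [hv₀, Matrix.mulVec_mulVec]
      congr 1
      rw [mul_assoc, ← mul_assoc (l ^ f), hrN]
    have heq : (ρQ q).val *ᵥ v₀ = a 0 • v₀ := by
      rw [← hve, ← ha, hS₀v, Matrix.mulVec_sum, Finset.sum_eq_single (0 : Fin (f + 1))]
      · rw [Matrix.mulVec_smul, Fin.val_zero, pow_zero, Matrix.one_mulVec]
        congr 1
        rw [hv₀, Matrix.mulVec_mulVec]
        congr 1
        rw [mul_assoc, ← mul_assoc (l ^ f), hrN]
      · intro i _ hi
        have : (i : ℕ) ≠ 0 := fun e => hi (Fin.ext (by simpa using e))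
        rw [Matrix.mulVec_smul, Matrix.mulVec_mulVec, mul_assoc r, ← pow_add,
          pow_eq_zero_of_le (show f + 1 ≤ f + (i : ℕ) by omega) hlf, mul_zero, Matrix.zero_mulVec, smul_zero]
      · exact fun h0 => absurd (Finset.mem_univ _) h0
    refine ⟨a 0, fun h0 => ?_, ?_⟩
    · rw [h0, zero_smul] at heq
      have h1 := congrArg (fun z => ((ρQ q)⁻¹).val *ᵥ z) heq
      simp only [Matrix.mulVec_mulVec, Units.inv_mul, Matrix.one_mulVec, Matrix.mulVec_zero] at h1
      exact hv₀N (by rw [h1, Matrix.mulVec_zero])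
    · rw [mul_assoc, show (ρQ q).val * S.val =
          S.val * Matrix.diagonal (fun i : Fin (f + 1) => a 0 * c q ^ (i : ℕ)) by
        rw [hSv]
        ext i j
        have e1 : ((ρQ q).val * S₀) i j = ((ρQ q).val *ᵥ (l ^ (j : ℕ) *ᵥ v₀)) i := rfl
        rw [e1, Matrix.mulVec_mulVec, hcomm, Matrix.smul_mulVec, ← Matrix.mulVec_mulVec, heq,
          Matrix.mulVec_smul, smul_smul, Matrix.mul_diagonal, Pi.smul_apply, smul_eq_mul]
        show _ = (l ^ (j : ℕ) *ᵥ v₀) i * _
        ring, ← mul_assoc, Units.inv_mul, one_mul]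
  -- the representation on the skew matrices
  let σ' : G →* Matrix (Fin (f + 1)) (Fin (f + 1)) k :=
    { toFun := fun g => (S⁻¹).val * σ g * S.val
      map_one' := by simp
      map_mul' := fun g h => by simp only [map_mul, mul_assoc, Units.mul_inv_cancel_left] }
  have hσx : σ' x = aeval (shiftJ k f) (expPoly k p) := by
    show (S⁻¹).val * σ x * S.val = _
    rw [← hJl, aeval_conj, hl, exp_log hXp, hX, add_sub_cancel]
  let Ad := skewRep σ'
  have hAdx : Ad x = aeval (derS k f) (expPoly k p) := by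
    refine LinearMap.ext fun B => Subtype.ext ?_
    show σ' x * B.1 * (σ' x)ᵀ = _
    rw [hσx, exp_derJ hpf hJ]
    simp only [expPoly, map_sum, map_mul, map_pow, aeval_C, aeval_X, ← Algebra.smul_def,
      LinearMap.sum_apply, LinearMap.smul_apply, Submodule.coe_sum, Submodule.coe_smul, derS_pow_coe]
  obtain ⟨s, π, vv, w₀, hs, hπ2, hπD, hπr, hπw, hDw, hπu⟩ :=
    exists_summand_small (k := k) (f := f) p hpf hp11
  have hπx : Commute (Ad x) π := by
    rw [hAdx]
    simp only [expPoly, map_sum, map_mul, map_pow, aeval_C, aeval_X, ← Algebra.smul_def]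
    exact Commute.sum_left _ _ _ fun i _ => (hπD.symm.pow_left i).smul_left _
  have hπN : ∀ g ∈ N, Commute (Ad g) π := by
    intro g hg
    obtain ⟨⟨u, q⟩, huq⟩ := hQ.2 ⟨g, hg⟩
    have e : g = ((u : N) : G) * ((q : N) : G) := (congrArg Subtype.val huq).symm
    rw [e, map_mul]
    refine Commute.mul_left ?_ ?_
    · obtain ⟨i, hi⟩ := mem_powers_iff_mem_zpowers.2 (Subgroup.mem_subgroupOf.1 u.2)
      rw [← hi, map_pow]
      exact hπx.pow_left i
    · refine LinearMap.ext fun B => Subtype.ext ?_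
      obtain ⟨χ₀, hχ₀, hd⟩ := hdiag q
      have hσq : σ' ((q : N) : G) = Matrix.diagonal (fun i : Fin (f + 1) => χ₀ * c q ^ (i : ℕ)) := hd
      have h1 : ((Ad ((q : N) : G) B : skew k f) : Matrix (Fin (f + 1)) (Fin (f + 1)) k) =
          Matrix.diagonal (fun i : Fin (f + 1) => χ₀ * c q ^ (i : ℕ)) * B *
            Matrix.diagonal (fun i : Fin (f + 1) => χ₀ * c q ^ (i : ℕ)) := by
        show σ' _ * _ * (σ' _)ᵀ = _
        rw [hσq, Matrix.diagonal_transpose]
      rw [Module.End.mul_apply, Module.End.mul_apply, hπu χ₀ (c q) hχ₀ (hc0 q) B _ h1]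
      show σ' _ * _ * (σ' _)ᵀ = _
      rw [hσq, Matrix.diagonal_transpose]
  have hcoeff : (expPoly k p).coeff 1 = 1 := by
    rw [expPoly, finsetSum_coeff, Finset.sum_eq_single 1]
    · simp
    · intro b _ hb; rw [coeff_C_mul, coeff_X_pow, if_neg (Ne.symm hb), mul_zero]
    · intro h; exact absurd (Finset.mem_range.2 (by omega)) h
  obtain ⟨E₁, hE₁⟩ := X_dvd_iff.2 (show (expPoly k p - 1).coeff 0 = 0 by
    rw [coeff_sub, coeff_zero_expPoly, coeff_one_zero, sub_self])
  have hTeq : Ad x - 1 = derS k f * aeval (derS k f) E₁ := by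
    have h1 := congrArg (aeval (derS k f)) hE₁
    rw [map_sub, map_one, map_mul, aeval_X] at h1
    rw [hAdx]
    exact h1
  have hE10 : E₁.coeff 0 = 1 := by
    have := congrArg (fun q : k[X] => q.coeff 1) hE₁
    simp only [coeff_X_mul, coeff_sub, hcoeff] at this
    rw [← this, coeff_one]
    simp
  have hDnil := derS_pow_eq_zero (f := f) h2k hJ
  have hT : (Ad x - 1) ^ (2 * f) = 0 := by
    have hcm : Commute (derS k f) (aeval (derS k f) E₁) := by
      nth_rewrite 1 [← aeval_X (R := k) (derS k f)]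
      exact (Commute.all (Polynomial.X : k[X]) E₁).map (aeval (derS k f))
    rw [hTeq, hcm.mul_pow, hDnil, zero_mul]
  obtain ⟨e, u, he2, hecomm, -, hu, huT, heu⟩ := exists_equivariant_idempotent Ad
    (0 : skew k f →ₗ[k] skew k f →ₗ[k] k) (fun g v w => rfl) hx hidx (D := 2 * f) (by omega) hT π hπ2
    (fun v w => rfl) hπN
  have hmove : Ad x w₀ ≠ w₀ := by
    intro h0
    apply hDw
    obtain ⟨R₁, hR₁⟩ := X_dvd_iff.2 (show (E₁ - 1).coeff 0 = 0 by simp [hE10])
    have hEu : IsUnit (aeval (derS k f) E₁) := by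
      rw [eq_add_of_sub_eq' hR₁, map_add, map_one, map_mul, aeval_X]
      have hc' : Commute (derS k f) (aeval (derS k f) R₁) := by
        have h5 := (Commute.all (Polynomial.X : k[X]) R₁).map (aeval (derS k f))
        rwa [aeval_X] at h5
      have hnil : (derS k f * aeval (derS k f) R₁) ^ (2 * f) = 0 := by rw [hc'.mul_pow, hDnil, zero_mul]
      exact IsNilpotent.isUnit_one_add (R := Module.End k (skew k f)) ⟨2 * f, hnil⟩
    obtain ⟨U, hU⟩ := hEu
    have hcm : derS k f * U.val = U.val * derS k f := by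
      rw [hU]
      have h5 := ((Commute.all (Polynomial.X : k[X]) E₁).map (aeval (derS k f))).eq
      rwa [aeval_X] at h5
    have h1 : (Ad x - 1) w₀ = 0 := by rw [LinearMap.sub_apply, Module.End.one_apply, h0, sub_self]
    rw [hTeq, ← hU, hcm, Module.End.mul_apply] at h1
    have h2 := congrArg (U⁻¹).val h1
    rwa [← Module.End.mul_apply, Units.inv_mul, Module.End.one_apply, map_zero] at h2
  obtain ⟨U, rfl⟩ := hu
  have hUinj : Function.Injective U.val := fun B D h => by
    have := congrArg (U⁻¹).val h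
    rwa [← Module.End.mul_apply, ← Module.End.mul_apply, Units.inv_mul] at this
  have hle : LinearMap.range e ≤ Submodule.span k (Set.range fun i => U.val (vv i)) := by
    rintro _ ⟨B, rfl⟩
    have e1 : e B = U.val (π ((U⁻¹).val B)) := by
      rw [← Module.End.mul_apply (f := U.val) (g := π), ← heu, Module.End.mul_apply,
        ← Module.End.mul_apply (f := U.val), Units.mul_inv, Module.End.one_apply]
    rw [e1]
    have := Submodule.mem_map_of_mem (f := (U.val : skew k f →ₗ[k] skew k f)) (hπr ((U⁻¹).val B))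
    rwa [Submodule.map_span, ← Set.range_comp] at this
  set V := LinearMap.range e with hV
  have hstab : ∀ g, ∀ B ∈ V, Ad g B ∈ V := by
    rintro g _ ⟨B, rfl⟩
    exact ⟨Ad g B, by rw [← Module.End.mul_apply, ← (hecomm g).eq, Module.End.mul_apply]⟩
  have hn : Module.finrank k V ≤ 5 := by
    refine (Submodule.finrank_mono hle).trans ((finrank_range_le_card _).trans ?_)
    rw [Fintype.card_fin]; omega
  haveI : Module.Free k V := Module.Free.of_divisionRing k V
  let b := Module.finBasis k V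
  let AdV : G →* Module.End k V :=
    { toFun := fun g => (Ad g).restrict (hstab g)
      map_one' := LinearMap.ext fun B => Subtype.ext (by simp)
      map_mul' := fun g h => LinearMap.ext fun B => Subtype.ext (by simp) }
  refine ⟨_, (LinearMap.toMatrixAlgEquiv b).toMonoidHom.comp AdV, hn, fun h1 => ?_⟩
  have hAdV : AdV x = 1 := (LinearMap.toMatrixAlgEquiv b).injective (h1.trans (map_one _).symm)
  have hUw : U.val w₀ ∈ V := ⟨U.val w₀, by
    rw [← Module.End.mul_apply, heu, Module.End.mul_apply, hπw]⟩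
  have h3 : Ad x (U.val w₀) = U.val w₀ := congrArg Subtype.val (LinearMap.congr_fun hAdV ⟨_, hUw⟩)
  rw [← Module.End.mul_apply, huT.eq, Module.End.mul_apply] at h3
  exact hmove (hUinj h3)

end CfsgLib.FeitSmall
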