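import Cfsg.Agent.Lib.FeitSmall.Coef

/-!
# The shape of a faithful irreducible character of degree less than `p - 1`

Its restriction to a Sylow subgroup of order `p` either misses all but one coset of the induced
exponents, or the centralizer is `P × Z(G)` and the multiplicities are `1 - [z ∈ a H]`.
-/

namespace CfsgLib.FeitSmall

open Cfsg CfsgLib.Blocks CfsgLib.Blocks.DefectOne CfsgLib.CharTheory CfsgLib.CharTheory.SmallDegree
open CfsgLib.SmallSylow Finset
open scoped ComplexConjugate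

set_option linter.unusedVariables false
set_option linter.style.haveILetI false
set_option linter.unusedSectionVars false

universe u

variable {p : ℕ} [Fact p.Prime] {G : Type u} [Group G] [Fintype G] {P : Sylow p G} {x : G} {e t : ℕ}
  {M : Ideal AlgInt} [Fintype (P : Subgroup G)] [Fintype (cen (P : Subgroup G))]

section local_

variable (D : Data P x e t) {H : Subgroup G} [Fintype H] (hH : Compl (P : Subgroup G) H)
  (ζ : IrrCharacter G) (n : IrrCharacter (cen (P : Subgroup G)) → ℕ)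

include D in
theorem degree_mk (θ : IrrCharacter (cen (P : Subgroup G)))
    (ν : IrrCharacter (P : Subgroup G)) :
    charDegree (mk D.setup hH θ ν : cen (P : Subgroup G) → ℂ) =
      charDegree (θ : cen (P : Subgroup G) → ℂ) := by
  apply Nat.cast_injective (R := ℂ)
  rw [irr_charDegree_cast, irr_charDegree_cast]
  show (θ : cen (P : Subgroup G) → ℂ) 1 * (ν : ↥(P : Subgroup G) → ℂ) (projP D.setup hH 1) = _
  rw [map_one, irrP_one D.setup, mul_one]

theorem degree_pos_cen (θ : IrrCharacter (cen (P : Subgroup G))) :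
    1 ≤ charDegree (θ : cen (P : Subgroup G) → ℂ) := by
  rcases Nat.eq_zero_or_pos (charDegree (θ : cen (P : Subgroup G) → ℂ)) with h0 | h0
  · exact absurd (by rw [← irr_charDegree_cast, h0, Nat.cast_zero]) (irr_one_ne_zero θ)
  · exact h0

variable (hn : ∀ μ, co (ζ : G → ℂ) μ = (n μ : ℂ))
  (hdeg : charDegree (ζ : G → ℂ) = ∑ μ, n μ * charDegree (μ : cen (P : Subgroup G) → ℂ))

include D hdeg in
/-- The multiples over one character of the complement bound the degree. -/
theorem sum_mk_le (θ : IrrCharacter (cen (P : Subgroup G)))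
    (hθ : SmallDegree.lam D.setup θ = fun _ => 1) :
    (∑ z : ZMod p, n (mk D.setup hH θ (D.nu z))) * charDegree (θ : cen (P : Subgroup G) → ℂ) ≤
      charDegree (ζ : G → ℂ) := by
  classical
  rw [hdeg, Finset.sum_mul]
  refine le_trans (le_of_eq ?_) (Finset.sum_le_sum_of_subset
    (Finset.subset_univ ((univ : Finset (ZMod p)).image fun z => mk D.setup hH θ (D.nu z))))
  rw [Finset.sum_image fun a _ b _ h => D.nu_inj (mk_injective D.setup hH hθ h)]
  exact Finset.sum_congr rfl fun z _ => by rw [degree_mk D hH]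

include D hdeg in
/-- The same for two characters of the complement. -/
theorem sum_mk_le_two (θ θ' : IrrCharacter (cen (P : Subgroup G)))
    (hθ : SmallDegree.lam D.setup θ = fun _ => 1) (hθ' : SmallDegree.lam D.setup θ' = fun _ => 1)
    (hne : θ ≠ θ') :
    (∑ z : ZMod p, n (mk D.setup hH θ (D.nu z))) + ∑ z : ZMod p, n (mk D.setup hH θ' (D.nu z)) ≤
      charDegree (ζ : G → ℂ) := by
  classical
  set S := (univ : Finset (ZMod p)).image fun z => mk D.setup hH θ (D.nu z) with hS
  set S' := (univ : Finset (ZMod p)).image fun z => mk D.setup hH θ' (D.nu z) with hS'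
  have hdisj : Disjoint S S' := by
    rw [Finset.disjoint_left]
    intro μ hμ hμ'
    obtain ⟨z, -, rfl⟩ := mem_image.1 hμ
    obtain ⟨z', -, e1⟩ := mem_image.1 hμ'
    have h1 := congrArg (resH hH) e1
    rw [resH_mk D.setup hH hθ, resH_mk D.setup hH hθ'] at h1
    exact hne (ext_char D.setup hH (hθ.trans hθ'.symm) h1.symm)
  rw [hdeg]
  refine le_trans ?_ (Finset.sum_le_sum_of_subset (Finset.subset_univ (S ∪ S')))
  rw [Finset.sum_union hdisj, hS, hS',
    Finset.sum_image fun a _ b _ h => D.nu_inj (mk_injective D.setup hH hθ h),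
    Finset.sum_image fun a _ b _ h => D.nu_inj (mk_injective D.setup hH hθ' h)]
  refine Nat.add_le_add (Finset.sum_le_sum fun z _ => ?_) (Finset.sum_le_sum fun z _ => ?_) <;>
    exact Nat.le_mul_of_pos_right _ (degree_pos_cen _)

include D hn hdeg in
/-- Constituents lie over the conjugates of the root. -/
theorem over_root (hM : IsPModular p M) {B : Set (IrrCharacter G)}
    {θ : IrrCharacter (cen (P : Subgroup G))} (hr : Root hM D.setup hH B θ) (hB : IsPBlock M B)
    (hζ : ζ ∈ B) (hd : charDegree (ζ : G → ℂ) < p) (μ : IrrCharacter (cen (P : Subgroup G)))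
    (hμ : n μ ≠ 0) :
    ∃ (g : G) (hg : g ∈ Subgroup.normalizer ((P : Subgroup G) : Set G)),
      resH hH (cConj hg θ) = resH hH μ := by
  classical
  by_contra hno
  set h := D.setup
  let ν : IrrCharacter (P : Subgroup G) := ⟨fun z => SmallDegree.lam h μ z⁻¹, by
    let φ : (P : Subgroup G) →* ℂ :=
      { toFun := fun z => SmallDegree.lam h μ z⁻¹
        map_one' := by rw [inv_one, (lam_spec h μ).2.1]
        map_mul' := fun a b => by
          rw [show (a * b)⁻¹ = a⁻¹ * b⁻¹ by
            rw [mul_inv_rev]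
            exact Subtype.ext (h.comm ((P : Subgroup G).inv_mem b.2) ((P : Subgroup G).inv_mem a.2)),
            (lam_spec h μ).2.2.1] }
    exact isIrrCharacter_linear φ.toHomUnits⟩
  set θ' := mk h hH μ ν with hθ'def
  have e1 : ∀ (z : (P : Subgroup G)) (y : H),
      (θ' : cen (P : Subgroup G) → ℂ) (pr h hH (z, y)) = resH hH μ y := by
    intro z y
    show (μ : cen (P : Subgroup G) → ℂ) _ * SmallDegree.lam h μ (projP h hH _)⁻¹ = _
    rw [projP_pr, apply_xy, mul_right_comm, ← (lam_spec h μ).2.2.1, mul_inv_cancel,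
      (lam_spec h μ).2.1, one_mul]
  have hlam : SmallDegree.lam h θ' = fun _ => 1 := by
    funext z
    show (θ' : cen (P : Subgroup G) → ℂ) _ / _ = 1
    rw [show (⟨(z : G), h.le_cent z.2⟩ : cen (P : Subgroup G)) = pr h hH (z, 1) from
        Subtype.ext (mul_one _).symm,
      show (1 : cen (P : Subgroup G)) = pr h hH (1, 1) from Subtype.ext (mul_one _).symm, e1, e1]
    exact div_self (by rw [resH_one]; exact irr_ne_zero μ.2)
  have hres : resH hH θ' = resH hH μ := by
    funext y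
    have := e1 1 y
    rw [← this]
    exact congrArg (θ' : cen (P : Subgroup G) → ℂ) (Subtype.ext (one_mul (y : G)).symm)
  obtain ⟨χ₀, hχ₀⟩ := exists_induced_centr hM (isCentr_cen h D.mem D.ne) (ppow_of_mem h D.mem) θ'
  have hr' : Root hM h hH (blockOf M (χ₀ : G → ℂ)) θ' :=
    ⟨D.hP, hlam, isInducedBlock_of_congr (cen (P : Subgroup G)) hM
      (blockOf_isPBlock θ') (blockOf_isPBlock χ₀) (mem_blockOf_self hM θ') (mem_blockOf_self hM χ₀) hχ₀⟩
  have hout : ζ ∉ blockOf M (χ₀ : G → ℂ) := by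
    intro hmem
    have hBB : blockOf M (χ₀ : G → ℂ) = B :=
      (blockOf_eq_of_mem hM hmem).symm.trans (eq_blockOf hM hB hζ).symm
    have h3 := hr'.ind
    rw [hBB] at h3
    obtain ⟨g, hg, he⟩ := (induced_iff_conj hM h hH D.hP hr.ind θ').1 h3
    exact hno ⟨g, hg, he.trans hres⟩
  have hall : ∀ z : ZMod p, n (mk h hH θ' (D.nu z)) = n θ' := by
    intro z
    have h1 := dd_outside hM h hH hr' hout (D.nu z)
    rw [dd, sub_eq_zero, hn, hn] at h1
    exact_mod_cast h1
  have hμeq : μ = mk h hH θ' ⟨SmallDegree.lam h μ, (lam_spec h μ).1⟩ := eq_mk h hH hlam hres.symm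
  obtain ⟨z₀, hz₀⟩ := D.nu_surj ⟨SmallDegree.lam h μ, (lam_spec h μ).1⟩
  have hθn : 1 ≤ n θ' := by
    rw [← hall z₀, hz₀, ← hμeq]
    exact Nat.one_le_iff_ne_zero.2 hμ
  have h2 := sum_mk_le D hH ζ n hdeg θ' hlam
  rw [Finset.sum_congr rfl fun z _ => hall z, sum_const, card_univ, ZMod.card, smul_eq_mul] at h2
  have h4 : p * 1 * 1 ≤ p * n θ' * charDegree (θ' : cen (P : Subgroup G) → ℂ) :=
    Nat.mul_le_mul (Nat.mul_le_mul_left p hθn) (degree_pos_cen θ')
  omega

include D in
theorem degree_expand {f : G → ℂ}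
    (hf : ∀ c : cen (P : Subgroup G), f c = ∑ μ, (n μ : ℂ) * (μ : cen (P : Subgroup G) → ℂ) c) :
    f 1 = ((∑ μ, n μ * charDegree (μ : cen (P : Subgroup G) → ℂ) : ℕ) : ℂ) := by
  have := hf 1
  rw [Subgroup.coe_one] at this
  rw [this, Nat.cast_sum]
  exact Finset.sum_congr rfl fun μ _ => by rw [Nat.cast_mul, irr_charDegree_cast]

include D in
/-- The multiplicities on `P` from the constituents on the centralizer. -/
theorem mult_eq_sum {f : G → ℂ}
    (hf : ∀ c : cen (P : Subgroup G), f c = ∑ μ, (n μ : ℂ) * (μ : cen (P : Subgroup G) → ℂ) c)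
    (z : ZMod p) [DecidableEq (↥(P : Subgroup G) → ℂ)] :
    mult x f z = ((∑ μ ∈ univ.filter (fun μ => SmallDegree.lam D.setup μ = (D.nu z : ↥(P : Subgroup G) → ℂ)),
      n μ * charDegree (μ : cen (P : Subgroup G) → ℂ) : ℕ) : ℂ) := by
  classical
  set h := D.setup
  choose zo hzo using fun μ : IrrCharacter (cen (P : Subgroup G)) =>
    D.nu_surj ⟨SmallDegree.lam h μ, (lam_spec h μ).1⟩
  have hzo' : ∀ μ w, (SmallDegree.lam h μ = (D.nu w : ↥(P : Subgroup G) → ℂ)) ↔ zo μ = w := by
    intro μ w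
    constructor
    · intro e1
      exact D.nu_inj ((hzo μ).trans (Subtype.ext e1))
    · rintro rfl
      rw [hzo μ]
  refine mult_eq (c := fun w => ((∑ μ ∈ univ.filter (fun μ => SmallDegree.lam h μ =
      (D.nu w : ↥(P : Subgroup G) → ℂ)), n μ * charDegree (μ : cen (P : Subgroup G) → ℂ) : ℕ) : ℂ))
    (fun k => ?_) z
  have h1 := hf ⟨xp x k, h.le_cent (D.xp_mem k)⟩
  rw [h1, ← Finset.sum_fiberwise_of_maps_to (g := zo) (t := univ) (fun μ _ => mem_univ _)]
  refine Finset.sum_congr rfl fun w _ => ?_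
  rw [Nat.cast_sum, Finset.sum_mul,
    show (univ.filter fun μ => SmallDegree.lam h μ = (D.nu w : ↥(P : Subgroup G) → ℂ)) =
      univ.filter fun μ => zo μ = w from Finset.filter_congr fun μ _ => hzo' μ w]
  refine Finset.sum_congr rfl fun μ hμ => ?_
  have h2 := (lam_spec h μ).2.2.2 ⟨xp x k, D.xp_mem k⟩ 1
  rw [mul_one, (hzo' μ w).2 (mem_filter.1 hμ).2] at h2
  rw [h2, Nat.cast_mul, irr_charDegree_cast,
    show (⟨xp x k, D.xp_mem k⟩ : (P : Subgroup G)) = D.dlog k from rfl, D.nu_apply]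
  ring

end local_

/-- The two possible shapes. -/
theorem structure_cases (D : Data P x e t) (hM : IsPModular p M)
    [Fintype (Subgroup.center G)] (ζ : IrrCharacter G)
    (hfaith : ∀ g : G, (ζ : G → ℂ) g = (ζ : G → ℂ) 1 → g = 1)
    (hd : charDegree (ζ : G → ℂ) < p - 1) (hZ : (P : Subgroup G) ⊓ Subgroup.center G = ⊥) :
    (∃ a : ZMod p, a ≠ 0 ∧ ∀ z : ZMod p, z / a ∉ rts p e → mult x (ζ : G → ℂ) z = 0) ∨
      (2 ≤ t ∧ Compl (P : Subgroup G) (Subgroup.center G) ∧
        ∃ a : ZMod p, a ≠ 0 ∧ Shape x e (ζ : G → ℂ) a 1 (-1)) := by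
  classical
  have hp : p.Prime := Fact.out
  have h := D.setup
  obtain ⟨H, hH⟩ := exists_Compl h
  haveI := Fintype.ofFinite H
  obtain ⟨n, hn, hexp⟩ := exists_co (P := (P : Subgroup G)) (isCharacter_of_irr ζ.2)
  set d := charDegree (ζ : G → ℂ) with hd'
  have hd1 : (ζ : G → ℂ) 1 = (d : ℂ) := (irr_charDegree_cast ζ).symm
  have hdeg : d = ∑ μ, n μ * charDegree (μ : cen (P : Subgroup G) → ℂ) := by
    have := degree_expand D n hexp
    rw [hd1] at this
    exact_mod_cast this
  have hd0 : d ≠ 0 := fun h0 => irr_one_ne_zero ζ (by rw [hd1, h0, Nat.cast_zero])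
  set B := blockOf M (ζ : G → ℂ) with hBdef
  have hB : IsPBlock M B := blockOf_isPBlock ζ
  have hζB : ζ ∈ B := mem_blockOf_self hM ζ
  have hdef : 0 < blockDefect p B := by
    rw [blockDefect_eq]
    have h1 : minDv p B ≤ dv p (ζ : G → ℂ) := minDv_le hζB
    have h2 : dv p (ζ : G → ℂ) = 0 :=
      Nat.factorization_eq_zero_of_not_dvd fun hdvd => by
        have := Nat.le_of_dvd (Nat.pos_of_ne_zero hd0) hdvd
        omega
    have h3 : 0 < (Nat.card G).factorization p :=
      hp.factorization_pos_of_dvd Nat.card_pos.ne' (dvd_card D.hP)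
    omega
  obtain ⟨θ, hr⟩ := exists_root hM h hH D.hP hB hdef
  obtain ⟨X, Y, ε, a, τ, S⟩ := exists_shape hM h hH hr
  set m : ZMod p → ℕ := fun z => n (mk h hH θ (D.nu z)) with hm
  have hθ := hr.ker
  have hdle := sum_mk_le D hH ζ n hdeg θ hθ
  change (∑ z, m z) * _ ≤ d at hdle
  have hθ1 : 1 ≤ charDegree (θ : cen (P : Subgroup G) → ℂ) := degree_pos_cen θ
  have hdle' : ∑ z, m z ≤ d := le_trans (Nat.le_mul_of_pos_right _ hθ1) hdle
  have hm0 : m 0 = n θ := by
    show n (mk h hH θ (D.nu 0)) = n θ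
    rw [D.nu_zero]
    exact congrArg n (mk_one h hH hθ)
  have hdd : ∀ z : ZMod p, (m z : ℤ) = m 0 + ddz h hH θ ζ (D.nu z) := by
    intro z
    have h1 : dd h hH θ ζ (D.nu z) = (((m z : ℤ) - m 0 : ℤ) : ℂ) := by
      rw [hm0, dd, hn, hn]; push_cast; rfl
    rw [dd_eq_cast] at h1
    have h2 : ddz h hH θ ζ (D.nu z) = (m z : ℤ) - m 0 := by exact_mod_cast h1
    omega
  -- every constituent is a conjugate of one over the root
  have hkey : ∀ μ, n μ ≠ 0 → ∃ z r, r ∈ rts p e ∧
      SmallDegree.lam h μ = (D.nu (z * r) : ↥(P : Subgroup G) → ℂ) ∧ n μ = m z := by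
    intro μ hμ
    obtain ⟨g, hg, hres⟩ := over_root D hH ζ n hn hdeg hM hr hB hζB (by omega) μ hμ
    obtain ⟨hl, -⟩ := cConj_mk h hH D.hP hθ hg (oneP (P : Subgroup G))
    have hμeq := eq_mk h hH hl hres.symm
    obtain ⟨k, hk⟩ := D.exists_xp ((Subgroup.mem_normalizer_iff.1 hg x).1 D.mem)
    have hkr : k ∈ rts p e := (D.exps k).2 ⟨g, hg, hk⟩
    have hk0 := ne_zero_rts D.A.epos hkr
    obtain ⟨w, hw⟩ := D.nu_surj ⟨SmallDegree.lam h μ, (lam_spec h μ).1⟩
    refine ⟨w / k, k, hkr, ?_, ?_⟩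
    · rw [div_mul_cancel₀ _ hk0, hw]
    · have e2 := (cConj_mk h hH D.hP hθ hg (D.nu (w / k))).2
      rw [D.nConj_nu hg hk, div_mul_cancel₀ _ hk0, hw, ← hμeq] at e2
      show n μ = n (mk h hH θ (D.nu (w / k)))
      apply Nat.cast_injective (R := ℂ)
      rw [← hn, ← hn, ← e2, co_cConj hg (isClassFunction_irr ζ.2)]
  have hzero : ∀ w : ZMod p, (∀ z r, r ∈ rts p e → z * r = w → m z = 0) →
      mult x (ζ : G → ℂ) w = 0 := by
    intro w hw
    rw [mult_eq_sum D n hexp w, Nat.cast_eq_zero]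
    refine Finset.sum_eq_zero fun μ hμ => ?_
    by_contra hne
    obtain ⟨z, r, hr', hl, hnm⟩ := hkey μ fun h0 => hne (by rw [h0, zero_mul])
    have hzr : z * r = w := D.nu_inj (Subtype.ext (hl.symm.trans (mem_filter.1 hμ).2))
    exact hne (by rw [hnm, hw z r hr' hzr, zero_mul])
  -- the Sylow subgroup is not in the kernel
  have htriv : (∀ z : ZMod p, z ≠ 0 → m z = 0) → False := by
    intro hz
    have h0 : ∀ w : ZMod p, w ≠ 0 → mult x (ζ : G → ℂ) w = 0 := fun w hw =>
      hzero w fun z r _ hzr => hz z fun h' => hw (by rw [← hzr, h', zero_mul])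
    refine D.ne (hfaith x ?_)
    have e1 := mult_expand (x := x) (ζ : G → ℂ) (1 : ZMod p)
    rw [xp_one] at e1
    rw [e1, ← sum_mult (x := x) (p := p) (ζ : G → ℂ)]
    refine Finset.sum_congr rfl fun w _ => ?_
    rcases eq_or_ne w 0 with rfl | hw
    · rw [zero_mul, AddChar.map_zero_eq_one, mul_one]
    · rw [h0 w hw, zero_mul]
  have hne : ∀ z : ZMod p, z ≠ 0 → D.nu z ≠ oneP (P : Subgroup G) := fun z hz hh =>
    hz (D.nu_inj (hh.trans D.nu_zero.symm))
  have hcard0 : (univ.erase (0 : ZMod p)).card = p - 1 := by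
    rw [card_erase_of_mem (mem_univ _), card_univ, ZMod.card]
  have hmany : (∀ z : ZMod p, z ≠ 0 → 1 ≤ m z) → False := by
    intro hz
    have h1 : (univ.erase (0 : ZMod p)).card • 1 ≤ ∑ z ∈ univ.erase (0 : ZMod p), m z :=
      Finset.card_nsmul_le_sum _ _ _ fun z hz' => hz z (mem_erase.1 hz').1
    rw [hcard0, smul_eq_mul, mul_one] at h1
    have h2 := Finset.sum_le_sum_of_subset (f := m) (Finset.erase_subset (0 : ZMod p) univ)
    omega
  rcases Finset.mem_union.1 (show ζ ∈ X ∪ Y by rw [← S.bset_eq, mem_bset]; exact hζB) with hX | hY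
  · -- a row with constant differences
    exfalso
    have hc : ∀ z : ZMod p, z ≠ 0 → (m z : ℤ) = m 0 + a ζ := fun z hz => by
      rw [hdd z, S.rowX ζ hX _ (hne z hz)]
    rcases S.ha ζ hX with ha | ha
    · exact hmany fun z hz => by have := hc z hz; omega
    · rcases Nat.lt_or_ge (m 0) 2 with hb | hb
      · exact htriv fun z hz => by have := hc z hz; omega
      · exact hmany fun z hz => by have := hc z hz; omega
  -- a row with a single orbit
  obtain ⟨a₁, ha₁⟩ := D.nu_surj (τ ζ)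
  have ha₁0 : a₁ ≠ 0 := fun h0 => S.neY ζ hY (by rw [← ha₁, h0, D.nu_zero])
  set T := univ.filter fun z : ZMod p => Sim θ (D.nu z) (τ ζ) with hT
  have hTr : ∀ z ∈ T, z / a₁ ∈ rts p e := by
    intro z hz
    have hs := (mem_filter.1 hz).2
    rw [← ha₁] at hs
    obtain ⟨g, hg, hge⟩ := hs
    obtain ⟨k, hk⟩ := D.exists_xp ((Subgroup.mem_normalizer_iff.1 hg.1 x).1 D.mem)
    rw [D.nConj_nu hg.1 hk] at hge
    rw [← D.nu_inj hge, mul_div_cancel_left₀ _ ha₁0]
    exact (D.exps k).2 ⟨g, hg.1, hk⟩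
  have hT0 : ∀ z ∈ T, z ≠ 0 := by
    rintro z hz rfl
    have h0 := hTr 0 hz
    rw [zero_div] at h0
    exact ne_zero_rts D.A.epos h0 rfl
  set E := (cen (P : Subgroup G)).relIndex (stab θ) with hE
  have hTE : T.card = E := by
    rw [hE, ← card_sim h (θ := θ) (S.neY ζ hY)]
    refine Finset.card_bij (fun z _ => D.nu z) (fun z hz => ?_) (fun z _ w _ hzw => D.nu_inj hzw)
      fun ν hν => ?_
    · exact mem_filter.2 ⟨mem_univ _, (mem_filter.1 hz).2⟩
    · obtain ⟨z, rfl⟩ := D.nu_surj ν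
      exact ⟨z, mem_filter.2 ⟨mem_univ _, (mem_filter.1 hν).2⟩, rfl⟩
  have hval : ∀ z : ZMod p, (m z : ℤ) = m 0 + (if z ∈ T then ε else 0) := by
    intro z
    rcases eq_or_ne z 0 with rfl | hz
    · rw [if_neg fun h0 => hT0 _ h0 rfl, add_zero]
    rw [hdd z]
    congr 1
    split_ifs with hzT
    · exact (S.rowY ζ hY _ (hne z hz)).1 (mem_filter.1 hzT).2
    · exact (S.rowY ζ hY _ (hne z hz)).2 fun hs => hzT (mem_filter.2 ⟨mem_univ _, hs⟩)
  rcases S.hε with hε | hε
  · -- the positive sign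
    rcases Nat.eq_zero_or_pos (m 0) with hb | hb
    · left
      refine ⟨a₁, ha₁0, fun w hw => hzero w fun z r hr' hzr => ?_⟩
      by_contra hmz
      have h1 := hval z
      rw [hb] at h1
      split_ifs at h1 with hzT
      · refine hw ?_
        rw [← hzr, show z * r / a₁ = z / a₁ * r by ring]
        exact mul_mem_rts (hTr z hzT) hr'
      · omega
    · exact (hmany fun z hz => by have := hval z; split_ifs at this <;> omega).elim
  -- the negative sign
  have hb : 1 ≤ m 0 := by
    obtain ⟨z, hz⟩ := (Finset.card_pos (s := T)).1 (by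
      rw [hTE]; exact Nat.pos_of_ne_zero Subgroup.index_ne_zero_of_finite)
    have := hval z
    rw [if_pos hz, hε] at this
    omega
  have hTp : E + 1 ≤ p := by
    have h1 : T ⊆ univ.erase (0 : ZMod p) := fun z hz => mem_erase.2 ⟨hT0 z hz, mem_univ _⟩
    have := card_le_card h1
    rw [hTE, hcard0] at this
    have := hp.two_le
    omega
  have hsum : (∑ z, (m z : ℤ)) = (p : ℤ) * m 0 - E := by
    rw [Finset.sum_congr rfl fun z _ => hval z, Finset.sum_add_distrib, sum_const, card_univ,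
      ZMod.card, nsmul_eq_mul, Finset.sum_ite_mem, Finset.univ_inter, sum_const, hTE, nsmul_eq_mul, hε]
    ring
  have hb1 : m 0 = 1 := by
    by_contra hne1
    have h1 : (p : ℤ) * 2 ≤ (p : ℤ) * m 0 := mul_le_mul_of_nonneg_left (by omega) (by positivity)
    have h2 : ((∑ z, m z : ℕ) : ℤ) ≤ (d : ℤ) := by exact_mod_cast hdle'
    push_cast at h2
    omega
  have hsum' : (∑ z, m z) + E = p := by
    have : ((∑ z, m z : ℕ) : ℤ) + E = (p : ℤ) := by push_cast; rw [hsum, hb1]; ring
    exact_mod_cast this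
  have hEne : E ≠ p - 1 := by
    intro hE1
    refine htriv fun z hz => ?_
    have hT1 : T = univ.erase (0 : ZMod p) :=
      eq_of_subset_of_card_le (fun w hw => mem_erase.2 ⟨hT0 w hw, mem_univ _⟩)
        (by rw [hcard0, hTE, hE1])
    have := hval z
    rw [if_pos (by rw [hT1]; exact mem_erase.2 ⟨hz, mem_univ _⟩), hε, hb1] at this
    omega
  set R := (stab θ).relIndex (Subgroup.normalizer ((P : Subgroup G) : Set G)) with hR
  have hER : E * R = e := (relIndex_mul θ).trans D.hq
  have hE2 : 2 * E ≤ p - 1 := by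
    have hdvd : E ∣ p - 1 := by
      have h1 : E ∣ t * e := ⟨t * R, by rw [← hER]; ring⟩
      have h2 : t * e = p - 1 := by have := D.A.mul; omega
      rwa [h2] at h1
    obtain ⟨q, hq⟩ := hdvd
    rcases q with _ | _ | q
    · have := hp.two_le; omega
    · exact absurd (by omega) hEne
    · rw [hq, mul_comm]; exact Nat.mul_le_mul_left E (by omega)
  have hstab : ∀ (g : G) (hg : g ∈ Subgroup.normalizer ((P : Subgroup G) : Set G)),
      cConj hg θ = θ := by
    intro g hg
    by_contra hne'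
    obtain ⟨hl, -⟩ := cConj_mk h hH D.hP hθ hg (oneP (P : Subgroup G))
    have h2 := sum_mk_le_two D hH ζ n hdeg θ (cConj hg θ) hθ hl (Ne.symm hne')
    obtain ⟨k, hk⟩ := D.exists_xp ((Subgroup.mem_normalizer_iff.1 hg x).1 D.mem)
    have hk0 := ne_zero_rts D.A.epos ((D.exps k).2 ⟨g, hg, hk⟩)
    have h3 : ∑ z, n (mk h hH (cConj hg θ) (D.nu z)) = ∑ z, m z := by
      symm
      refine Fintype.sum_equiv (Equiv.mulRight₀ k hk0) _ _ fun z => ?_
      have e2 := (cConj_mk h hH D.hP hθ hg (D.nu z)).2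
      rw [D.nConj_nu hg hk] at e2
      rw [Equiv.mulRight₀_apply]
      apply Nat.cast_injective (R := ℂ)
      show (n (mk h hH θ (D.nu z)) : ℂ) = (n (mk h hH (cConj hg θ) (D.nu (z * k))) : ℂ)
      rw [← hn, ← hn, ← e2, co_cConj hg (isClassFunction_irr ζ.2)]
    rw [h3] at h2
    change (∑ z, m z) + (∑ z, m z) ≤ d at h2
    omega
  have hst : stab θ = Subgroup.normalizer ((P : Subgroup G) : Set G) :=
    le_antisymm (stab_le θ) fun g hg => ⟨hg, hstab g hg⟩
  have hEe : E = e := by
    have h1 : R = 1 := by rw [hR, hst, Subgroup.relIndex_self]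
    rw [h1, mul_one] at hER
    exact hER
  have ht : 2 ≤ t := by
    by_contra ht
    have htpos := D.A.tpos
    have h1 : t = 1 := by omega
    have := D.A.mul
    rw [h1, one_mul] at this
    omega
  have hθdeg : charDegree (θ : cen (P : Subgroup G) → ℂ) = 1 := by
    by_contra hne1
    have h2 : (∑ z, m z) * 2 ≤ d := le_trans (Nat.mul_le_mul_left _ (by omega)) hdle
    omega
  have hover : ∀ μ, n μ ≠ 0 → resH hH μ = resH hH θ := by
    intro μ hμ
    obtain ⟨g, hg, hres⟩ := over_root D hH ζ n hn hdeg hM hr hB hζB (by omega) μ hμ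
    rw [← hres, hstab g hg]
  -- the complement is the centre
  have hθone : (θ : cen (P : Subgroup G) → ℂ) 1 = 1 := by
    rw [← irr_charDegree_cast, hθdeg, Nat.cast_one]
  have hHZ : H ≤ Subgroup.center G := by
    intro y hy
    rw [Subgroup.mem_center_iff]
    intro g
    have hc : ∀ y : H, (ζ : G → ℂ) (y : G) = (d : ℂ) * resH hH θ y := by
      intro y
      have h1 := hexp ⟨y, hH.le y.2⟩
      rw [h1, hdeg, Nat.cast_sum, Finset.sum_mul]
      refine Finset.sum_congr rfl fun μ _ => ?_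
      rcases eq_or_ne (n μ) 0 with h0 | h0
      · simp [h0]
      have h2 := congrFun (hover μ h0) y
      have h3 : (μ : cen (P : Subgroup G) → ℂ) 1 = 1 := by
        have := congrFun (hover μ h0) 1
        rw [resH_one, resH_one, hθone] at this
        exact this
      show (n μ : ℂ) * resH hH μ y = _
      rw [h2, Nat.cast_mul, irr_charDegree_cast, h3, mul_one]
    obtain ⟨dd', R', hR', hRχ⟩ := ζ.2
    obtain ⟨φ, hφ⟩ := exists_hom_of_degree_one (isCharacter_of_irr (resH_irr h hH θ))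
      (by rw [resH_one, hθone])
    let Rt : Representation ℂ H (Fin dd' → ℂ) :=
      { toFun := fun c => ((φ c)⁻¹ : ℂˣ).val • R' c
        map_one' := by simp
        map_mul' := fun c c' => by
          rw [map_mul, mul_inv, Units.val_mul, Subgroup.coe_mul, map_mul, smul_mul_assoc,
            mul_smul_comm, smul_smul] }
    have hRt : Rt.character ⟨y, hy⟩ = Rt.character 1 := by
      have e : ∀ c, Rt.character c = ((φ c)⁻¹ : ℂˣ).val * (ζ : G → ℂ) c := fun c => by
        show LinearMap.trace ℂ _ (((φ c)⁻¹ : ℂˣ).val • R' c) = _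
        rw [map_smul, smul_eq_mul, ← hRχ]
        rfl
      have eφ : ∀ c, resH hH θ c = (φ c : ℂ) := fun c => by rw [hφ]
      rw [e, e, hc, hc, eφ, eφ, ← mul_assoc, ← mul_assoc, mul_comm _ (d : ℂ), mul_comm _ (d : ℂ),
        mul_assoc, mul_assoc, Units.inv_mul, Units.inv_mul]
    have h2 := rep_apply_eq_one_of_char_eq Rt hRt
    have h3 : R' y = (φ ⟨y, hy⟩ : ℂ) • 1 := by
      have h4 : ((φ ⟨y, hy⟩)⁻¹ : ℂˣ).val • R' y = 1 := h2
      rw [← h4, smul_smul, Units.mul_inv, one_smul]
    have h5 : g * y * g⁻¹ * y⁻¹ = 1 := by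
      refine hfaith _ ?_
      have h6 : R' (g * y * g⁻¹ * y⁻¹) = 1 := by
        have e1 : R' g * R' y = R' y * R' g := by
          rw [h3, mul_smul_comm, smul_mul_assoc, mul_one, one_mul]
        calc R' (g * y * g⁻¹ * y⁻¹) = R' g * R' y * R' g⁻¹ * R' y⁻¹ := by simp only [map_mul]
          _ = R' y * (R' g * R' g⁻¹) * R' y⁻¹ := by rw [e1]; simp only [mul_assoc]
          _ = 1 := by
              rw [← map_mul R' g, mul_inv_cancel, map_one, mul_one, ← map_mul, mul_inv_cancel, map_one]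
      rw [← hRχ, Representation.character, Representation.character, h6, map_one R']
    calc g * y = g * y * g⁻¹ * y⁻¹ * (y * g) := by group
      _ = y * g := by rw [h5, one_mul]
  have hHeq : H = Subgroup.center G := by
    refine le_antisymm hHZ fun c hc => ?_
    obtain ⟨q, hq, y, hy, rfl⟩ := hH.prod c (Subgroup.center_le_centralizer _ hc)
    have hq1 : q ∈ (P : Subgroup G) ⊓ Subgroup.center G := ⟨hq, by
      have := (Subgroup.center G).mul_mem hc ((Subgroup.center G).inv_mem (hHZ hy))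
      rwa [mul_inv_cancel_right] at this⟩
    rw [hZ, Subgroup.mem_bot] at hq1
    rw [hq1, one_mul]; exact hy
  refine Or.inr ⟨ht, hHeq ▸ hH, a₁, ha₁0, fun w => ?_⟩
  have hTeq : T = (rts p e).image (a₁ * ·) := by
    refine eq_of_subset_of_card_le
      (fun z hz => mem_image.2 ⟨z / a₁, hTr z hz, mul_div_cancel₀ _ ha₁0⟩) ?_
    rw [card_image_of_injective _ (mul_right_injective₀ ha₁0), D.A.card_rts, hTE, hEe]
  have hw : mult x (ζ : G → ℂ) w = (m w : ℂ) := by
    rw [mult_eq_sum D n hexp w, Nat.cast_inj]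
    rw [Finset.sum_eq_single (mk h hH θ (D.nu w))]
    · rw [degree_mk D hH, hθdeg, mul_one]
    · intro μ hμ hne'
      by_contra h0
      refine hne' ?_
      rw [eq_mk h hH hθ (hover μ fun h1 => h0 (by rw [h1, zero_mul]))]
      exact congrArg _ (Subtype.ext (mem_filter.1 hμ).2)
    · intro hnot
      exact absurd (mem_filter.2 ⟨mem_univ (mk h hH θ (D.nu w)), lam_mk h hH hθ (D.nu w)⟩) hnot
  rw [hw]
  have h1 := hval w
  have hiff : w ∈ T ↔ w / a₁ ∈ rts p e := by
    rw [hTeq, mem_image]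
    exact ⟨fun ⟨r, hr', he'⟩ => by rw [← he', mul_div_cancel_left₀ _ ha₁0]; exact hr',
      fun h' => ⟨w / a₁, h', mul_div_cancel₀ _ ha₁0⟩⟩
  by_cases hwT : w ∈ T
  · rw [if_pos hwT, hε, hb1] at h1
    rw [if_pos (hiff.1 hwT), show m w = 0 by omega]
    norm_num
  · rw [if_neg hwT, hb1] at h1
    rw [if_neg (fun h' => hwT (hiff.2 h')), show m w = 1 by omega]
    norm_num

end CfsgLib.FeitSmall
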