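import Cfsg.Agent.Lib.FeitSmall.CaseA
import Cfsg.Agent.Lib.FeitSmall.SmallFromBlock

/-!
# Two classes: degree `(p + 1) / 2` forces `PSL₂(p)`
-/

namespace CfsgLib.FeitSmall

open Cfsg CfsgLib.Blocks CfsgLib.Blocks.DefectOne CfsgLib.CharTheory CfsgLib.CharTheory.SmallDegree
open CfsgLib.SmallSylow Finset

set_option linter.unusedVariables false
set_option linter.style.haveILetI false
set_option linter.unusedSectionVars false

universe u

variable {p : ℕ} [Fact p.Prime] {G : Type u} [Group G] [Fintype G] {P : Sylow p G} {x : G} {e t : ℕ}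

theorem Shape.degree (A : Arith p e t) {ζ : IrrCharacter G} {a : ZMod p} (ha : a ≠ 0)
    (h : Shape x e (ζ : G → ℂ) a 1 (-1)) : charDegree (ζ : G → ℂ) + e = p := by
  have h1 : (ζ : G → ℂ) 1 = (p : ℂ) - e := by
    rw [← sum_mult (x := x) (p := p) (ζ : G → ℂ), Finset.sum_congr rfl fun z _ => h z,
      Finset.sum_add_distrib, ← Finset.mul_sum, sum_ind A ha, sum_const, card_univ, ZMod.card,
      nsmul_eq_mul]
    push_cast; ring
  rw [← irr_charDegree_cast] at h1
  have : ((charDegree (ζ : G → ℂ) + e : ℕ) : ℂ) = (p : ℂ) := by push_cast; linear_combination h1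
  exact_mod_cast this

/-- Two classes. -/
theorem caseB_two (D : Data P x e 2) (hp11 : 11 ≤ p) (ζ : IrrCharacter G)
    (hfaith : ∀ g : G, (ζ : G → ℂ) g = (ζ : G → ℂ) 1 → g = 1) (hnn : ¬ (P : Subgroup G).Normal)
    (hH : Compl (P : Subgroup G) (Subgroup.center G)) {a : ZMod p} (ha : a ≠ 0)
    (hS : Shape x e (ζ : G → ℂ) a 1 (-1)) :
    2 * charDegree (ζ : G → ℂ) = p + 1 ∧ Nonempty ((G ⧸ Subgroup.center G) ≃*
      Matrix.ProjectiveSpecialLinearGroup (Fin 2) (ZMod p)) := by
  classical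
  have hA := D.A.mul
  have hdeg := hS.degree D.A ha
  have hpe : p = 2 * e + 1 := by omega
  refine ⟨by omega, ?_⟩
  have hd : charDegree (ζ : G → ℂ) = e + 1 := by omega
  obtain ⟨R, hR, -, hRχ⟩ := exists_rep ζ hfaith
  set S := univ \ (rts p e).image (a * ·) with hSdef
  have hScard : S.card = e + 1 := by
    rw [hSdef, card_sdiff_of_subset (subset_univ _), card_coset D.A ha, card_univ, ZMod.card]
    omega
  have hSz : ∀ z, z ∉ S → mult x R.character z = 0 := by
    intro z hz
    rw [hRχ, hS z, if_pos]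
    · norm_num
    · by_contra h
      exact hz (mem_sdiff.2 ⟨mem_univ _, fun h' => h ((mem_coset ha).1 h')⟩)
  have hnn' : ¬ (Subgroup.zpowers x).Normal := by rwa [D.zpowers]
  have hcen : ∀ g : G, g * x = x * g → ¬ p ∣ orderOf g → g ∈ Subgroup.center G := fun g hg hreg =>
    mem_H_of_regular D.setup hH D.hP
      (D.setup.free D.mem D.ne (by rw [hg, mul_inv_cancel_right])) hreg
  have hexp : ∀ (n : G) (j : ℕ), n * x * n⁻¹ = x ^ j → (j : ZMod p) ^ e = 1 := fun n j h =>
    D.exponent_pow h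
  revert R
  rw [hd]
  intro R hR hRχ hSz
  obtain ⟨k, hk, hka, hkc, σ, hσx, hpow⟩ := exists_modular D R hR hnn S hSz
  by_cases hXf : (σ x - 1) ^ e = 0
  · exact central_quotient_psl_gen hpe (by omega) D.order D.sq_not_dvd σ hσx (m := e) (by omega)
      (by omega) hXf R hR (by omega) hnn' hexp hcen
  · obtain ⟨n, τ, hn, hτx⟩ := exists_small_rep (p := p) D.order
      (fun h => D.setup.sylow (by rwa [D.zpowers] at h)) hpe hp11 σ hXf
    have hτn : (τ x - 1) ^ n = 0 :=
      CfsgLib.SmallRep.unipotent_pow_eq_zero (p := p) (by rw [← map_pow, D.pow, map_one])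
    exact central_quotient_psl_gen hpe (by omega) D.order D.sq_not_dvd τ hτx (m := n) (by omega)
      (by omega) hτn R hR (by omega) hnn' hexp hcen

end CfsgLib.FeitSmall
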