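import Cfsg.Agent.Lib.FeitSmall.Coef

/-!
# Weights of a complement on the fixed points of the Sylow subgroup
-/

namespace CfsgLib.FeitSmall

open Cfsg CfsgLib.CharTheory CfsgLib.SmallSylow Finset
open scoped ComplexConjugate

set_option linter.unusedVariables false
set_option linter.unusedSectionVars false

universe u

variable {p : ℕ} [Fact p.Prime] {G : Type u} [Group G] [Fintype G] {P : Sylow p G} {x : G} {e t : ℕ}
  [NeZero e]

/-- An element inducing a full automorphism group on `⟨x⟩`. -/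
structure Gen (x : G) (e : ℕ) (h : G) (a₀ : ZMod p) : Prop where
  pow : h ^ e = 1
  root : IsPrimitiveRoot a₀ e
  act : h * x * h⁻¹ = xp x a₀

/-- The powers of `h`. -/
def hq {e : ℕ} (h : G) (j : ZMod e) : G := h ^ j.val

/-- The standard character of `ZMod e`. -/
noncomputable abbrev psiE (e : ℕ) [NeZero e] : AddChar (ZMod e) ℂ := ZMod.stdAddChar

theorem sum_psiE (b : ZMod e) : ∑ k, psiE e (k * b) = if b = 0 then (e : ℂ) else 0 := by
  rw [AddChar.sum_mulShift b (ZMod.isPrimitive_stdAddChar e), ZMod.card]; split_ifs <;> simp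

/-- The weights. -/
noncomputable def wt (x h : G) (p : ℕ) [Fact p.Prime] {e : ℕ} [NeZero e] (f : G → ℂ) (u : ZMod e) : ℂ :=
  (e : ℂ)⁻¹ * (mult x f (0 : ZMod p) + ∑ j ∈ univ.erase (0 : ZMod e), f (hq h j) * psiE e (-(u * j)))

variable {h : G} {a₀ : ZMod p}

theorem hq_add (hh : Gen x e h a₀) (i j : ZMod e) : hq h (i + j) = hq h i * hq h j := by
  rw [hq, hq, hq, ← pow_add, ZMod.val_add, ← pow_eq_pow_mod _ hh.pow]

theorem hq_zero : hq h (0 : ZMod e) = 1 := by rw [hq, ZMod.val_zero, pow_zero]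

theorem Gen.conj_xp (hh : Gen x e h a₀) (D : Data P x e t) (n : ℕ) (k : ZMod p) :
    h ^ n * xp x k * (h ^ n)⁻¹ = xp x (a₀ ^ n * k) := by
  induction n generalizing k with
  | zero => simp
  | succ n ih =>
    rw [pow_succ, mul_inv_rev,
      show h ^ n * h * xp x k * (h⁻¹ * (h ^ n)⁻¹) = h ^ n * (h * xp x k * h⁻¹) * (h ^ n)⁻¹ by group,
      show h * xp x k * h⁻¹ = xp x (a₀ * k) by rw [xp_mul D.pow, ← hh.act, conj_pow]; rfl, ih,
      pow_succ, mul_assoc]

theorem Gen.pow_ne_one (hh : Gen x e h a₀) {j : ZMod e} (hj : j ≠ 0) : a₀ ^ j.val ≠ 1 := fun e1 => by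
  have h1 := Nat.eq_zero_of_dvd_of_lt ((hh.root.pow_eq_one_iff_dvd _).1 e1) (ZMod.val_lt j)
  exact hj (ZMod.val_injective e (by rw [h1, ZMod.val_zero]))

theorem Gen.regular (hh : Gen x e h a₀) (D : Data P x e t) (j : ZMod e) : ¬ p ∣ orderOf (hq h j) := by
  intro hd
  have h1 : hq h j ^ e = 1 := by rw [hq, ← pow_mul, mul_comm, pow_mul, hh.pow, one_pow]
  have := Nat.le_of_dvd (Nat.pos_of_ne_zero D.A.epos) (hd.trans (orderOf_dvd_of_pow_eq_one h1))
  have := D.A.lt
  omega

theorem Gen.value_coset (hh : Gen x e h a₀) (D : Data P x e t) {f : G → ℂ} (hf : IsClassFunction G f)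
    {j : ZMod e} (hj : j ≠ 0) (k : ZMod p) : f (xp x k * hq h j) = f (hq h j) := by
  set a := a₀ ^ j.val with ha
  have h1 : 1 - a ≠ 0 := sub_ne_zero.2 fun e1 => hh.pow_ne_one hj e1.symm
  set m := k / (1 - a) with hm
  have e1 : xp x k * hq h j = xp x m * hq h j * (xp x m)⁻¹ := by
    have e2 : (xp x m)⁻¹ = xp x (-m) := by
      refine inv_eq_of_mul_eq_one_right ?_
      rw [← xp_add D.pow, add_neg_cancel, xp_zero]
    have e3 : hq h j * xp x (-m) = xp x (a * -m) * hq h j := by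
      rw [ha, ← hh.conj_xp D, hq, inv_mul_cancel_right]
    rw [e2, mul_assoc (xp x m), e3, ← mul_assoc, ← xp_add D.pow]
    congr 2
    rw [hm]; field_simp; ring
  rw [e1, hf]

theorem Gen.wt_nat (hh : Gen x e h a₀) (D : Data P x e t) {f : G → ℂ} (hf : IsCharacter G f)
    (u : ZMod e) : ∃ n : ℕ, wt x h p f u = n := by
  classical
  have hcl := isClassFunction_char hf
  obtain ⟨d, R, rfl⟩ := hf
  set A : Module.End ℂ (Fin d → ℂ) := (p : ℂ)⁻¹ • ∑ k : ZMod p, R (xp x k) with hA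
  set B : Module.End ℂ (Fin d → ℂ) := (e : ℂ)⁻¹ • ∑ j : ZMod e, psiE e (-(u * j)) • R (hq h j) with hB
  have hp0 : (p : ℂ) ≠ 0 := Nat.cast_ne_zero.2 (Fact.out : p.Prime).ne_zero
  have he0 : (e : ℂ) ≠ 0 := Nat.cast_ne_zero.2 (NeZero.ne e)
  have hAA : A * A = A := by
    rw [hA, smul_mul_smul_comm, Finset.sum_mul_sum,
      Finset.sum_congr rfl fun i _ => show ∑ k : ZMod p, R (xp x i) * R (xp x k) = ∑ k, R (xp x k) from
        Fintype.sum_equiv (Equiv.addLeft i) _ _ fun k => by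
          rw [Equiv.coe_addLeft, xp_add D.pow, map_mul],
      sum_const, card_univ, ZMod.card, ← Nat.cast_smul_eq_nsmul ℂ, smul_smul,
      mul_assoc, inv_mul_cancel₀ hp0, mul_one]
  have hBB : B * B = B := by
    rw [hB, smul_mul_smul_comm, Finset.sum_mul_sum,
      Finset.sum_congr rfl fun i _ => show
        ∑ j : ZMod e, (psiE e (-(u * i)) • R (hq h i)) * (psiE e (-(u * j)) • R (hq h j)) =
          ∑ j : ZMod e, psiE e (-(u * j)) • R (hq h j) from
        Fintype.sum_equiv (Equiv.addLeft i) _ _ fun j => by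
          rw [Equiv.coe_addLeft, smul_mul_smul_comm, ← AddChar.map_add_eq_mul, ← map_mul, ← hq_add hh,
            mul_add, neg_add],
      sum_const, card_univ, ZMod.card, ← Nat.cast_smul_eq_nsmul ℂ, smul_smul,
      mul_assoc, inv_mul_cancel₀ he0, mul_one]
  have hcomm : Commute A B := by
    rw [hA, hB]
    refine Commute.smul_right (Commute.smul_left ?_ _) _
    refine Commute.sum_right _ _ _ fun j _ => Commute.smul_right ?_ _
    show (∑ k : ZMod p, R (xp x k)) * R (hq h j) = R (hq h j) * ∑ k : ZMod p, R (xp x k)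
    rw [Finset.sum_mul, Finset.mul_sum]
    symm
    refine Fintype.sum_equiv (Equiv.mulLeft₀ (a₀ ^ j.val) (pow_ne_zero _
      (hh.root.ne_zero (NeZero.ne e)))) _ _ fun k => ?_
    rw [Equiv.mulLeft₀_apply, ← map_mul, ← map_mul, ← hh.conj_xp D, hq, inv_mul_cancel_right]
  set E := A * B with hE
  have hEE : E * E = E := by
    rw [hE, mul_assoc, ← mul_assoc B, ← hcomm.eq, mul_assoc, hBB, ← mul_assoc, hAA]
  have hproj : LinearMap.IsProj (LinearMap.range E) E :=
    ⟨fun v => LinearMap.mem_range_self _ v, by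
      rintro _ ⟨y, rfl⟩; exact LinearMap.congr_fun hEE y⟩
  refine ⟨Module.finrank ℂ (LinearMap.range E), ?_⟩
  rw [← hproj.trace, hE, hA, hB, smul_mul_smul_comm, Finset.sum_mul_sum, map_smul, map_sum]
  simp only [map_sum, mul_smul_comm, map_smul, ← map_mul, smul_eq_mul]
  rw [Finset.sum_comm, ← Finset.add_sum_erase _ _ (mem_univ (0 : ZMod e))]
  have h0 : ∑ k : ZMod p, psiE e (-(u * 0)) * LinearMap.trace ℂ _ (R (xp x k * hq h (0 : ZMod e))) =
      (p : ℂ) * mult x R.character (0 : ZMod p) := by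
    rw [mult, mul_inv_cancel_left₀ hp0]
    refine Finset.sum_congr rfl fun k _ => ?_
    rw [mul_zero, neg_zero, AddChar.map_zero_eq_one, one_mul, hq_zero, mul_one, zero_mul, neg_zero,
      AddChar.map_zero_eq_one, mul_one]
    rfl
  have hj : ∀ j ∈ univ.erase (0 : ZMod e),
      ∑ k : ZMod p, psiE e (-(u * j)) * LinearMap.trace ℂ _ (R (xp x k * hq h j)) =
        (p : ℂ) * (R.character (hq h j) * psiE e (-(u * j))) := by
    intro j hj
    rw [Finset.sum_congr rfl fun k _ => show psiE e (-(u * j)) * LinearMap.trace ℂ _ (R (xp x k * hq h j)) =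
        R.character (hq h j) * psiE e (-(u * j)) by
      show psiE e (-(u * j)) * R.character (xp x k * hq h j) = _
      rw [hh.value_coset D hcl (mem_erase.1 hj).1]
      ring, sum_const, card_univ, ZMod.card, nsmul_eq_mul]
  rw [h0, Finset.sum_congr rfl hj, ← Finset.mul_sum, ← mul_add, wt]
  rw [show (p : ℂ)⁻¹ * (e : ℂ)⁻¹ * ((p : ℂ) * (mult x R.character (0 : ZMod p) +
      ∑ i ∈ univ.erase (0 : ZMod e), R.character (hq h i) * psiE e (-(u * i)))) =
    (e : ℂ)⁻¹ * (mult x R.character (0 : ZMod p) +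
      ∑ i ∈ univ.erase (0 : ZMod e), R.character (hq h i) * psiE e (-(u * i))) by field_simp]

theorem sum_wt (f : G → ℂ) : ∑ u : ZMod e, wt x h p f u = mult x f (0 : ZMod p) := by
  simp only [wt, ← Finset.mul_sum, Finset.sum_add_distrib, sum_const, card_univ, ZMod.card,
    nsmul_eq_mul]
  rw [Finset.sum_comm, Finset.sum_congr rfl fun j hj => show
    ∑ u : ZMod e, f (hq h j) * psiE e (-(u * j)) = 0 by
      rw [← Finset.mul_sum, Finset.sum_congr rfl fun u _ => show psiE e (-(u * j)) = psiE e (u * -j) by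
        rw [mul_neg], sum_psiE, if_neg (neg_ne_zero.2 (mem_erase.1 hj).1), mul_zero],
    sum_const_zero, add_zero, inv_mul_cancel_left₀ (Nat.cast_ne_zero.2 (NeZero.ne e))]

theorem wt_inversion (f : G → ℂ) {j : ZMod e} (hj : j ≠ 0) :
    ∑ u : ZMod e, wt x h p f u * psiE e (u * j) = f (hq h j) := by
  simp only [wt, mul_assoc, ← Finset.mul_sum, add_mul, Finset.sum_add_distrib, Finset.sum_mul]
  rw [sum_psiE, if_neg hj, mul_zero, zero_add, Finset.sum_comm]
  have h1 : ∀ i : ZMod e, ∑ u : ZMod e, f (hq h i) * (psiE e (-(u * i)) * psiE e (u * j)) =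
      if i = j then (e : ℂ) * f (hq h i) else 0 := by
    intro i
    rw [← Finset.mul_sum, Finset.sum_congr rfl fun u _ => show
      psiE e (-(u * i)) * psiE e (u * j) = psiE e (u * (j - i)) by
      rw [← AddChar.map_add_eq_mul]; ring_nf, sum_psiE]
    rcases eq_or_ne i j with rfl | hne
    · rw [if_pos (sub_self _), if_pos rfl, mul_comm]
    · rw [if_neg (sub_ne_zero.2 hne.symm), if_neg hne, mul_zero]
  rw [Finset.sum_congr rfl fun i _ => h1 i, Finset.sum_ite_eq', if_pos (mem_erase.2 ⟨hj, mem_univ _⟩),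
    inv_mul_cancel_left₀ (Nat.cast_ne_zero.2 (NeZero.ne e))]

/-- The weights when the values on the complement are a linear character. -/
theorem wt_of_values (f : G → ℂ) (w : ZMod e) (hf : ∀ j : ZMod e, j ≠ 0 → f (hq h j) = psiE e (w * j))
    (u : ZMod e) :
    wt x h p f u = (e : ℂ)⁻¹ * (mult x f (0 : ZMod p) - 1) + (if u = w then 1 else 0) := by
  have h1 : ∑ j ∈ univ.erase (0 : ZMod e), f (hq h j) * psiE e (-(u * j)) =
      (if u = w then (e : ℂ) else 0) - 1 := by
    rw [Finset.sum_congr rfl fun j hj => show f (hq h j) * psiE e (-(u * j)) = psiE e (j * (w - u)) by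
      rw [hf j (mem_erase.1 hj).1, ← AddChar.map_add_eq_mul]; ring_nf,
      Finset.sum_erase_eq_sub (mem_univ _), sum_psiE, zero_mul, AddChar.map_zero_eq_one]
    rcases eq_or_ne u w with rfl | hne
    · rw [if_pos (sub_self _), if_pos rfl]
    · rw [if_neg (sub_ne_zero.2 hne.symm), if_neg hne]
  have he0 : (e : ℂ) ≠ 0 := Nat.cast_ne_zero.2 (NeZero.ne e)
  rw [wt, h1]
  split_ifs <;> field_simp <;> ring

theorem wt_congr (f f' : G → ℂ) (h0 : mult x f (0 : ZMod p) = mult x f' (0 : ZMod p))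
    (hj : ∀ j : ZMod e, j ≠ 0 → f (hq h j) = f' (hq h j)) (u : ZMod e) :
    wt x h p f u = wt x h p f' u := by
  rw [wt, wt, h0, Finset.sum_congr rfl fun j hj' => by rw [hj j (mem_erase.1 hj').1]]

theorem wt_decomp {f : G → ℂ} (hf : IsClassFunction G f) (u : ZMod e) :
    wt x h p f u = ∑ χ : IrrCharacter G, classInner f (χ : G → ℂ) * wt x h p (χ : G → ℂ) u := by
  have h1 : ∀ g, f g = ∑ χ : IrrCharacter G, classInner f (χ : G → ℂ) * (χ : G → ℂ) g := fun g => by
    conv_lhs => rw [eq_sum_irr hf]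
    simp
  simp only [wt]
  rw [mult_decomp hf, show ∑ j ∈ univ.erase (0 : ZMod e), f (hq h j) * psiE e (-(u * j)) =
      ∑ χ : IrrCharacter G, ∑ j ∈ univ.erase (0 : ZMod e),
        classInner f (χ : G → ℂ) * ((χ : G → ℂ) (hq h j) * psiE e (-(u * j))) by
    rw [Finset.sum_comm]
    refine Finset.sum_congr rfl fun j _ => ?_
    rw [h1 (hq h j), Finset.sum_mul]
    exact Finset.sum_congr rfl fun χ _ => mul_assoc _ _ _]
  rw [← Finset.sum_add_distrib, Finset.mul_sum]
  refine Finset.sum_congr rfl fun χ _ => ?_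
  rw [← Finset.mul_sum]
  ring

theorem Fam.wt_eq {D : Data P x e t} {w : Subgroup.center G →* ℂ} {F : ZMod p → IrrCharacter G}
    {n : ℕ} {ε : ℤ} (hF : Fam D w F n ε) (hh : Gen x e h a₀) {a : ZMod p} (ha : a ≠ 0) (u : ZMod e) :
    wt x h p (F a : G → ℂ) u = wt x h p (F 1 : G → ℂ) u := by
  refine wt_congr _ _ ?_ (fun j _ => hF.agree a 1 ha one_ne_zero _ (hh.regular D j)) u
  have h0 : ∀ b : ZMod p, ¬ (0 : ZMod p) / b ∈ rts p e := fun b h1 => by
    rw [zero_div] at h1; exact ne_zero_rts D.A.epos h1 rfl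
  rw [hF.vals a ha, hF.vals 1 one_ne_zero, if_neg (h0 a), if_neg (h0 1)]

/-- With one fixed point the weight is unique. -/
theorem Fam.exists_weight {D : Data P x e t} {w : Subgroup.center G →* ℂ} {F : ZMod p → IrrCharacter G}
    {ε : ℤ} (hF : Fam D w F 1 ε) (hh : Gen x e h a₀) :
    ∃ α : ZMod e, ∀ a, a ≠ 0 → (∀ u, wt x h p (F a : G → ℂ) u = if u = α then 1 else 0) ∧
      ∀ j : ZMod e, j ≠ 0 → (F a : G → ℂ) (hq h j) = psiE e (α * j) := by
  classical
  choose n hn using fun u => hh.wt_nat D (isCharacter_of_irr (F 1).2) u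
  have hsum : ∑ u, n u = 1 := by
    have h1 := sum_wt (x := x) (h := h) (p := p) (e := e) (F 1 : G → ℂ)
    rw [hF.vals 1 one_ne_zero, if_neg (fun h0 => by
      rw [zero_div] at h0; exact ne_zero_rts D.A.epos h0 rfl), mul_zero, add_zero,
      Finset.sum_congr rfl fun u _ => hn u] at h1
    exact_mod_cast h1
  obtain ⟨α, -, hα⟩ := Finset.exists_ne_zero_of_sum_ne_zero (show ∑ u, n u ≠ 0 by rw [hsum]; exact one_ne_zero)
  have hval : ∀ u, n u = if u = α then 1 else 0 := by
    intro u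
    have h1 := Finset.add_sum_erase univ n (mem_univ α)
    have h2 : ∑ u ∈ univ.erase α, n u = 0 := by omega
    split_ifs with hu
    · subst hu; omega
    · exact Finset.sum_eq_zero_iff.1 h2 u (mem_erase.2 ⟨hu, mem_univ _⟩)
  refine ⟨α, fun a ha => ?_⟩
  have hw : ∀ u, wt x h p (F a : G → ℂ) u = if u = α then 1 else 0 := fun u => by
    rw [hF.wt_eq hh ha, hn, hval]; split_ifs <;> simp
  refine ⟨hw, fun j hj => ?_⟩
  rw [← wt_inversion (x := x) (h := h) (p := p) (F a : G → ℂ) hj, Finset.sum_eq_single α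
    (fun u _ hu => by rw [hw, if_neg hu, zero_mul]) (fun h0 => absurd (mem_univ _) h0), hw,
    if_pos rfl, one_mul]

/-- The weight of a character split along a family. -/
theorem Fam.slot_eq {D : Data P x e t} {w : Subgroup.center G →* ℂ} {F : ZMod p → IrrCharacter G}
    {n : ℕ} {ε : ℤ} (hF : Fam D w F n ε) (hh : Gen x e h a₀) {f : G → ℂ} (hf : IsCharacter G f)
    (u : ZMod e) (b : ZMod p → ℕ) (hb : ∀ z, z ≠ 0 → classInner f (F z : G → ℂ) = b z)
    {nw W : ℕ} (hnw : wt x h p (F 1 : G → ℂ) u = nw) (hW : wt x h p f u = W)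
    (M V : IrrCharacter G → ℕ) (hM : ∀ χ : IrrCharacter G, classInner f (χ : G → ℂ) = M χ)
    (hV : ∀ χ : IrrCharacter G, wt x h p (χ : G → ℂ) u = V χ) [DecidableEq (IrrCharacter G)] :
    (∑ z ∈ univ.erase (0 : ZMod p), b z) * nw +
      e * ∑ χ ∈ univ \ (univ.erase (0 : ZMod p)).image F, M χ * V χ = e * W := by
  classical
  have hWsum : W = ∑ χ, M χ * V χ := by
    have h1 := wt_decomp (x := x) (h := h) (p := p) (isClassFunction_char hf) u
    rw [hW, Finset.sum_congr rfl fun χ _ => by rw [hM, hV]] at h1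
    exact_mod_cast h1
  set S := (univ.erase (0 : ZMod p)).image F with hS
  have hSeq : (∑ z ∈ univ.erase (0 : ZMod p), b z) * nw = e * ∑ χ ∈ S, M χ * V χ := by
    rw [Finset.sum_mul, ← Finset.sum_fiberwise_of_maps_to (g := F) (t := S)
      (fun z hz => mem_image_of_mem F hz), Finset.mul_sum]
    refine Finset.sum_congr rfl fun χ hχ => ?_
    obtain ⟨a, ha, rfl⟩ := mem_image.1 hχ
    have ha0 := (mem_erase.1 ha).1
    have hfib : (univ.erase (0 : ZMod p)).filter (fun z => F z = F a) = (rts p e).image (a * ·) := by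
      ext z
      simp only [mem_filter, mem_erase, mem_univ, and_true, mem_image]
      constructor
      · rintro ⟨hz, hza⟩
        exact ⟨z / a, (hF.eq_iff a z ha0 hz).1 hza.symm, by field_simp⟩
      · rintro ⟨r, hr, rfl⟩
        have hr0 := ne_zero_rts D.A.epos hr
        exact ⟨mul_ne_zero ha0 hr0, ((hF.eq_iff a _ ha0 (mul_ne_zero ha0 hr0)).2
          (by rwa [mul_div_cancel_left₀ _ ha0])).symm⟩
    have hterm : ∀ z ∈ (univ.erase (0 : ZMod p)).filter (fun z => F z = F a),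
        b z * nw = M (F a) * V (F a) := by
      intro z hz
      obtain ⟨hz0, hza⟩ := mem_filter.1 hz
      have h1 := hb z (mem_erase.1 hz0).1
      rw [hza, hM] at h1
      have h2 := hV (F a)
      rw [hF.wt_eq hh ha0, hnw] at h2
      rw [Nat.cast_inj.1 h1, Nat.cast_inj.1 h2]
    rw [Finset.sum_congr rfl hterm, sum_const, hfib, card_image_of_injective _ (mul_right_injective₀ ha0),
      D.A.card_rts, smul_eq_mul]
  rw [hSeq, hWsum, ← Nat.mul_add, add_comm, Finset.sum_sdiff (subset_univ S)]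

/-- The slot inequality. -/
theorem Fam.slot {D : Data P x e t} {w : Subgroup.center G →* ℂ} {F : ZMod p → IrrCharacter G}
    {n : ℕ} {ε : ℤ} (hF : Fam D w F n ε) (hh : Gen x e h a₀) {f : G → ℂ} (hf : IsCharacter G f)
    (u : ZMod e) (b : ZMod p → ℕ) (hb : ∀ z, z ≠ 0 → classInner f (F z : G → ℂ) = b z)
    {nw W : ℕ} (hnw : wt x h p (F 1 : G → ℂ) u = nw) (hW : wt x h p f u = W)
    (T : Finset (IrrCharacter G)) (m v : IrrCharacter G → ℕ)
    (hT : ∀ χ ∈ T, ∀ a, a ≠ 0 → χ ≠ F a)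
    (hm : ∀ χ ∈ T, classInner f (χ : G → ℂ) = m χ) (hv : ∀ χ ∈ T, wt x h p (χ : G → ℂ) u = v χ) :
    (∑ z ∈ univ.erase (0 : ZMod p), b z) * nw + e * ∑ χ ∈ T, m χ * v χ ≤ e * W := by
  classical
  choose M hM using fun χ : IrrCharacter G => classInner_char_nat hf (isCharacter_of_irr χ.2)
  choose V hV using fun χ : IrrCharacter G => hh.wt_nat D (isCharacter_of_irr χ.2) u
  rw [← hF.slot_eq hh hf u b hb hnw hW M V hM hV]
  refine Nat.add_le_add_left (Nat.mul_le_mul_left _ ?_) _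
  rw [Finset.sum_congr rfl fun χ hχ => show m χ * v χ = M χ * V χ by
    have h1 := hm χ hχ; rw [hM] at h1
    have h2 := hv χ hχ; rw [hV] at h2
    rw [Nat.cast_inj.1 h1, Nat.cast_inj.1 h2]]
  refine Finset.sum_le_sum_of_subset fun χ hχ => mem_sdiff.2 ⟨mem_univ _, fun h' => ?_⟩
  obtain ⟨a, ha, rfl⟩ := mem_image.1 h'
  exact hT _ hχ a (mem_erase.1 ha).1 rfl

end CfsgLib.FeitSmall
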