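import Cfsg.Agent.Lib.FeitSmall.Coset
import Cfsg.Agent.Lib.Blocks.Unramified

/-!
# An unramified form of the residual character
-/

namespace CfsgLib.FeitSmall

open Cfsg CfsgLib.Blocks CfsgLib.Blocks.DefectOne CfsgLib.CharTheory CfsgLib.CharTheory.SmallDegree
open CfsgLib.SmallSylow Finset
open scoped ComplexConjugate

set_option linter.unusedVariables false
set_option linter.style.haveILetI false
set_option linter.unusedSectionVars false

universe u

variable {p : ℕ} [Fact p.Prime] {G : Type u} [Group G] [Fintype G] {P : Sylow p G} {x : G} {e t : ℕ}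
  [NeZero e] {D : Data P x e t} {h : G} {a₀ : ZMod p} {M : Ideal AlgInt}

theorem value_singular [Fintype (P : Subgroup G)] [Fintype (cen (P : Subgroup G))]
    (D : Data P x e t) (hH : Compl (P : Subgroup G) (Subgroup.center G)) {f : G → ℂ}
    (hf : IsClassFunction G f) (hcen : HasCen f (1 : Subgroup.center G →* ℂ)) {b : ℕ}
    (hm : ∀ z : ZMod p, mult x f z = (b : ℂ) + (if z = 0 then 1 else 0)) {g : G}
    (hg : p ∣ orderOf g) : f g = 1 := by
  classical
  set y := g ^ (orderOf g / p) with hy
  have hyo : orderOf y = p := by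
    rw [hy, orderOf_pow_orderOf_div (orderOf_pos g).ne' hg]
  obtain ⟨Q, hQ⟩ := (IsPGroup.of_card (n := 1) (G := Subgroup.zpowers y)
    (by rw [Nat.card_zpowers, hyo, pow_one])).exists_le_sylow
  obtain ⟨c, hc⟩ := MulAction.exists_smul_eq G Q P
  have hcy : c * y * c⁻¹ ∈ (P : Subgroup G) := by
    rw [← hc]
    exact ⟨y, hQ (Subgroup.mem_zpowers y), rfl⟩
  have hne : c * y * c⁻¹ ≠ 1 := by
    rw [Ne, conj_eq_one_iff]
    intro h1
    rw [h1, orderOf_one] at hyo
    exact (Fact.out : p.Prime).ne_one hyo.symm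
  have hgc : c * g * c⁻¹ ∈ cen (P : Subgroup G) := by
    refine D.setup.free hcy hne ?_
    rw [hy, ← conj_pow, (Commute.self_pow _ _).eq, mul_inv_cancel_right]
  obtain ⟨q, hq, z, hz, hqz⟩ := hH.prod _ hgc
  obtain ⟨k, rfl⟩ := D.exists_xp hq
  rw [← hf g c, hqz, show z = ((⟨z, hz⟩ : Subgroup.center G) : G) from rfl, hcen, MonoidHom.one_apply,
    one_mul, mult_expand f k]
  have hk : k ≠ 0 := by
    rintro rfl
    rw [xp_zero, one_mul] at hqz
    refine hne ?_
    have h1 : c * y * c⁻¹ ∈ (P : Subgroup G) ⊓ Subgroup.center G := ⟨hcy, by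
      rw [hy, ← conj_pow, hqz]; exact pow_mem hz _⟩
    rwa [hH.inf, Subgroup.mem_bot] at h1
  simp only [hm, add_mul, ite_mul, one_mul, zero_mul, Finset.sum_add_distrib, Finset.sum_ite_eq',
    mem_univ, if_true, AddChar.map_zero_eq_one, ← Finset.mul_sum]
  rw [show ∑ z : ZMod p, psi p (z * k) = 0 by rw [sum_psi_mul, if_neg hk]]
  ring

theorem mem_Wr_of_values [Fintype (P : Subgroup G)] [Fintype (cen (P : Subgroup G))]
    (D : Data P x e t) (hM : IsPModular p M) (hH : Compl (P : Subgroup G) (Subgroup.center G))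
    (X : IrrCharacter G) (hcen : HasCen (X : G → ℂ) (1 : Subgroup.center G →* ℂ)) {b : ℕ}
    (hm : ∀ z : ZMod p, mult x (X : G → ℂ) z = (b : ℂ) + (if z = 0 then 1 else 0)) (g : G) :
    (X : G → ℂ) g ∈ Wr hM := by
  classical
  by_cases hg : p ∣ orderOf g
  · rw [value_singular D hH (isClassFunction_irr X.2) hcen hm hg]; exact one_mem _
  · have h1 := char_mem_regRing (p := p) (isCharacter_restrict (isCharacter_of_irr X.2) (Subgroup.zpowers g))
      (by rw [Nat.card_zpowers]; exact hg) ⟨g, Subgroup.mem_zpowers g⟩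
    exact regRing_le_Wr hM h1

/-- The idempotent of the trivial weight. -/
theorem exists_fixed_vector (hh : Gen x e h a₀) (D : Data P x e t) {d : ℕ}
    (R : Representation ℂ G (Fin d → ℂ)) (hw : wt x h p R.character (0 : ZMod e) = 1) :
    ∃ (v₀ : Fin d → ℂ) (l : (Fin d → ℂ) →ₗ[ℂ] ℂ), l v₀ = 1 ∧ ∀ g, l (R g v₀) =
      ((p : ℂ) * e)⁻¹ * ∑ k : ZMod p, ∑ j : ZMod e, R.character (g * (xp x k * hq h j)) := by
  classical
  have hp0 : (p : ℂ) ≠ 0 := Nat.cast_ne_zero.2 (Fact.out : p.Prime).ne_zero
  have he0 : (e : ℂ) ≠ 0 := Nat.cast_ne_zero.2 (NeZero.ne e)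
  set A : Module.End ℂ (Fin d → ℂ) := ∑ k : ZMod p, R (xp x k) with hA
  set B : Module.End ℂ (Fin d → ℂ) := ∑ j : ZMod e, R (hq h j) with hB
  have hAA : A * A = (p : ℂ) • A := by
    rw [hA, Finset.sum_mul_sum, Finset.sum_congr rfl fun i _ =>
      show ∑ k : ZMod p, R (xp x i) * R (xp x k) = ∑ k, R (xp x k) from
        Fintype.sum_equiv (Equiv.addLeft i) _ _ fun k => by
          rw [Equiv.coe_addLeft, xp_add D.pow, map_mul],
      sum_const, card_univ, ZMod.card, ← Nat.cast_smul_eq_nsmul ℂ]
  have hBB : B * B = (e : ℂ) • B := by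
    rw [hB, Finset.sum_mul_sum, Finset.sum_congr rfl fun i _ =>
      show ∑ j : ZMod e, R (hq h i) * R (hq h j) = ∑ j : ZMod e, R (hq h j) from
        Fintype.sum_equiv (Equiv.addLeft i) _ _ fun k => by
          rw [Equiv.coe_addLeft, hq_add hh, map_mul],
      sum_const, card_univ, ZMod.card, ← Nat.cast_smul_eq_nsmul ℂ]
  have hcomm : Commute A B := by
    rw [hA, hB]
    refine Commute.sum_right _ _ _ fun j _ => ?_
    show (∑ k : ZMod p, R (xp x k)) * R (hq h j) = R (hq h j) * ∑ k : ZMod p, R (xp x k)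
    rw [Finset.sum_mul, Finset.mul_sum]
    symm
    refine Fintype.sum_equiv (Equiv.mulLeft₀ (a₀ ^ j.val) (pow_ne_zero _
      (hh.root.ne_zero (NeZero.ne e)))) _ _ fun k => ?_
    rw [Equiv.mulLeft₀_apply, ← map_mul, ← map_mul, ← hh.conj_xp D, hq, inv_mul_cancel_right]
  set E := ((p : ℂ) * e)⁻¹ • (A * B) with hE
  have hEE : E * E = E := by
    rw [hE, smul_mul_smul_comm, mul_assoc A, ← mul_assoc B, ← hcomm.eq, mul_assoc A B, hBB,
      mul_smul_comm, mul_smul_comm, ← mul_assoc, hAA, smul_mul_assoc, smul_smul, smul_smul]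
    congr 1
    field_simp
  have hexp : ∀ g, LinearMap.trace ℂ _ (R g * E) =
      ((p : ℂ) * e)⁻¹ * ∑ k : ZMod p, ∑ j : ZMod e, R.character (g * (xp x k * hq h j)) := by
    intro g
    rw [hE, hA, hB, Finset.sum_mul_sum, mul_smul_comm, map_smul, smul_eq_mul, Finset.mul_sum, map_sum]
    refine congrArg _ (Finset.sum_congr rfl fun k _ => ?_)
    rw [Finset.mul_sum, map_sum]
    refine Finset.sum_congr rfl fun j _ => ?_
    rw [← map_mul, ← map_mul]
    rfl
  have hcl : IsClassFunction G R.character := isClassFunction_char ⟨d, R, rfl⟩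
  have htr : LinearMap.trace ℂ _ E = 1 := by
    have h1 := hexp 1
    rw [map_one, one_mul] at h1
    rw [h1, ← hw, wt, Finset.sum_comm, ← Finset.add_sum_erase _ _ (mem_univ (0 : ZMod e))]
    have h0 : ∑ k : ZMod p, R.character (1 * (xp x k * hq h (0 : ZMod e))) =
        (p : ℂ) * mult x R.character (0 : ZMod p) := by
      rw [mult, mul_inv_cancel_left₀ hp0]
      refine Finset.sum_congr rfl fun k _ => ?_
      rw [one_mul, hq_zero, mul_one, zero_mul, neg_zero, AddChar.map_zero_eq_one, mul_one]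
    rw [h0, Finset.sum_congr rfl fun j hj => show
      ∑ k : ZMod p, R.character (1 * (xp x k * hq h j)) =
        (p : ℂ) * (R.character (hq h j) * psiE e (-((0 : ZMod e) * j))) by
      rw [zero_mul, neg_zero, AddChar.map_zero_eq_one, mul_one,
        Finset.sum_congr rfl fun k _ => by rw [one_mul, hh.value_coset D hcl (mem_erase.1 hj).1],
        sum_const, card_univ, ZMod.card, nsmul_eq_mul], ← Finset.mul_sum]
    field_simp
  have hproj : LinearMap.IsProj (LinearMap.range E) E :=
    ⟨fun v => LinearMap.mem_range_self _ v, by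
      rintro _ ⟨y, rfl⟩; exact LinearMap.congr_fun hEE y⟩
  have hr1 : Module.finrank ℂ (LinearMap.range E) = 1 := by
    have h1 := hproj.trace
    rw [htr] at h1
    exact_mod_cast h1.symm
  obtain ⟨⟨v₀, hv₀⟩, hv0, hall⟩ := finrank_eq_one_iff'.1 hr1
  choose c hc using fun w : Fin d → ℂ => hall ⟨E w, LinearMap.mem_range_self E w⟩
  have hc' : ∀ w, c w • v₀ = E w := fun w => congrArg Subtype.val (hc w)
  have hv0' : v₀ ≠ 0 := fun h0 => hv0 (Subtype.ext h0)
  let l : (Fin d → ℂ) →ₗ[ℂ] ℂ :=
    { toFun := c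
      map_add' := fun a b => smul_left_injective ℂ hv0' (by
        simp only [add_smul, hc', map_add])
      map_smul' := fun r a => smul_left_injective ℂ hv0' (by
        simp only [RingHom.id_apply, smul_eq_mul, mul_smul, hc', map_smul]) }
  refine ⟨v₀, l, smul_left_injective ℂ hv0' ?_, fun g => ?_⟩
  · show c v₀ • v₀ = (1 : ℂ) • v₀
    rw [one_smul, hc', hproj.map_id v₀ hv₀]
  · rw [← hexp g, show R g * E = l.smulRight (R g v₀) from LinearMap.ext fun w => by
      show R g (E w) = c w • R g v₀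
      rw [← hc', map_smul], LinearMap.trace_smulRight]

/-- The residual character is afforded over the unramified ring. -/
theorem exists_Wr_rep [Fintype (P : Subgroup G)] [Fintype (cen (P : Subgroup G))]
    (hh : Gen x e h a₀) (D : Data P x e t) (hM : IsPModular p M)
    (hH : Compl (P : Subgroup G) (Subgroup.center G))
    (X : IrrCharacter G) (hcen : HasCen (X : G → ℂ) (1 : Subgroup.center G →* ℂ))
    (hw : wt x h p (X : G → ℂ) (0 : ZMod e) = 1) {b : ℕ}
    (hm : ∀ z : ZMod p, mult x (X : G → ℂ) z = (b : ℂ) + (if z = 0 then 1 else 0)) :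
    ∃ R : G →* Matrix (Fin (p * b + 1)) (Fin (p * b + 1)) (Wr hM),
      ∀ g, ((Matrix.trace (R g) : Wr hM) : ℂ) = (X : G → ℂ) g := by
  classical
  haveI := Wr_dvr hM
  set W := Wr hM with hWdef
  obtain ⟨d, R₀, hirr, hχ⟩ := id X.2
  haveI := hirr
  have hd : d = p * b + 1 := by
    have h1 : R₀.character 1 = (d : ℂ) := by
      rw [R₀.char_one, Module.finrank_fintype_fun_eq_card, Fintype.card_fin]
    rw [hχ, ← sum_mult (x := x) (p := p) (X : G → ℂ)] at h1
    simp only [hm, Finset.sum_add_distrib, sum_const, card_univ, ZMod.card, Finset.sum_ite_eq',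
      mem_univ, if_true, nsmul_eq_mul] at h1
    exact_mod_cast h1.symm
  subst hd
  obtain ⟨v₀, l, hl, hlg⟩ := exists_fixed_vector hh D R₀ (by rw [hχ]; exact hw)
  set F : G → G → W := fun a g => ⟨∑ k : ZMod p, ∑ j : ZMod e, (X : G → ℂ) (g * a * (xp x k * hq h j)),
    Subring.sum_mem _ fun k _ => Subring.sum_mem _ fun j _ => mem_Wr_of_values D hM hH X hcen hm _⟩ with hF
  let L : Submodule W (G → W) := Submodule.span W (Set.range F)
  haveI : Module.Finite W L := Module.Finite.span_of_finite W (Set.finite_range F)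
  let b0 := Module.Free.chooseBasis W L
  let bL := b0.reindex (Fintype.equivFin _)
  set n := Fintype.card (Module.Free.ChooseBasisIndex W L)
  let tr : G → ((G → W) →ₗ[W] (G → W)) := fun g => LinearMap.funLeft W W (fun z => z * g)
  have hLinv : ∀ g, ∀ y ∈ L, tr g y ∈ L := fun g y hy => by
    induction hy using Submodule.span_induction with
    | mem y hy =>
      obtain ⟨a, rfl⟩ := hy
      exact Submodule.subset_span ⟨g * a, funext fun z => Subtype.ext (by
        show _ = (F a (z * g) : ℂ)
        simp only [F, mul_assoc])⟩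
    | zero => rw [map_zero]; exact L.zero_mem
    | add _ _ _ _ h1 h2 => rw [map_add]; exact L.add_mem h1 h2
    | smul r _ _ h1 => rw [map_smul]; exact L.smul_mem r h1
  let ρL : G → Module.End W L := fun g => (tr g).restrict (hLinv g)
  have hmul : ∀ g g', ρL (g * g') = ρL g * ρL g' := fun g g' => by
    refine LinearMap.ext fun y => Subtype.ext (funext fun z => ?_)
    show (y : G → W) (z * (g * g')) = (y : G → W) (z * g * g')
    rw [mul_assoc]
  have hone : ρL 1 = 1 := LinearMap.ext fun y => Subtype.ext (funext fun z => by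
    show (y : G → W) (z * 1) = (y : G → W) z
    rw [mul_one])
  -- the complex space of coefficient functions
  let T : (Fin (p * b + 1) → ℂ) →ₗ[ℂ] (G → ℂ) :=
    LinearMap.pi fun g => ((p : ℂ) * e) • l.comp (R₀ g)
  have hpe : ((p : ℂ) * e) ≠ 0 := mul_ne_zero (Nat.cast_ne_zero.2 (Fact.out : p.Prime).ne_zero)
    (Nat.cast_ne_zero.2 (NeZero.ne e))
  have hTF : ∀ a, T (R₀ a v₀) = fun g => ((F a g : W) : ℂ) := fun a => funext fun g => by
    show ((p : ℂ) * e) • l (R₀ g (R₀ a v₀)) = _
    rw [← Module.End.mul_apply, ← map_mul, hlg, hχ, smul_eq_mul, mul_inv_cancel_left₀ hpe]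
  have hTeq : ∀ g w, T (R₀ g w) = fun z => T w (z * g) := fun g w => funext fun z => by
    show ((p : ℂ) * e) • l (R₀ z (R₀ g w)) = ((p : ℂ) * e) • l (R₀ (z * g) w)
    rw [map_mul]; rfl
  have hTinj : Function.Injective T := by
    rw [← LinearMap.ker_eq_bot]
    let K : Subrepresentation R₀ := ⟨LinearMap.ker T, fun g w hw' => by
      rw [LinearMap.mem_ker] at hw' ⊢
      rw [hTeq, hw']; rfl⟩
    have hK : K = ⊥ ∨ K = ⊤ := eq_bot_or_eq_top K
    rcases hK with hK | hK
    · exact congrArg Subrepresentation.toSubmodule hK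
    · exfalso
      have h1 : v₀ ∈ LinearMap.ker T := by
        have := congrArg Subrepresentation.toSubmodule hK
        show v₀ ∈ K.toSubmodule
        rw [this]; exact Submodule.mem_top
      have h2 := congrFun (LinearMap.mem_ker.1 h1) 1
      change ((p : ℂ) * e) • l (R₀ 1 v₀) = 0 at h2
      rw [map_one, Module.End.one_apply, hl, smul_eq_mul, mul_one] at h2
      exact hpe h2
  let ι : L → (G → ℂ) := fun y g => (((y : G → W) g : W) : ℂ)
  have hmem : ∀ y : L, ι y ∈ LinearMap.range T := by
    rintro ⟨y, hy⟩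
    induction hy using Submodule.span_induction with
    | mem y hy => obtain ⟨a, rfl⟩ := hy; exact ⟨R₀ a v₀, hTF a⟩
    | zero => exact ⟨0, by rw [map_zero]; rfl⟩
    | add a c _ _ h1 h2 =>
      obtain ⟨a', ha'⟩ := h1; obtain ⟨c', hc'⟩ := h2
      exact ⟨a' + c', by rw [map_add, ha', hc']; rfl⟩
    | smul r a _ h1 =>
      obtain ⟨a', ha'⟩ := h1
      exact ⟨(r : ℂ) • a', by rw [map_smul, ha']; rfl⟩
  choose u hu using fun i => hmem (bL i)
  have hli : LinearIndependent ℂ u := by
    refine LinearIndependent.of_comp T ?_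
    refine Wr_linearIndependent hM (v := fun i => T (u i)) (fun i g => ?_) fun a ha => ?_
    · rw [hu]; exact ((bL i : G → W) g).2
    · have h1 : ∑ i, a i • bL i = 0 := Subtype.ext (funext fun g => Subtype.ext (by
        have h2 := ha g
        simp only [hu, ι] at h2
        simpa [Finset.sum_apply] using h2))
      exact funext fun i => Fintype.linearIndependent_iff.1 bL.linearIndependent a h1 i
  have hspan : Submodule.span ℂ (Set.range u) = ⊤ := by
    let S : Subrepresentation R₀ := ⟨Submodule.span ℂ (Set.range fun a => R₀ a v₀), fun g w hw' => by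
      induction hw' using Submodule.span_induction with
      | mem y hy => obtain ⟨a, rfl⟩ := hy; exact Submodule.subset_span ⟨g * a, by beta_reduce; rw [map_mul]; rfl⟩
      | zero => rw [map_zero]; exact Submodule.zero_mem _
      | add _ _ _ _ h1 h2 => rw [map_add]; exact Submodule.add_mem _ h1 h2
      | smul r _ _ h1 => rw [map_smul]; exact Submodule.smul_mem _ r h1⟩
    have hS : S = ⊥ ∨ S = ⊤ := eq_bot_or_eq_top S
    have hv0 : v₀ ∈ S.toSubmodule := Submodule.subset_span ⟨1, by beta_reduce; rw [map_one]; rfl⟩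
    rcases hS with hS | hS
    · exfalso
      rw [congrArg Subrepresentation.toSubmodule hS] at hv0
      change v₀ ∈ (⊥ : Submodule ℂ (Fin (p * b + 1) → ℂ)) at hv0
      rw [Submodule.mem_bot] at hv0
      rw [hv0, map_zero] at hl
      exact zero_ne_one hl
    · rw [eq_top_iff, ← show S.toSubmodule = ⊤ from congrArg Subrepresentation.toSubmodule hS]
      refine Submodule.span_le.2 ?_
      rintro _ ⟨a, rfl⟩
      have h1 := bL.sum_repr ⟨F a, Submodule.subset_span ⟨a, rfl⟩⟩
      suffices R₀ a v₀ = ∑ i, ((bL.repr ⟨F a, Submodule.subset_span ⟨a, rfl⟩⟩ i : W) : ℂ) • u i by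
        beta_reduce
        rw [SetLike.mem_coe, this]
        exact Submodule.sum_mem _ fun i _ => Submodule.smul_mem _ _ (Submodule.subset_span ⟨i, rfl⟩)
      refine hTinj ?_
      rw [hTF, map_sum]
      funext g
      have h2 := congrArg (fun y : L => (((y : G → W) g : W) : ℂ)) h1
      simp only [map_smul, hu, Finset.sum_apply, Pi.smul_apply, smul_eq_mul, ι]
      simp only [Submodule.coe_sum, Submodule.coe_smul, Finset.sum_apply, Pi.smul_apply, smul_eq_mul,
        AddSubmonoidClass.coe_finsetSum, Subring.coe_mul] at h2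
      exact h2.symm
  let bV := Module.Basis.mk hli hspan.ge
  have hn : n = p * b + 1 := by
    have := Module.finrank_eq_card_basis bV
    rw [Module.finrank_fintype_fun_eq_card, Fintype.card_fin, Fintype.card_fin] at this
    exact this.symm
  let e' : Fin n ≃ Fin (p * b + 1) := finCongr hn
  let bL' := bL.reindex e'
  let ρ : G →* Matrix (Fin (p * b + 1)) (Fin (p * b + 1)) W :=
    { toFun := fun g => LinearMap.toMatrix bL' bL' (ρL g)
      map_one' := by rw [hone]; exact LinearMap.toMatrix_one bL'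
      map_mul' := fun g g' => by rw [hmul]; exact LinearMap.toMatrix_mul bL' _ _ }
  refine ⟨ρ, fun g => ?_⟩
  let bV' := bV.reindex e'
  have key : ∀ j, R₀ g (bV' j) = ∑ i, ((ρ g i j : W) : ℂ) • bV' i := by
    intro j
    refine hTinj (funext fun z => ?_)
    have h1 := bL'.sum_repr (ρL g (bL' j))
    have h2 := congrArg (fun y : L => (((y : G → W) z : W) : ℂ)) h1
    simp only [Module.Basis.reindex_apply, bV', bV, Module.Basis.mk_apply, hTeq, map_sum, map_smul, hu,
      Finset.sum_apply, Pi.smul_apply, smul_eq_mul, ι, bL', ρ, MonoidHom.coe_mk, OneHom.coe_mk,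
      LinearMap.toMatrix_apply] at h2 ⊢
    refine Eq.trans h2.symm ?_
    simp [Finset.sum_apply]
  rw [← hχ]
  show _ = LinearMap.trace ℂ _ (R₀ g)
  rw [LinearMap.trace_eq_matrix_trace ℂ bV', Matrix.trace, Matrix.trace, AddSubmonoidClass.coe_finsetSum]
  refine Finset.sum_congr rfl fun i _ => ?_
  rw [Matrix.diag_apply, Matrix.diag_apply, LinearMap.toMatrix_apply, key, map_sum, Finsupp.finsetSum_apply,
    Finset.sum_eq_single i (fun k _ hk => by simp [hk]) (fun h' => absurd (mem_univ _) h')]
  simp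

end CfsgLib.FeitSmall
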